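import Groth.Prelude.Def_HopfRep
import Groth.Prelude.Def_Hoch
import Mathlib.RingTheory.Coalgebra.Convolution
import Mathlib.LinearAlgebra.TensorProduct.Basis
import Mathlib.RingTheory.Finiteness.Basic
import Mathlib.LinearAlgebra.FreeModule.Basic
import Mathlib.Algebra.Algebra.Bilinear

/-!
# Comodules through the action of the convolution algebra of linear forms

For a right `C`-comodule `V`, every linear form `φ` on `C` acts by `v ↦ (id ⊗ φ) (coact v)`. This is an action of the
convolution algebra `WithConv (C →ₗ[k] k)`. When `C` is free over `k` the subcomodules are exactly the submodules for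
this action, and comodule maps are exactly the maps commuting with it.
-/

universe u v w w'

open TensorProduct WithConv

namespace Groth.Agent.ComodLib

variable {k : Type u} [CommRing k] {C : Type v} [AddCommGroup C] [Module k C]
variable {V : Type w} [AddCommGroup V] [Module k V]
variable {W : Type w'} [AddCommGroup W] [Module k W]

/-- `x ↦ (id ⊗ φ) x` read in `V`. -/
noncomputable def slice (φ : C →ₗ[k] k) : V ⊗[k] C →ₗ[k] V :=
  (TensorProduct.rid k V).toLinearMap ∘ₗ LinearMap.lTensor V φ

@[simp] theorem slice_tmul (φ : C →ₗ[k] k) (v : V) (c : C) : slice φ (v ⊗ₜ[k] c) = φ c • v := by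
  simp [slice]

theorem slice_rTensor (φ : C →ₗ[k] k) (f : V →ₗ[k] W) (x : V ⊗[k] C) :
    slice φ (f.rTensor C x) = f (slice φ x) := by
  induction x using TensorProduct.induction_on with
  | zero => simp
  | tmul a b => simp
  | add a b ha hb => simp only [map_add, ha, hb]

theorem slice_lTensor {D : Type*} [AddCommGroup D] [Module k D] (φ : D →ₗ[k] k) (g : C →ₗ[k] D)
    (x : V ⊗[k] C) : slice φ (g.lTensor V x) = slice (φ ∘ₗ g) x := by
  induction x using TensorProduct.induction_on with
  | zero => simp
  | tmul a b => simp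
  | add a b ha hb => simp only [map_add, ha, hb]

theorem slice_add (φ ψ : C →ₗ[k] k) (x : V ⊗[k] C) : slice (φ + ψ) x = slice φ x + slice ψ x := by
  simp [slice, LinearMap.lTensor_add]

theorem slice_smul (r : k) (φ : C →ₗ[k] k) (x : V ⊗[k] C) : slice (r • φ) x = r • slice φ x := by
  simp [slice, LinearMap.lTensor_smul]

section Free

variable [Module.Free k C]

theorem eq_zero_of_forall_slice_eq_zero {x : V ⊗[k] C} (h : ∀ φ : C →ₗ[k] k, slice φ x = 0) :
    x = 0 := by
  classical
  let b := Module.Free.chooseBasis k C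
  apply (TensorProduct.equivFinsuppOfBasisRight b).injective
  ext i
  rw [TensorProduct.equivFinsuppOfBasisRight_apply, map_zero, Finsupp.zero_apply]
  exact h (b.coord i)

theorem ext_of_forall_slice_eq {x y : V ⊗[k] C} (h : ∀ φ : C →ₗ[k] k, slice φ x = slice φ y) :
    x = y :=
  sub_eq_zero.mp (eq_zero_of_forall_slice_eq_zero fun φ => by rw [map_sub, h, sub_self])

theorem mem_range_rTensor_subtype_iff (U : Submodule k V) (x : V ⊗[k] C) :
    x ∈ LinearMap.range (U.subtype.rTensor C) ↔ ∀ φ : C →ₗ[k] k, slice φ x ∈ U := by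
  classical
  constructor
  · rintro ⟨y, rfl⟩ φ
    rw [slice_rTensor]
    exact (slice φ y).2
  · intro h
    let b := Module.Free.chooseBasis k C
    have hx : x = (TensorProduct.equivFinsuppOfBasisRight b x).sum fun i m => m ⊗ₜ[k] b i := by
      rw [← TensorProduct.equivFinsuppOfBasisRight_symm_apply, LinearEquiv.symm_apply_apply]
    have hf : ∀ i, TensorProduct.equivFinsuppOfBasisRight b x i ∈ U := fun i => by
      rw [TensorProduct.equivFinsuppOfBasisRight_apply]
      exact h (b.coord i)
    rw [hx]
    exact Submodule.sum_mem _ fun i _ => ⟨(⟨_, hf i⟩ : U) ⊗ₜ[k] b i, by rw [LinearMap.rTensor_tmul]; rfl⟩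

end Free

variable [Coalgebra k C] [HopfRep.Comod k C V] [HopfRep.Comod k C W]

open HopfRep (Comod)

/-- The action of a linear form on the coalgebra: `v ↦ (id ⊗ φ) (coact v)`. -/
noncomputable def actF (φ : C →ₗ[k] k) : V →ₗ[k] V :=
  slice φ ∘ₗ Comod.coact (k := k) (A := C)

theorem actF_apply (φ : C →ₗ[k] k) (v : V) :
    actF φ v = slice φ (Comod.coact (k := k) (A := C) v) := rfl

theorem actF_add (φ ψ : C →ₗ[k] k) : (actF (φ + ψ) : V →ₗ[k] V) = actF φ + actF ψ := by
  ext v; simp [actF_apply, slice_add]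

theorem actF_zero : (actF (0 : C →ₗ[k] k) : V →ₗ[k] V) = 0 := by
  ext v; simp [actF_apply, slice]

theorem actF_smul (r : k) (φ : C →ₗ[k] k) : (actF (r • φ) : V →ₗ[k] V) = r • actF φ := by
  ext v; simp [actF_apply, slice_smul]

theorem actF_counit (v : V) : actF (Coalgebra.counit (R := k) (A := C)) v = v := by
  have h := LinearMap.congr_fun (Comod.counit_comp (k := k) (A := C) (V := V)) v
  simp only [LinearMap.comp_apply, LinearMap.flip_apply, TensorProduct.mk_apply] at h
  simp [actF_apply, slice, h]

/-- Coassociativity, read through two forms. -/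
theorem actF_convMul (φ ψ : WithConv (C →ₗ[k] k)) (v : V) :
    actF (φ * ψ).ofConv v = actF φ.ofConv (actF ψ.ofConv v) := by
  let G : V ⊗[k] (C ⊗[k] C) →ₗ[k] V :=
    (TensorProduct.rid k V).toLinearMap ∘ₗ
      LinearMap.lTensor V (LinearMap.mul' k k ∘ₗ TensorProduct.map φ.ofConv ψ.ofConv)
  have key : ∀ z : V ⊗[k] C,
      actF φ.ofConv (slice ψ.ofConv z) =
        G (TensorProduct.assoc k V C C ((Comod.coact (k := k) (A := C)).rTensor C z)) := by
    intro z
    induction z using TensorProduct.induction_on with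
    | zero => simp
    | tmul a c =>
      rw [slice_tmul, map_smul, actF_apply, LinearMap.rTensor_tmul]
      generalize (Comod.coact (k := k) (A := C) a) = x
      induction x using TensorProduct.induction_on with
      | zero => simp
      | tmul a' c' => simp [G, smul_smul, mul_comm]
      | add p q hp hq => simp only [map_add, smul_add, TensorProduct.add_tmul, hp, hq]
    | add p q hp hq => simp only [map_add, hp, hq]
  have h := LinearMap.congr_fun (Comod.coassoc (k := k) (A := C) (V := V)) v
  simp only [LinearMap.comp_apply, LinearEquiv.coe_coe] at h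
  rw [actF_apply ψ.ofConv, key, h]
  simp only [G, actF_apply, slice, LinearMap.comp_apply, LinearEquiv.coe_coe]
  rw [← LinearMap.comp_apply (LinearMap.lTensor V _) (LinearMap.lTensor V _), ← LinearMap.lTensor_comp]
  rfl

/-- The semiring of forms, in the form used by the theory of modules over a ring. -/
noncomputable scoped instance (priority := high) convSemiringOfRing (k : Type u) [CommRing k] (C : Type v)
    [AddCommGroup C] [Module k C] [Coalgebra k C] : Semiring (WithConv (C →ₗ[k] k)) :=
  (LinearMap.convRing (R := k) (C := C) (A := k)).toSemiring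

/-- The convolution algebra of forms acting on a comodule. -/
noncomputable def convAction (k : Type u) [CommRing k] (C : Type v) [AddCommGroup C] [Module k C]
    [Coalgebra k C] (V : Type w) [AddCommGroup V] [Module k V] [HopfRep.Comod k C V] :
    WithConv (C →ₗ[k] k) →ₐ[k] Module.End k V where
  toFun φ := actF φ.ofConv
  map_one' := by
    ext v
    rw [Module.End.one_apply]
    exact (congrArg (fun f : C →ₗ[k] k => actF f v) (by ext c; simp)).trans (actF_counit (k := k) (C := C) v)
  map_mul' φ ψ := LinearMap.ext fun v => actF_convMul φ ψ v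
  map_zero' := by
    ext v
    exact LinearMap.congr_fun (actF_zero (k := k) (C := C) (V := V)) v
  map_add' φ ψ := actF_add _ _
  commutes' r := by
    ext v
    rw [Module.algebraMap_end_apply]
    show actF _ v = r • v
    rw [Algebra.algebraMap_eq_smul_one]
    rw [show (r • (1 : WithConv (C →ₗ[k] k))).ofConv = r • Coalgebra.counit (R := k) (A := C) from by
      ext c; simp, actF_smul, LinearMap.smul_apply, actF_counit]

/-- The module structure over the convolution algebra given by a comodule structure. -/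
noncomputable scoped instance convModule : Module (WithConv (C →ₗ[k] k)) V :=
  Module.compHom V (convAction k C V).toRingHom

theorem conv_smul_def (φ : WithConv (C →ₗ[k] k)) (v : V) : φ • v = actF φ.ofConv v := rfl

scoped instance isScalarTower_conv : IsScalarTower k (WithConv (C →ₗ[k] k)) V where
  smul_assoc r φ v := by
    rw [conv_smul_def, conv_smul_def, show (r • φ).ofConv = r • φ.ofConv from rfl, actF_smul,
      LinearMap.smul_apply]

scoped instance smulCommClass_conv : SMulCommClass (WithConv (C →ₗ[k] k)) k V where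
  smul_comm φ r v := map_smul (actF φ.ofConv) r v

scoped instance smulCommClass_conv' : SMulCommClass k (WithConv (C →ₗ[k] k)) V :=
  SMulCommClass.symm _ _ _

theorem comodHom_actF {f : V →ₗ[k] W} (hf : Hoch.IsComodHom C f) (φ : C →ₗ[k] k) (v : V) :
    f (actF φ v) = actF φ (f v) := by
  have h := LinearMap.congr_fun hf v
  simp only [LinearMap.comp_apply] at h
  rw [actF_apply φ (f v), h, slice_rTensor]
  rfl

/-- A comodule map is linear over the convolution algebra. -/
noncomputable def toConvLin (f : V →ₗ[k] W) (hf : Hoch.IsComodHom C f) :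
    V →ₗ[WithConv (C →ₗ[k] k)] W where
  toFun := f
  map_add' := map_add f
  map_smul' φ v := comodHom_actF hf φ.ofConv v

@[simp] theorem toConvLin_apply (f : V →ₗ[k] W) (hf : Hoch.IsComodHom C f) (v : V) :
    toConvLin f hf v = f v := rfl

theorem subcomod_actF_mem {U : Submodule k V} (hU : HopfRep.IsSubcomod (k := k) (A := C) U)
    (φ : C →ₗ[k] k) {u : V} (hu : u ∈ U) : actF φ u ∈ U := by
  obtain ⟨y, hy⟩ := hU u hu
  rw [actF_apply, ← hy, slice_rTensor]
  exact (slice φ y).2

variable [Module.Free k C]

theorem isSubcomod_iff_actF {U : Submodule k V} :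
    HopfRep.IsSubcomod (k := k) (A := C) U ↔ ∀ φ : C →ₗ[k] k, ∀ u ∈ U, actF φ u ∈ U :=
  ⟨fun h φ _ hu => subcomod_actF_mem h φ hu,
    fun h u hu => (mem_range_rTensor_subtype_iff U _).mpr fun φ => h φ u hu⟩

theorem isComodHom_iff_actF {f : V →ₗ[k] W} :
    Hoch.IsComodHom C f ↔ ∀ (φ : C →ₗ[k] k) (v : V), f (actF φ v) = actF φ (f v) := by
  refine ⟨fun h φ v => comodHom_actF h φ v, fun h => LinearMap.ext fun v => ?_⟩
  exact ext_of_forall_slice_eq fun φ => ((h φ v).symm).trans (slice_rTensor φ f _).symm

theorem isComodHom_of_convLinear (f : V →ₗ[WithConv (C →ₗ[k] k)] W) :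
    Hoch.IsComodHom C (f.restrictScalars k) :=
  isComodHom_iff_actF.mpr fun φ v => f.map_smul (toConv φ) v

/-- A submodule for the convolution algebra is a subcomodule. -/
theorem isSubcomod_restrictScalars (N : Submodule (WithConv (C →ₗ[k] k)) V) :
    HopfRep.IsSubcomod (k := k) (A := C) (N.restrictScalars k) :=
  isSubcomod_iff_actF.mpr fun φ _ hu => N.smul_mem (toConv φ) hu

/-- A subcomodule as a submodule over the convolution algebra. -/
noncomputable def toConvSub (U : Submodule k V) (hU : HopfRep.IsSubcomod (k := k) (A := C) U) :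
    Submodule (WithConv (C →ₗ[k] k)) V where
  carrier := U
  add_mem' := U.add_mem
  zero_mem' := U.zero_mem
  smul_mem' φ _ hu := subcomod_actF_mem hU φ.ofConv hu

omit [Module.Free k C] in
@[simp] theorem mem_toConvSub (U : Submodule k V) (hU : HopfRep.IsSubcomod (k := k) (A := C) U) (v : V) :
    v ∈ toConvSub U hU ↔ v ∈ U := Iff.rfl

omit [Module.Free k C] in
theorem restrictScalars_toConvSub (U : Submodule k V) (hU : HopfRep.IsSubcomod (k := k) (A := C) U) :
    (toConvSub U hU).restrictScalars k = U := rfl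

/-- Subcomodules correspond to submodules over the convolution algebra. -/
theorem exists_convSub_iff (U : Submodule k V) :
    (∃ N : Submodule (WithConv (C →ₗ[k] k)) V, N.restrictScalars k = U) ↔
      HopfRep.IsSubcomod (k := k) (A := C) U :=
  ⟨fun ⟨N, hN⟩ => hN ▸ isSubcomod_restrictScalars N, fun h => ⟨toConvSub U h, rfl⟩⟩

theorem isSubcomod_ker {f : V →ₗ[k] W} (hf : Hoch.IsComodHom C f) :
    HopfRep.IsSubcomod (k := k) (A := C) (LinearMap.ker f) :=
  isSubcomod_iff_actF.mpr fun φ u hu => by
    rw [LinearMap.mem_ker] at hu ⊢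
    rw [comodHom_actF hf, hu, map_zero]

theorem isSubcomod_map {f : V →ₗ[k] W} (hf : Hoch.IsComodHom C f) {U : Submodule k V}
    (hU : HopfRep.IsSubcomod (k := k) (A := C) U) :
    HopfRep.IsSubcomod (k := k) (A := C) (U.map f) := by
  rw [isSubcomod_iff_actF]
  rintro φ _ ⟨u, hu, rfl⟩
  exact ⟨actF φ u, subcomod_actF_mem hU φ hu, comodHom_actF hf φ u⟩

theorem isSubcomod_comap {f : V →ₗ[k] W} (hf : Hoch.IsComodHom C f) {U : Submodule k W}
    (hU : HopfRep.IsSubcomod (k := k) (A := C) U) :
    HopfRep.IsSubcomod (k := k) (A := C) (U.comap f) :=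
  isSubcomod_iff_actF.mpr fun φ u hu => by
    show f (actF φ u) ∈ U
    rw [comodHom_actF hf]
    exact subcomod_actF_mem hU φ hu

theorem isSubcomod_bot : HopfRep.IsSubcomod (k := k) (A := C) (⊥ : Submodule k V) :=
  isSubcomod_restrictScalars (C := C) (⊥ : Submodule (WithConv (C →ₗ[k] k)) V)

theorem isSubcomod_top : HopfRep.IsSubcomod (k := k) (A := C) (⊤ : Submodule k V) :=
  isSubcomod_restrictScalars (C := C) (⊤ : Submodule (WithConv (C →ₗ[k] k)) V)

theorem isSubcomod_range {f : V →ₗ[k] W} (hf : Hoch.IsComodHom C f) :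
    HopfRep.IsSubcomod (k := k) (A := C) (LinearMap.range f) := by
  rw [LinearMap.range_eq_map]
  exact isSubcomod_map hf isSubcomod_top

theorem isSubcomod_sup {U U' : Submodule k V} (h : HopfRep.IsSubcomod (k := k) (A := C) U)
    (h' : HopfRep.IsSubcomod (k := k) (A := C) U') :
    HopfRep.IsSubcomod (k := k) (A := C) (U ⊔ U') := by
  rw [isSubcomod_iff_actF]
  intro φ u hu
  obtain ⟨a, ha, b, hb, rfl⟩ := Submodule.mem_sup.mp hu
  rw [map_add]
  exact Submodule.add_mem_sup (subcomod_actF_mem h φ ha) (subcomod_actF_mem h' φ hb)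

theorem isSubcomod_inf {U U' : Submodule k V} (h : HopfRep.IsSubcomod (k := k) (A := C) U)
    (h' : HopfRep.IsSubcomod (k := k) (A := C) U') :
    HopfRep.IsSubcomod (k := k) (A := C) (U ⊓ U') :=
  isSubcomod_iff_actF.mpr fun φ _ hu => ⟨subcomod_actF_mem h φ hu.1, subcomod_actF_mem h' φ hu.2⟩

theorem isSubcomod_iSup {ι : Sort*} {U : ι → Submodule k V}
    (h : ∀ i, HopfRep.IsSubcomod (k := k) (A := C) (U i)) :
    HopfRep.IsSubcomod (k := k) (A := C) (⨆ i, U i) := by
  rw [isSubcomod_iff_actF]
  intro φ
  change (⨆ i, U i) ≤ (⨆ i, U i).comap (actF φ)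
  exact iSup_le fun i u hu => le_iSup U i (subcomod_actF_mem (h i) φ hu)

theorem isSubcomod_iInf {ι : Sort*} {U : ι → Submodule k V}
    (h : ∀ i, HopfRep.IsSubcomod (k := k) (A := C) (U i)) :
    HopfRep.IsSubcomod (k := k) (A := C) (⨅ i, U i) :=
  isSubcomod_iff_actF.mpr fun φ _ hu =>
    (Submodule.mem_iInf _).mpr fun i => subcomod_actF_mem (h i) φ ((Submodule.mem_iInf _).mp hu i)

/-- The finiteness theorem: every element lies in a finitely generated subcomodule. -/
theorem exists_fg_subcomod_mem (v : V) :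
    ∃ U : Submodule k V, U ≤ LinearMap.range ((LinearMap.applyₗ v).comp
        (LinearMap.mk₂ k (fun (φ : C →ₗ[k] k) (x : V) => actF φ x)
          (fun a b x => by rw [actF_add]; rfl) (fun r a x => by rw [actF_smul]; rfl)
          (fun a x y => map_add _ x y) (fun r a x => map_smul _ r x))) ∧
      v ∈ U ∧ HopfRep.IsSubcomod (k := k) (A := C) U ∧
      ∃ S : Finset V, U ≤ Submodule.span k (S : Set V) := by
  classical
  set L := (LinearMap.applyₗ (R := k) v).comp
        (LinearMap.mk₂ k (fun (φ : C →ₗ[k] k) (x : V) => actF φ x)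
          (fun a b x => by rw [actF_add]; rfl) (fun r a x => by rw [actF_smul]; rfl)
          (fun a x y => map_add _ x y) (fun r a x => map_smul _ r x)) with hL
  refine ⟨LinearMap.range L, le_rfl, ⟨Coalgebra.counit, actF_counit v⟩, ?_, ?_⟩
  · rw [isSubcomod_iff_actF]
    rintro φ _ ⟨ψ, rfl⟩
    exact ⟨(toConv φ * toConv ψ).ofConv, actF_convMul (toConv φ) (toConv ψ) v⟩
  · obtain ⟨n, a, c, ha⟩ : ∃ (n : ℕ) (a : Fin n → V) (c : Fin n → C),
        Comod.coact (k := k) (A := C) v = ∑ i, a i ⊗ₜ[k] c i := by
      obtain ⟨S, hS⟩ := TensorProduct.exists_finset (Comod.coact (k := k) (A := C) v)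
      refine ⟨S.card, fun i => (S.equivFin.symm i).1.1, fun i => (S.equivFin.symm i).1.2, ?_⟩
      rw [hS, ← S.sum_coe_sort, ← S.equivFin.symm.sum_comp]
    refine ⟨Finset.univ.image a, ?_⟩
    rintro _ ⟨φ, rfl⟩
    show actF φ v ∈ _
    rw [actF_apply, ha, map_sum]
    refine Submodule.sum_mem _ fun i _ => ?_
    rw [slice_tmul]
    exact Submodule.smul_mem _ _ (Submodule.subset_span (by simp))

theorem exists_finite_subcomod_mem [IsNoetherianRing k] (v : V) :
    ∃ U : Submodule k V, Module.Finite k U ∧ v ∈ U ∧ HopfRep.IsSubcomod (k := k) (A := C) U := by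
  obtain ⟨U, -, hv, hU, S, hS⟩ := exists_fg_subcomod_mem (C := C) (k := k) v
  refine ⟨U, ?_, hv, hU⟩
  rw [Module.Finite.iff_fg]
  exact Submodule.FG.of_le (Submodule.fg_span S.finite_toSet) hS

theorem exists_finite_subcomod_le [IsNoetherianRing k] {s : Set V} (hs : s.Finite) :
    ∃ U : Submodule k V, Module.Finite k U ∧ s ⊆ U ∧ HopfRep.IsSubcomod (k := k) (A := C) U := by
  induction s, hs using Set.Finite.induction_on with
  | empty => exact ⟨⊥, inferInstance, Set.empty_subset _, isSubcomod_bot⟩
  | @insert a s _ _ ih =>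
    obtain ⟨U, hUf, hUs, hU⟩ := ih
    obtain ⟨U', hU'f, ha, hU'⟩ := exists_finite_subcomod_mem (C := C) (k := k) a
    exact ⟨U' ⊔ U, inferInstance, Set.insert_subset (Submodule.mem_sup_left ha)
      fun x hx => Submodule.mem_sup_right (hUs hx), isSubcomod_sup hU' hU⟩

end Groth.Agent.ComodLib
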