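import Groth.Agent.ComodLib.Coalg
import Mathlib.LinearAlgebra.Matrix.NonsingularInverse
import Mathlib.LinearAlgebra.Matrix.Adjugate

/-!
# Comodules given by matrices of coefficients; orbits of vectors; minors
-/

universe u v w w'

open TensorProduct

namespace Groth.Agent.ComodLib

section Coalg

variable {k : Type u} [CommRing k] {A : Type v} [AddCommGroup A] [Module k A] [Coalgebra k A]
variable {X : Type} [Fintype X] [DecidableEq X]

variable (k) in
/-- A comultiplicative matrix. -/
structure IsComodMatrix (M : X → X → A) : Prop where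
  comul : ∀ i j, Coalgebra.comul (R := k) (M i j) = ∑ l, M i l ⊗ₜ[k] M l j
  counit : ∀ i j, Coalgebra.counit (R := k) (M i j) = if i = j then 1 else 0

variable (k) in
/-- The coefficient vector of the coaction on `v`. -/
def orbit (M : X → X → A) (v : X → k) (x : X) : A := ∑ t, v t • M x t

/-- The comodule of a comultiplicative matrix. -/
@[reducible] noncomputable def ofMatrix (M : X → X → A) (h : IsComodMatrix k M) : HopfRep.Comod k A (X → k) where
  coact := (Pi.basisFun k X).constr k fun j => ∑ i, (Pi.basisFun k X i) ⊗ₜ[k] M i j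
  coassoc := by
    apply (Pi.basisFun k X).ext
    intro i
    simp only [LinearMap.coe_comp, Function.comp_apply, LinearEquiv.coe_coe, Module.Basis.constr_basis, map_sum,
      LinearMap.rTensor_tmul, TensorProduct.sum_tmul, TensorProduct.assoc_tmul, LinearMap.lTensor_tmul,
      h.comul, TensorProduct.tmul_sum]
    exact Finset.sum_comm
  counit_comp := by
    apply (Pi.basisFun k X).ext
    intro i
    simp only [LinearMap.coe_comp, Function.comp_apply, Module.Basis.constr_basis, map_sum, LinearMap.lTensor_tmul,
      h.counit, LinearMap.flip_apply, TensorProduct.mk_apply]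
    simp [TensorProduct.tmul_ite, eq_comm]

theorem ofMatrix_coact (M : X → X → A) (h : IsComodMatrix k M) (v : X → k) :
    (ofMatrix M h).coact v = ∑ x, (Pi.basisFun k X x) ⊗ₜ[k] orbit k M v x := by
  show (Pi.basisFun k X).constr k (fun j => ∑ i, (Pi.basisFun k X i) ⊗ₜ[k] M i j) v = _
  rw [Module.Basis.constr_apply_fintype]
  simp only [orbit, TensorProduct.tmul_sum, TensorProduct.tmul_smul, Finset.smul_sum, Pi.basisFun_equivFun,
    LinearEquiv.refl_apply]
  exact Finset.sum_comm

theorem lTensor_ofMatrix_coact_eq_iff {R : Type*} [AddCommGroup R] [Module k R] (M : X → X → A)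
    (h : IsComodMatrix k M) (v : X → k) (f : A →ₗ[k] R) (c : R) :
    LinearMap.lTensor (X → k) f ((ofMatrix M h).coact v) = v ⊗ₜ[k] c ↔ ∀ x, f (orbit k M v x) = v x • c := by
  rw [ofMatrix_coact, map_sum]
  simp only [LinearMap.lTensor_tmul]
  constructor
  · intro e x
    have := congrArg (fun z => TensorProduct.lid k R ((LinearMap.proj x).rTensor R z)) e
    simpa [Pi.single_apply] using this
  · intro e
    conv_rhs => rw [← (Pi.basisFun k X).sum_repr v, TensorProduct.sum_tmul]
    refine Finset.sum_congr rfl fun x _ => ?_
    rw [Pi.basisFun_repr, TensorProduct.smul_tmul, e x]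

section Basis

variable {U : Type w} [AddCommGroup U] [Module k U] [HopfRep.Comod k A U] (b : Module.Basis X k U)

/-- The matrix of a comodule in a basis. -/
noncomputable def matrixOf (i j : X) : A :=
  TensorProduct.lid k A ((b.coord i).rTensor A (HopfRep.Comod.coact (k := k) (A := A) (b j)))

theorem coact_matrixOf (j : X) :
    HopfRep.Comod.coact (k := k) (A := A) (b j) = ∑ i, b i ⊗ₜ[k] matrixOf b i j := by
  unfold matrixOf
  induction HopfRep.Comod.coact (k := k) (A := A) (b j) using TensorProduct.induction_on with
  | zero => simp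
  | add p q hp hq => simp only [map_add, tmul_add, Finset.sum_add_distrib, ← hp, ← hq]
  | tmul x a =>
    simp only [LinearMap.rTensor_tmul, TensorProduct.lid_tmul, Module.Basis.coord_apply, ← TensorProduct.smul_tmul,
      ← TensorProduct.sum_tmul, b.sum_repr]

theorem coact_eq_orbit (v : U) :
    HopfRep.Comod.coact (k := k) (A := A) v = ∑ x, b x ⊗ₜ[k] orbit k (matrixOf b) (b.repr v) x := by
  conv_lhs => rw [← b.sum_repr v, map_sum]
  simp only [map_smul, coact_matrixOf, orbit, Finset.smul_sum, TensorProduct.tmul_sum, TensorProduct.tmul_smul]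
  exact Finset.sum_comm

theorem orbit_matrixOf_eq_of_lTensor {R : Type*} [AddCommGroup R] [Module k R] (f : A →ₗ[k] R) (v : U) (c : R)
    (h : LinearMap.lTensor U f (HopfRep.Comod.coact (k := k) (A := A) v) = v ⊗ₜ[k] c) (x : X) :
    f (orbit k (matrixOf b) (b.repr v) x) = b.repr v x • c := by
  rw [coact_eq_orbit b, map_sum] at h
  have := congrArg (fun z => TensorProduct.lid k R ((b.coord x).rTensor R z)) h
  simpa [Finsupp.single_apply] using this

end Basis

end Coalg

theorem isComodMatrix_matrixOf {k : Type u} [Field k] {A : Type v} [AddCommGroup A] [Module k A] [Coalgebra k A]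
    {X : Type} [Fintype X] [DecidableEq X] {U : Type w} [AddCommGroup U] [Module k U] [HopfRep.Comod k A U]
    (b : Module.Basis X k U) : IsComodMatrix k (matrixOf (A := A) b) where
  comul i j := by
    have h := LinearMap.congr_fun (isComodHom_coefFun (C := A) (b.coord i)) (b j)
    simp only [LinearMap.comp_apply] at h
    rw [coact_matrixOf b, map_sum] at h
    exact h
  counit i j := by
    refine (counit_coefFun (b.coord i) (b j)).trans ?_
    simp [Finsupp.single_apply, eq_comm]

section Bialgebra

variable {k : Type u} [CommRing k] {A : Type v} [CommRing A] [Bialgebra k A]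
variable {X : Type} [Fintype X] [DecidableEq X]

omit [Bialgebra k A] in
theorem prod_tmul_prod [Algebra k A] {ι : Type*} (s : Finset ι) (a b : ι → A) :
    (∏ i ∈ s, a i) ⊗ₜ[k] (∏ i ∈ s, b i) = ∏ i ∈ s, a i ⊗ₜ[k] b i := by
  classical
  induction s using Finset.induction with
  | empty => simp [Algebra.TensorProduct.one_def]
  | insert i s hi ih => rw [Finset.prod_insert hi, Finset.prod_insert hi, Finset.prod_insert hi, ← ih,
      Algebra.TensorProduct.tmul_mul_tmul]

/-- Tensor powers of a comultiplicative matrix. -/
def powMatrix (M : X → X → A) (d : ℕ) (i j : Fin d → X) : A := ∏ l, M (i l) (j l)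

theorem IsComodMatrix.powMatrix {M : X → X → A} (h : IsComodMatrix k M) (d : ℕ) :
    IsComodMatrix k (powMatrix M d) where
  comul i j := by
    show Bialgebra.comulAlgHom k A (∏ l, M (i l) (j l)) = _
    rw [map_prod]
    simp only [Bialgebra.comulAlgHom_apply, h.comul, Fintype.prod_sum]
    exact Finset.sum_congr rfl fun f _ => (prod_tmul_prod _ _ _).symm
  counit i j := by
    show Bialgebra.counitAlgHom k A (∏ l, M (i l) (j l)) = _
    rw [map_prod]
    simp only [Bialgebra.counitAlgHom_apply, h.counit, Finset.prod_boole]
    simp [funext_iff]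

theorem orbit_powMatrix (M : X → X → A) (v : X → k) (d : ℕ) (i : Fin d → X) :
    orbit k (Groth.Agent.ComodLib.powMatrix M d) (fun j => ∏ l, v (j l)) i = ∏ l, orbit k M v (i l) := by
  simp only [orbit, Fintype.prod_sum]
  refine Finset.sum_congr rfl fun j _ => ?_
  simp only [Groth.Agent.ComodLib.powMatrix, Algebra.smul_def, Finset.prod_mul_distrib, map_prod]

variable {X' : Type} [Fintype X'] [DecidableEq X']

/-- Tensor products of comultiplicative matrices. -/
def mulMatrix (M : X → X → A) (N : X' → X' → A) (i j : X × X') : A := M i.1 j.1 * N i.2 j.2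

theorem IsComodMatrix.mulMatrix {M : X → X → A} (h : IsComodMatrix k M) {N : X' → X' → A} (h' : IsComodMatrix k N) :
    IsComodMatrix k (mulMatrix M N) where
  comul i j := by
    simp only [Groth.Agent.ComodLib.mulMatrix, Bialgebra.comul_mul, h.comul, h'.comul, Finset.sum_mul_sum,
      Algebra.TensorProduct.tmul_mul_tmul, Fintype.sum_prod_type]
  counit i j := by
    simp only [Groth.Agent.ComodLib.mulMatrix, Bialgebra.counit_mul, h.counit, h'.counit, mul_ite, mul_one,
      mul_zero, Prod.ext_iff]
    split_ifs <;> simp_all

theorem orbit_mulMatrix (M : X → X → A) (N : X' → X' → A) (v : X → k) (v' : X' → k) (i : X × X') :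
    orbit k (Groth.Agent.ComodLib.mulMatrix M N) (fun j => v j.1 * v' j.2) i =
      orbit k M v i.1 * orbit k N v' i.2 := by
  simp only [orbit, Finset.sum_mul_sum, Fintype.sum_prod_type]
  refine Finset.sum_congr rfl fun a _ => Finset.sum_congr rfl fun b _ => ?_
  simp only [Groth.Agent.ComodLib.mulMatrix, smul_mul_smul_comm]

/-- The Plücker vector of the coordinate subspace given by `ι`. -/
def minorVec {d : ℕ} (k : Type u) [CommRing k] (ι : Fin d → X) (i : Fin d → X) : k :=
  ((1 : Matrix X X k).submatrix i ι).det

omit [Fintype X] in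
theorem minorVec_self {d : ℕ} {ι : Fin d → X} (hι : Function.Injective ι) : minorVec k ι ι = 1 := by
  rw [minorVec, Matrix.submatrix_one _ hι, Matrix.det_one]

theorem orbit_powMatrix_minorVec {d : ℕ} (M : X → X → A) (ι : Fin d → X) (i : Fin d → X) :
    orbit k (Groth.Agent.ComodLib.powMatrix M d) (minorVec k ι) i = ((Matrix.of M).submatrix i ι).det := by
  have e : (Matrix.of M).submatrix i ι = fun l => ∑ t, M (i l) t • fun m => algebraMap k A ((1 : Matrix X X k) t (ι m)) := by
    funext l m
    simp [Matrix.one_apply, apply_ite (algebraMap k A), Finset.sum_apply]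
  rw [e]
  show _ = (Matrix.detRowAlternating : (Fin d → A) [⋀^Fin d]→ₗ[A] A).toMultilinearMap _
  rw [MultilinearMap.map_sum]
  refine Finset.sum_congr rfl fun j _ => ?_
  rw [MultilinearMap.map_smul_univ, Algebra.smul_def, mul_comm (algebraMap k A _), smul_eq_mul, minorVec,
    RingHom.map_det]
  rfl

end Bialgebra

section Group

variable {k : Type u} [CommRing k] {A : Type v} [CommRing A] [HopfAlgebra k A]
variable {X : Type} [Fintype X] [DecidableEq X]

theorem sum_antipode_mul_orbit {M : X → X → A} (h : IsComodMatrix k M) (v : X → k) (t : X) :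
    ∑ x, HopfAlgebraStruct.antipode (R := k) (M t x) * orbit k M v x = algebraMap k A (v t) := by
  have key : ∀ s, ∑ x, HopfAlgebraStruct.antipode (R := k) (M t x) * M x s = if t = s then 1 else 0 := by
    intro s
    have := HopfAlgebra.mul_antipode_rTensor_comul_apply (R := k) (M t s)
    rw [h.comul, h.counit, map_sum, map_sum] at this
    simpa [apply_ite (algebraMap k A)] using this
  simp only [orbit, Finset.mul_sum, mul_smul_comm]
  rw [Finset.sum_comm]
  simp only [← Finset.smul_sum, key]
  simp [Algebra.algebraMap_eq_smul_one]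

end Group

end Groth.Agent.ComodLib
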