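import Groth.Agent.ComodLib.Simple
import Mathlib.RingTheory.Coalgebra.Hom
import Mathlib.LinearAlgebra.Dual.Lemmas

/-!
# Comodules pushed forward and corestricted along coalgebra maps
-/

universe u v v' w w'

open TensorProduct

namespace Groth.Agent.ComodLib

open HopfRep (Comod)

section Ring

variable {k : Type u} [CommRing k] {C : Type v} [AddCommGroup C] [Module k C] [Coalgebra k C]
  {D : Type v'} [AddCommGroup D] [Module k D] [Coalgebra k D]
  {V : Type w} [AddCommGroup V] [Module k V]

theorem assoc_map_lTensor {U X Y : Type*} [AddCommGroup U] [Module k U] [AddCommGroup X] [Module k X]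
    [AddCommGroup Y] [Module k Y] (f : C →ₗ[k] X) (g : C →ₗ[k] Y) (z : (U ⊗[k] C) ⊗[k] C) :
    TensorProduct.assoc k U X Y (TensorProduct.map (f.lTensor U) g z) =
      (TensorProduct.map f g).lTensor U (TensorProduct.assoc k U C C z) := by
  induction z using TensorProduct.induction_on with
  | zero => simp
  | tmul a c =>
    induction a using TensorProduct.induction_on with
    | zero => simp
    | tmul u b => simp
    | add p q hp hq => simp only [TensorProduct.add_tmul, map_add, hp, hq]
  | add p q hp hq => simp only [map_add, hp, hq]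

/-- A comodule over `C` is one over `D` along a coalgebra map `C → D`. -/
@[reducible] noncomputable def pushComod (i : C →ₗc[k] D) (c : HopfRep.Comod k C V) :
    HopfRep.Comod k D V where
  coact := (i : C →ₗ[k] D).lTensor V ∘ₗ c.coact
  coassoc := by
    ext v
    have hv := LinearMap.congr_fun c.coassoc v
    simp only [LinearMap.comp_apply, LinearEquiv.coe_coe] at hv ⊢
    have h1 : ∀ z : V ⊗[k] C, ((i : C →ₗ[k] D).lTensor V ∘ₗ c.coact).rTensor D ((i : C →ₗ[k] D).lTensor V z) =
        TensorProduct.map ((i : C →ₗ[k] D).lTensor V) (i : C →ₗ[k] D) (c.coact.rTensor C z) := by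
      intro z
      induction z using TensorProduct.induction_on with
      | zero => simp
      | tmul a b => simp
      | add p q hp hq => simp only [map_add, hp, hq]
    have h2 : ∀ z : V ⊗[k] C, (TensorProduct.map (i : C →ₗ[k] D) (i : C →ₗ[k] D)).lTensor V
          (CoalgebraStruct.comul.lTensor V z) =
        CoalgebraStruct.comul.lTensor V ((i : C →ₗ[k] D).lTensor V z) := by
      intro z
      induction z using TensorProduct.induction_on with
      | zero => simp
      | tmul a b =>
        simp only [LinearMap.lTensor_tmul]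
        exact congrArg (fun t => a ⊗ₜ[k] t) (CoalgHomClass.map_comp_comul_apply i b)
      | add p q hp hq => simp only [map_add, hp, hq]
    rw [h1, assoc_map_lTensor, hv, h2]
  counit_comp := by
    rw [← LinearMap.comp_assoc, ← LinearMap.lTensor_comp, CoalgHomClass.counit_comp]
    exact c.counit_comp

theorem actF_comp_of_push [HopfRep.Comod k C V] [HopfRep.Comod k D V] (i : C →ₗc[k] D)
    (hcd : (i : C →ₗ[k] D).lTensor V ∘ₗ Comod.coact (k := k) (A := C) = Comod.coact (k := k) (A := D) (V := V))
    (φ : D →ₗ[k] k) (v : V) : actF φ v = actF (φ ∘ₗ (i : C →ₗ[k] D)) v := by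
  rw [actF_apply, ← hcd, LinearMap.comp_apply, slice_lTensor]
  rfl

end Ring

section Field

variable {k : Type u} [Field k] {C : Type v} [AddCommGroup C] [Module k C] [Coalgebra k C]
  {D : Type v'} [AddCommGroup D] [Module k D] [Coalgebra k D]
  {V : Type w} [AddCommGroup V] [Module k V] [HopfRep.Comod k C V] [HopfRep.Comod k D V]

theorem isSubcomod_iff_of_injective (i : C →ₗc[k] D) (hi : Function.Injective i)
    (hcd : (i : C →ₗ[k] D).lTensor V ∘ₗ Comod.coact (k := k) (A := C) = Comod.coact (k := k) (A := D) (V := V))
    (W : Submodule k V) :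
    HopfRep.IsSubcomod (k := k) (A := C) W ↔ HopfRep.IsSubcomod (k := k) (A := D) W := by
  rw [isSubcomod_iff_actF, isSubcomod_iff_actF]
  constructor
  · intro h φ u hu
    rw [actF_comp_of_push i hcd]
    exact h _ u hu
  · intro h φ u hu
    obtain ⟨ψ, hψ⟩ := LinearMap.dualMap_surjective_of_injective (f := (i : C →ₗ[k] D)) hi φ
    rw [← hψ, LinearMap.dualMap_apply', ← actF_comp_of_push i hcd]
    exact h _ u hu

end Field

end Groth.Agent.ComodLib
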