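import Groth.Agent.ComodLib.Reductive
import Groth.Agent.ComodLib.Push

/-!
# Filtrations of comodules; trigonalizable and unipotent groups
-/

universe u v v' w w'

open TensorProduct

namespace Groth.Agent.ComodLib

section Field

variable {k : Type u} [Field k] {C : Type v} [AddCommGroup C] [Module k C] [Coalgebra k C]
variable {V : Type w} [AddCommGroup V] [Module k V] [HopfRep.Comod k C V]

/-- A minimal subcomodule is simple as a comodule. -/
theorem isSimpleComod_restr {S : Submodule k V} (hS : HopfRep.IsSubcomod (k := k) (A := C) S) (h0 : S ≠ ⊥)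
    (hmin : ∀ S' : Submodule k V, HopfRep.IsSubcomod (k := k) (A := C) S' → S' ≤ S → S' = ⊥ ∨ S' = S) :
    @HopfRep.IsSimpleComod k C _ _ _ _ S _ _ (ComodSub.Comod.restr ‹HopfRep.Comod k C V› S hS) := by
  letI : HopfRep.Comod k C S := ComodSub.Comod.restr ‹HopfRep.Comod k C V› S hS
  have hi : Hoch.IsComodHom C S.subtype := ComodSub.isComodHom_subtype _ S hS
  refine ⟨Submodule.nontrivial_iff_ne_bot.mpr h0, fun W hW => ?_⟩
  rcases hmin _ (isSubcomod_map (C := C) hi hW) (Submodule.map_subtype_le S W) with h | h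
  · left
    rwa [← Submodule.map_bot S.subtype, (Submodule.map_injective_of_injective S.injective_subtype).eq_iff] at h
  · right
    apply Submodule.map_injective_of_injective S.injective_subtype
    rw [h, Submodule.map_top, Submodule.range_subtype]

/-- A strictly increasing construction of subcomodules reaches the top. -/
theorem exists_tower [Module.Finite k V] (P : Submodule k V → Submodule k V → Prop)
    (hP : ∀ U : Submodule k V, HopfRep.IsSubcomod (k := k) (A := C) U → U ≠ ⊤ →
      ∃ U' : Submodule k V, HopfRep.IsSubcomod (k := k) (A := C) U' ∧ U < U' ∧ P U U') :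
    ∃ F : ℕ → Submodule k V, Monotone F ∧ F 0 = ⊥ ∧ (∀ i, HopfRep.IsSubcomod (k := k) (A := C) (F i)) ∧
      F (Module.finrank k V) = ⊤ ∧ ∀ i, (F i ≠ ⊤ → P (F i) (F (i + 1))) ∧ (F i = ⊤ → F (i + 1) = ⊤) := by
  classical
  choose g hg1 hg2 hg3 using hP
  let step : {U : Submodule k V // HopfRep.IsSubcomod (k := k) (A := C) U} →
      {U : Submodule k V // HopfRep.IsSubcomod (k := k) (A := C) U} := fun U =>
    if h : U.1 = ⊤ then U else ⟨g U.1 U.2 h, hg1 U.1 U.2 h⟩
  let G : ℕ → {U : Submodule k V // HopfRep.IsSubcomod (k := k) (A := C) U} :=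
    fun n => Nat.rec ⟨⊥, isSubcomod_bot⟩ (fun _ U => step U) n
  have hG : ∀ i, (G i).1 ≠ ⊤ → (G i).1 < (G (i + 1)).1 ∧ P (G i).1 (G (i + 1)).1 := fun i h => by
    show _ < (step (G i)).1 ∧ P _ (step (G i)).1
    simp only [step, dif_neg h]
    exact ⟨hg2 _ _ h, hg3 _ _ h⟩
  have htop : ∀ i, (G i).1 = ⊤ → (G (i + 1)).1 = ⊤ := fun i h => by
    show (step (G i)).1 = ⊤
    simp only [step, dif_pos h]
    exact h
  have hdim : ∀ i, (G i).1 = ⊤ ∨ i ≤ Module.finrank k (G i).1 := fun i => by
    induction i with
    | zero => exact Or.inr (Nat.zero_le _)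
    | succ n ih =>
      rcases ih with h | h
      · exact Or.inl (htop n h)
      · by_cases hn : (G n).1 = ⊤
        · exact Or.inl (htop n hn)
        · exact Or.inr (Nat.succ_le_of_lt (h.trans_lt (Submodule.finrank_lt_finrank_of_lt (hG n hn).1)))
  refine ⟨fun i => (G i).1, monotone_nat_of_le_succ fun i => ?_, rfl, fun i => (G i).2, ?_,
    fun i => ⟨fun h => (hG i h).2, htop i⟩⟩
  · by_cases h : (G i).1 = ⊤
    · exact h.le.trans (htop i h).ge
    · exact (hG i h).1.le
  · rcases hdim (Module.finrank k V) with h | h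
    · exact h
    · exact Submodule.eq_top_of_finrank_eq (le_antisymm (Submodule.finrank_le _) h)

end Field

section Trig

variable {k : Type u} [Field k] {A : Type v} [CommRing A] [Bialgebra k A]

/-- A trigonalizable monoid has a full flag in each finite comodule. -/
theorem exists_flag (hT : HopfRep.IsTrigonalizable k A) (V : Type v) [AddCommGroup V] [Module k V]
    [c : HopfRep.Comod k A V] [Module.Finite k V] :
    ∃ F : ℕ → Submodule k V, Monotone F ∧ (∀ i, HopfRep.IsSubcomod (k := k) (A := A) (F i)) ∧
      F (Module.finrank k V) = ⊤ ∧ ∀ i, i ≤ Module.finrank k V → Module.finrank k (F i) = i := by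
  obtain ⟨F, hmono, h0, hsub, htop, hP⟩ := exists_tower (C := A)
    (fun U U' : Submodule k V => Module.finrank k U' = Module.finrank k U + 1) fun U hU hne => by
    letI := ComodSub.Comod.quot c U hU
    have hq : Hoch.IsComodHom A U.mkQ := ComodSub.isComodHom_mkQ c U hU
    haveI : Nontrivial (V ⧸ U) := Submodule.Quotient.nontrivial_iff.mpr hne
    obtain ⟨S, -, hSf, hS, hS0, hmin⟩ := exists_simple_le (isSubcomod_top (k := k) (C := A) (V := V ⧸ U)) top_ne_bot
    letI := ComodSub.Comod.restr (ComodSub.Comod.quot c U hU) S hS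
    have h1 : Module.finrank k S = 1 := hT S hSf (isSimpleComod_restr hS hS0 hmin)
    have hle : U ≤ S.comap U.mkQ := fun x hx => by simp [(Submodule.Quotient.mk_eq_zero U).mpr hx]
    have hrank : Module.finrank k (S.comap U.mkQ) = Module.finrank k U + 1 := by
      let g : S.comap U.mkQ →ₗ[k] S := U.mkQ.restrict fun x hx => hx
      have hg : Function.Surjective g := fun s => by
        obtain ⟨x, hx⟩ := U.mkQ_surjective s.1
        exact ⟨⟨x, by simp [hx]⟩, Subtype.ext hx⟩
      have hker : LinearMap.ker g = U.comap (S.comap U.mkQ).subtype := by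
        ext x
        simp [g, Subtype.ext_iff]
      have h := LinearMap.finrank_range_add_finrank_ker g
      rw [LinearMap.range_eq_top.mpr hg, finrank_top, h1, hker,
        (Submodule.comapSubtypeEquivOfLe hle).finrank_eq] at h
      omega
    exact ⟨_, isSubcomod_comap hq hS, lt_of_le_of_ne hle fun h => by
      rw [← h] at hrank; omega, hrank⟩
  refine ⟨F, hmono, hsub, htop, fun i hi => ?_⟩
  induction i with
  | zero => rw [h0, finrank_bot]
  | succ n ih =>
    have hn := ih (Nat.le_of_succ_le hi)
    have hne : F n ≠ ⊤ := fun h => by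
      rw [h, finrank_top] at hn
      omega
    rw [(hP n).1 hne, hn]

variable {B : Type v'} [AddCommGroup B] [Module k B] [Coalgebra k B]

/-- Subcomodules remain such along a coalgebra map. -/
theorem isSubcomod_push {C : Type v} [AddCommGroup C] [Module k C] [Coalgebra k C] (i : C →ₗc[k] B)
    {V : Type w} [AddCommGroup V] [Module k V] (c : HopfRep.Comod k C V) {W : Submodule k V}
    (hW : @HopfRep.IsSubcomod k C _ _ _ _ V _ _ c W) :
    @HopfRep.IsSubcomod k B _ _ _ _ V _ _ (pushComod i c) W := by
  intro w hw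
  obtain ⟨z, hz⟩ := hW w hw
  refine ⟨(i : C →ₗ[k] B).lTensor W z, ?_⟩
  show _ = (i : C →ₗ[k] B).lTensor V (c.coact w)
  rw [← hz, ← LinearMap.comp_apply, LinearMap.rTensor_comp_lTensor, ← LinearMap.lTensor_comp_rTensor,
    LinearMap.comp_apply]

end Trig

section TrigQuot

variable {k : Type u} [Field k] {A B : Type v} [CommRing A] [Bialgebra k A] [CommRing B] [Bialgebra k B]

/-- A surjective image of a trigonalizable coordinate bialgebra is trigonalizable. -/
theorem isTrigonalizable_of_surjective (π : A →ₐc[k] B) (hπ : Function.Surjective π)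
    (hT : HopfRep.IsTrigonalizable k A) : HopfRep.IsTrigonalizable k B := by
  classical
  intro V _ _ c _ hsimple
  haveI : Nontrivial V := hsimple.1
  obtain ⟨v₀, hv₀⟩ := exists_ne (0 : V)
  obtain ⟨f, hf⟩ := Module.Projective.exists_dual_ne_zero k hv₀
  let j : V →ₗ[k] B := (TensorProduct.lid k B).toLinearMap ∘ₗ f.rTensor B ∘ₗ HopfRep.Comod.coact (k := k) (A := B)
  have hj : Hoch.IsComodHom B j := by
    refine LinearMap.ext fun v => ?_
    have hc := congrArg ((TensorProduct.lid k B).toLinearMap.rTensor B ∘ₗ (f.rTensor B).rTensor B)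
      (congrArg (TensorProduct.assoc k V B B).symm
        (LinearMap.congr_fun (HopfRep.Comod.coassoc (k := k) (A := B) (V := V)) v))
    simp only [LinearMap.comp_apply, LinearEquiv.coe_coe, LinearEquiv.symm_apply_apply] at hc
    simp only [j, LinearMap.comp_apply, LinearEquiv.coe_coe, LinearMap.rTensor_comp]
    refine (Eq.trans hc ?_).symm
    show _ = Coalgebra.comul (R := k) _
    induction HopfRep.Comod.coact (k := k) (A := B) v using TensorProduct.induction_on with
    | zero => simp
    | add p q hp hq => simp only [map_add, hp, hq]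
    | tmul x b =>
      rw [LinearMap.lTensor_tmul, LinearMap.rTensor_tmul, TensorProduct.lid_tmul, map_smul]
      induction Coalgebra.comul (R := k) b using TensorProduct.induction_on with
      | zero => simp
      | tmul p q => simp [TensorProduct.smul_tmul']
      | add p q hp hq => simp only [tmul_add, map_add, smul_add, hp, hq]
  have hj0 : j ≠ 0 := fun h => by
    apply hf
    have h2 := congrArg (fun z => f (TensorProduct.rid k V z))
      (LinearMap.congr_fun (HopfRep.Comod.counit_comp (k := k) (A := B) (V := V)) v₀)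
    simp only [LinearMap.comp_apply, LinearMap.flip_apply, TensorProduct.mk_apply, TensorProduct.rid_tmul, one_smul] at h2
    rw [← h2]
    have h3 := congrArg (Coalgebra.counit (R := k)) (LinearMap.congr_fun h v₀)
    simp only [j, LinearMap.comp_apply, LinearEquiv.coe_coe, LinearMap.zero_apply, map_zero] at h3
    refine Eq.trans ?_ h3
    induction HopfRep.Comod.coact (k := k) (A := B) v₀ using TensorProduct.induction_on with
    | zero => simp
    | tmul x b => simp [mul_comm]
    | add p q hp hq => simp only [map_add, hp, hq]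
  have hinj : Function.Injective j := by
    rcases hsimple.2 _ (isSubcomod_ker hj) with h | h
    · exact LinearMap.ker_eq_bot.mp h
    · exact absurd (LinearMap.ker_eq_top.mp h) hj0
  let b := Module.finBasis k V
  choose a ha using fun i => hπ (j (b i))
  obtain ⟨U, hUf, haU, hU⟩ := exists_finite_subcomod_le (k := k) (C := A) (V := A) (Set.finite_range a)
  let cU : HopfRep.Comod k A U := ComodSub.Comod.restr (HopfRep.Comod.regular k A) U hU
  letI := cU
  obtain ⟨F, hmono, hsub, htop, hrank⟩ := exists_flag hT U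
  letI cB : HopfRep.Comod k B U := pushComod (π : A →ₗc[k] B) cU
  let π' : U →ₗ[k] B := (π : A →ₗ[k] B) ∘ₗ U.subtype
  have hπ' : Hoch.IsComodHom B π' := by
    refine LinearMap.ext fun u => ?_
    show Coalgebra.comul (R := k) (π u.1) = π'.rTensor B ((π : A →ₗ[k] B).lTensor U (cU.coact u))
    have h := ComodSub.restr_coact_coe (HopfRep.Comod.regular k A) U hU u
    change _ = Coalgebra.comul (R := k) (u : A) at h
    rw [← CoalgHomClass.map_comp_comul_apply π (u : A), ← h, ← LinearMap.comp_apply (π'.rTensor B),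
      LinearMap.rTensor_comp_lTensor, ← LinearMap.comp_apply (TensorProduct.map _ _), LinearMap.map_comp_rTensor]
  let G : ℕ → Submodule k V := fun i => Submodule.comap j (Submodule.map π' (F i))
  have hGsub : ∀ i, HopfRep.IsSubcomod (k := k) (A := B) (G i) := fun i =>
    isSubcomod_comap hj (isSubcomod_map (C := B) hπ' (isSubcomod_push (π : A →ₗc[k] B) cU (hsub i)))
  have hG0 : G 0 = ⊥ := by
    have : F 0 = ⊥ := Submodule.finrank_eq_zero.mp (hrank 0 (Nat.zero_le _))
    simp only [G, this, Submodule.map_bot]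
    exact LinearMap.ker_eq_bot.mpr hinj
  have hGn : G (Module.finrank k U) = ⊤ := by
    simp only [G, htop, Submodule.map_top, eq_top_iff]
    rw [← b.span_eq, Submodule.span_le]
    rintro _ ⟨i, rfl⟩
    exact ⟨⟨a i, haU ⟨i, rfl⟩⟩, ha i⟩
  obtain ⟨i, hi, hi0, hi1⟩ : ∃ i, i < Module.finrank k U ∧ G i = ⊥ ∧ G (i + 1) = ⊤ := by
    have hex : ∃ i, G i = ⊤ := ⟨_, hGn⟩
    have hpos : Nat.find hex ≠ 0 := fun h => by
      have := Nat.find_spec hex
      rw [h, hG0] at this
      exact bot_ne_top this
    obtain ⟨i, hi⟩ := Nat.exists_eq_succ_of_ne_zero hpos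
    refine ⟨i, ?_, ?_, by rw [← Nat.succ_eq_add_one, ← hi]; exact Nat.find_spec hex⟩
    · have := Nat.find_min' hex hGn
      omega
    · rcases hsimple.2 _ (hGsub i) with h | h
      · exact h
      · exact absurd h (Nat.find_min hex (by omega))
  obtain ⟨x, hx, hxn⟩ : ∃ x, x ∈ F (i + 1) ∧ x ∉ F i :=
    SetLike.exists_of_lt (lt_of_le_of_ne (hmono (Nat.le_succ i)) fun h => by
      have h1 := hrank i (le_of_lt hi)
      have h2 := hrank (i + 1) hi
      rw [← h] at h2
      omega)
  have hsup : F i ⊔ Submodule.span k {x} = F (i + 1) := by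
    refine Submodule.eq_of_le_of_finrank_le
      (sup_le (hmono (Nat.le_succ i)) ((Submodule.span_singleton_le_iff_mem _ _).mpr hx)) ?_
    have hlt : F i < F i ⊔ Submodule.span k {x} := lt_of_le_of_ne le_sup_left fun h =>
      hxn (h ▸ Submodule.mem_sup_right (Submodule.mem_span_singleton_self x))
    have h3 := Submodule.finrank_lt_finrank_of_lt hlt
    rw [hrank (i + 1) hi]
    rw [hrank i (le_of_lt hi)] at h3
    omega
  let X : Submodule k B := Submodule.map π' (F i)
  have hle : LinearMap.range j ≤ X ⊔ Submodule.span k {π' x} := by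
    rintro _ ⟨v, rfl⟩
    have h : j v ∈ Submodule.map π' (F (i + 1)) := (hi1 ▸ Submodule.mem_top : v ∈ G (i + 1))
    rwa [← hsup, Submodule.map_sup, Submodule.map_span, Set.image_singleton] at h
  let q : V →ₗ[k] B ⧸ X := X.mkQ ∘ₗ j
  have hq : Function.Injective q := by
    refine (injective_iff_map_eq_zero q).mpr fun v hv => ?_
    have : v ∈ G i := (Submodule.Quotient.mk_eq_zero X).mp hv
    rwa [hi0, Submodule.mem_bot] at this
  have hqr : LinearMap.range q ≤ Submodule.span k {X.mkQ (π' x)} := by
    rintro _ ⟨v, rfl⟩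
    obtain ⟨y, hy, z, hz, hyz⟩ := Submodule.mem_sup.mp (hle ⟨v, rfl⟩)
    obtain ⟨r, rfl⟩ := Submodule.mem_span_singleton.mp hz
    refine Submodule.mem_span_singleton.mpr ⟨r, ?_⟩
    simp only [q, LinearMap.comp_apply]
    rw [← hyz, map_add, map_smul, show X.mkQ y = 0 from (Submodule.Quotient.mk_eq_zero X).mpr hy, zero_add]
  refine le_antisymm ?_ Module.finrank_pos
  calc Module.finrank k V = Module.finrank k (LinearMap.range q) :=
        (LinearMap.finrank_range_of_inj hq).symm
    _ ≤ Module.finrank k (Submodule.span k {X.mkQ (π' x)}) := Submodule.finrank_mono hqr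
    _ ≤ 1 := (finrank_span_le_card _).trans (by simp)

/-- A quotient group of a trigonalizable group is trigonalizable. -/
theorem isTrigonalizable_of_injective (f : B →ₐc[k] A) (hf : Function.Injective f)
    (hT : HopfRep.IsTrigonalizable k A) : HopfRep.IsTrigonalizable k B := by
  intro V _ _ c hfin hsimple
  letI cA : HopfRep.Comod k A V := pushComod (f : B →ₗc[k] A) c
  refine hT V hfin ⟨hsimple.1, fun W hW => hsimple.2 W ?_⟩
  exact (isSubcomod_iff_of_injective (f : B →ₗc[k] A) hf rfl W).mpr hW

end TrigQuot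

section Unipotent

variable {k : Type u} [Field k] {A : Type v} [CommRing A] [Bialgebra k A]

theorem isUnipotent_iff_filtration :
    HopfRep.IsUnipotent k A ↔
      ∀ (V : Type v) [AddCommGroup V] [Module k V] [HopfRep.Comod k A V], Module.Finite k V →
        ∃ (m : ℕ) (F : ℕ → Submodule k V), Monotone F ∧ F 0 = ⊥ ∧ F m = ⊤ ∧
          (∀ i, HopfRep.IsSubcomod (k := k) (A := A) (F i)) ∧
          ∀ i, ∀ v ∈ F (i + 1),
            HopfRep.Comod.coact (k := k) (A := A) v - v ⊗ₜ[k] (1 : A) ∈
              LinearMap.range ((F i).subtype.rTensor A) := by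
  constructor
  · intro hU V _ _ c hfin
    obtain ⟨F, hmono, h0, hsub, htop, hP⟩ := exists_tower (C := A)
      (fun U U' : Submodule k V => ∀ v ∈ U', HopfRep.Comod.coact (k := k) (A := A) v - v ⊗ₜ[k] (1 : A) ∈
        LinearMap.range (U.subtype.rTensor A)) fun U hUs hne => by
      letI := ComodSub.Comod.quot c U hUs
      have hq : Hoch.IsComodHom A U.mkQ := ComodSub.isComodHom_mkQ c U hUs
      haveI : Nontrivial (V ⧸ U) := Submodule.Quotient.nontrivial_iff.mpr hne
      obtain ⟨y, hy, hy0⟩ := Submodule.exists_mem_ne_zero_of_ne_bot (hU (V ⧸ U) inferInstance inferInstance)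
      refine ⟨(HopfRep.fixedPts k A (V ⧸ U)).comap U.mkQ, isSubcomod_comap hq isSubcomod_fixedPts,
        lt_of_le_of_ne (fun x hx => by simp [(Submodule.Quotient.mk_eq_zero U).mpr hx]) fun h => hy0 ?_,
        fun v hv => ?_⟩
      · obtain ⟨x, rfl⟩ := U.mkQ_surjective y
        exact (Submodule.Quotient.mk_eq_zero U).mpr (h ▸ Submodule.mem_comap.mpr hy)
      · refine (Module.Flat.rTensor_exact A (LinearMap.exact_subtype_mkQ U) _).mp ?_
        rw [map_sub, LinearMap.rTensor_tmul, sub_eq_zero]
        exact (LinearMap.congr_fun hq v).symm.trans hv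
    refine ⟨Module.finrank k V, F, hmono, h0, htop, hsub, fun i v hv => ?_⟩
    by_cases h : F i = ⊤
    · refine (Module.Flat.rTensor_exact A (LinearMap.exact_subtype_mkQ (F i)) _).mp ?_
      rw [show (F i).mkQ = 0 from LinearMap.ext fun x => (Submodule.Quotient.mk_eq_zero _).mpr (h ▸ Submodule.mem_top),
        LinearMap.rTensor_zero, LinearMap.zero_apply]
    · exact (hP i).1 h v hv
  · intro h V _ _ _ hfin hnt
    classical
    obtain ⟨m, F, -, h0, hm, -, hstep⟩ := h V hfin
    have hex : ∃ i, F i ≠ ⊥ := ⟨m, hm ▸ top_ne_bot⟩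
    obtain ⟨i, hi⟩ := Nat.exists_eq_succ_of_ne_zero (n := Nat.find hex) fun h => (Nat.find_spec hex) (h ▸ h0)
    have hne : F (i + 1) ≠ ⊥ := by
      rw [← Nat.succ_eq_add_one, ← hi]
      exact Nat.find_spec hex
    have hbot : F i = ⊥ := not_not.mp (Nat.find_min hex (by omega))
    obtain ⟨v, hv, hv0⟩ := Submodule.exists_mem_ne_zero_of_ne_bot hne
    obtain ⟨z, hz⟩ := hstep i v hv
    rw [show (F i).subtype = 0 from LinearMap.ext fun x => (Submodule.mem_bot k).mp (hbot ▸ x.2),
      LinearMap.rTensor_zero, LinearMap.zero_apply, eq_comm, sub_eq_zero] at hz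
    exact Submodule.ne_bot_iff _ |>.mpr ⟨v, hz, hv0⟩

theorem isNilpotent_act_sub_one (hU : HopfRep.IsUnipotent k A) (g : A →ₐ[k] k)
    (V : Type v) [AddCommGroup V] [Module k V] [HopfRep.Comod k A V] [Module.Finite k V] :
    IsNilpotent (HopfRep.Comod.act k A V g - 1) := by
  obtain ⟨m, F, -, h0, hm, -, hstep⟩ := isUnipotent_iff_filtration.mp hU V inferInstance
  refine ⟨m, LinearMap.ext fun v => ?_⟩
  have h : ∀ (j i : ℕ) (x : V), x ∈ F (i + j) → ((HopfRep.Comod.act k A V g - 1) ^ j) x ∈ F i := fun j => by
    induction j with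
    | zero => intro i x hx; simpa using hx
    | succ j ih =>
      intro i x hx
      rw [pow_succ', Module.End.mul_apply]
      have hy := ih (i + 1) x (by rwa [add_right_comm])
      obtain ⟨z, hz⟩ := hstep i _ hy
      generalize ((HopfRep.Comod.act k A V g - 1) ^ j) x = y at hz ⊢
      have e : (HopfRep.Comod.act k A V g - 1) y =
          TensorProduct.rid k V (g.toLinearMap.lTensor V (HopfRep.Comod.coact (k := k) (A := A) y - y ⊗ₜ[k] 1)) := by
        rw [map_sub, map_sub, LinearMap.lTensor_tmul, AlgHom.toLinearMap_apply, map_one, TensorProduct.rid_tmul,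
          one_smul]
        rfl
      rw [e, ← hz]
      clear hz hy e
      induction z using TensorProduct.induction_on with
      | zero => simp
      | tmul p q => simpa using Submodule.smul_mem (F i) (g q) p.2
      | add p q hp hq => simpa only [map_add] using Submodule.add_mem _ hp hq
  have := h m 0 v (by rw [zero_add, hm]; trivial)
  rw [h0, Submodule.mem_bot] at this
  rw [this, LinearMap.zero_apply]

end Unipotent

end Groth.Agent.ComodLib
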