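import Groth.Agent.ComodLib.Integral
import Mathlib.RingTheory.HopfAlgebra.Convolution
import Mathlib.RingTheory.TensorProduct.Maps

/-!
# The antipode of a commutative Hopf algebra: comultiplication, involutivity, right integrals
-/

universe u v

open TensorProduct WithConv

namespace Groth.Agent.ComodLib

variable {k : Type u} [CommRing k] {A : Type v} [CommRing A] [HopfAlgebra k A]

local notation "S" => HopfAlgebra.antipodeAlgHom k A

theorem antipode_antipode_apply (a : A) :
    HopfAlgebra.antipode k (HopfAlgebra.antipode k a) = a :=
  DFunLike.congr_fun (congrArg WithConv.ofConv (inv_inv (G := WithConv (A →ₐ[k] A)) (toConv (AlgHom.id k A)))) a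

/-- The antipode reverses the comultiplication. -/
theorem comul_antipode (a : A) :
    Coalgebra.comul (R := k) (HopfAlgebra.antipode k a) =
      TensorProduct.map (HopfAlgebra.antipode k) (HopfAlgebra.antipode k)
        (TensorProduct.comm k A A (Coalgebra.comul (R := k) a)) := by
  let iL : A →ₐ[k] A ⊗[k] A := Algebra.TensorProduct.includeLeft
  let iR : A →ₐ[k] A ⊗[k] A := Algebra.TensorProduct.includeRight
  have hδ : toConv iL * toConv iR = toConv (Bialgebra.comulAlgHom k A) := by
    refine WithConv.ofConv_injective (AlgHom.ext fun c => ?_)
    rw [AlgHom.convMul_apply]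
    show _ = Coalgebra.comul (R := k) c
    simp only [ofConv_toConv]
    induction Coalgebra.comul (R := k) c using TensorProduct.induction_on with
    | zero => simp
    | tmul p q => simp [iL, iR]
    | add p q hp hq => rw [map_add, hp, hq]
  have h : (toConv (Bialgebra.comulAlgHom k A))⁻¹ = (toConv iR)⁻¹ * (toConv iL)⁻¹ := by
    rw [← hδ, mul_inv_rev (G := WithConv (A →ₐ[k] A ⊗[k] A))]
  have h' := DFunLike.congr_fun (congrArg WithConv.ofConv h) a
  rw [show HopfAlgebra.antipode k a = S a from rfl]
  change Bialgebra.comulAlgHom k A (S a) = _ at h'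
  refine h'.trans ?_
  rw [AlgHom.convMul_apply]
  induction Coalgebra.comul (R := k) a using TensorProduct.induction_on with
  | zero => simp
  | tmul p q =>
    show iR (S p) * iL (S q) = _
    simp [iL, iR]
  | add p q hp hq => simp only [map_add, hp, hq]

section RightIntegral

/-- A right invariant integral on a bialgebra: `(id ⊗ β) Δ a = 1 ⊗ β a`. -/
def IsRightIntegral (k : Type u) [CommRing k] {A : Type v} [CommRing A] [Bialgebra k A] (β : A →ₗ[k] k) : Prop :=
  ∀ a : A, β.lTensor A (Coalgebra.comul (R := k) a) = (1 : A) ⊗ₜ[k] β a

/-- An integral composed with the antipode is a right integral. -/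
theorem IsIntegral.isRightIntegral_antipode {α : A →ₗ[k] k} (hα : IsIntegral k α) :
    IsRightIntegral k (α ∘ₗ HopfAlgebra.antipode k) := by
  intro a
  have key : ∀ z : A ⊗[k] A,
      TensorProduct.comm k k A ((HopfAlgebra.antipode k).lTensor k
        (α.rTensor A (TensorProduct.map (HopfAlgebra.antipode k) (HopfAlgebra.antipode k)
          (TensorProduct.comm k A A z)))) = (α ∘ₗ HopfAlgebra.antipode k).lTensor A z := fun z => by
    induction z using TensorProduct.induction_on with
    | zero => simp
    | tmul p q => simp [antipode_antipode_apply]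
    | add p q hp hq => simp only [map_add, hp, hq]
  rw [← key, ← comul_antipode, hα]
  simp

/-- An integral on a cocommutative bialgebra is a right integral. -/
theorem IsIntegral.isRightIntegral {k : Type u} [CommRing k] {A : Type v} [CommRing A] [Bialgebra k A]
    [Coalgebra.IsCocomm k A] {α : A →ₗ[k] k} (hα : IsIntegral k α) : IsRightIntegral k α := by
  intro a
  have key : ∀ z : A ⊗[k] A,
      α.lTensor A (TensorProduct.comm k A A z) = TensorProduct.comm k k A (α.rTensor A z) := fun z => by
    induction z using TensorProduct.induction_on with
    | zero => simp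
    | tmul p q => simp
    | add p q hp hq => simp only [map_add, hp, hq]
  have h := key (Coalgebra.comul (R := k) a)
  rw [Coalgebra.comm_comul, hα, TensorProduct.comm_tmul] at h
  exact h

end RightIntegral

end Groth.Agent.ComodLib
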