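import Groth.Agent.ComodLib.Semisimple
import Mathlib.RingTheory.SimpleModule.Isotypic

/-!
# Simple modules inside sums of images of simple modules
-/

universe u v w w' x

namespace Groth.Agent.ComodLib

variable {R : Type u} [Ring R] {M : Type v} [AddCommGroup M] [Module R M]

/-- A simple submodule of a sum of images of simple modules is isomorphic to one of them. -/
theorem exists_equiv_of_le_iSup_range {ι : Type x} {K : ι → Type w} [∀ i, AddCommGroup (K i)]
    [∀ i, Module R (K i)] [∀ i, IsSimpleModule R (K i)] (g : ∀ i, K i →ₗ[R] M)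
    (N : Submodule R M) [IsSimpleModule R N] (h : N ≤ ⨆ i, LinearMap.range (g i)) :
    ∃ i, g i ≠ 0 ∧ Nonempty (N ≃ₗ[R] K i) := by
  let s : Set (Submodule R M) := {m | ∃ i, g i ≠ 0 ∧ LinearMap.range (g i) = m}
  have hr : ∀ i, g i ≠ 0 → Nonempty (K i ≃ₗ[R] LinearMap.range (g i)) := fun i hi =>
    ⟨LinearEquiv.ofInjective (g i) ((LinearMap.injective_or_eq_zero (g i)).resolve_right hi)⟩
  haveI : ∀ m : s, IsSimpleModule R m := by
    rintro ⟨_, i, hi, rfl⟩
    exact IsSimpleModule.congr (hr i hi).some.symm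
  have hle : N ≤ sSup s := h.trans (iSup_le fun i => by
    by_cases hi : g i = 0
    · simp [hi]
    · exact le_sSup ⟨i, hi, rfl⟩)
  obtain ⟨_, ⟨i, hi, rfl⟩, ⟨e⟩⟩ := N.linearEquiv_of_le_sSup s hle
  exact ⟨i, hi, ⟨e.trans (hr i hi).some.symm⟩⟩

end Groth.Agent.ComodLib
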