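import Groth.Agent.ComodLib.Trig
import Groth.Agent.ComodLib.Isotypic
import Mathlib.LinearAlgebra.Dual.Lemmas

/-!
# Coefficient spaces, subcoalgebras, simple subcoalgebras, cosemisimplicity
-/

universe u v w w'

open TensorProduct

namespace Groth.Agent.ComodLib

section Field

variable {k : Type u} [Field k] {C : Type v} [AddCommGroup C] [Module k C] [Coalgebra k C]
variable {V : Type w} [AddCommGroup V] [Module k V] [HopfRep.Comod k C V]

variable (k C) in
/-- Subcoalgebras. -/
def IsSubcoalg (D : Submodule k C) : Prop :=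
  ∀ b ∈ D, CoalgebraStruct.comul (R := k) b ∈ LinearMap.range (TensorProduct.map D.subtype D.subtype)

/-- The coefficient function of a linear form. -/
noncomputable def coefFun (f : V →ₗ[k] k) : V →ₗ[k] C :=
  (TensorProduct.lid k C).toLinearMap ∘ₗ f.rTensor C ∘ₗ HopfRep.Comod.coact (k := k) (A := C)

theorem coefFun_apply (f : V →ₗ[k] k) (v : V) :
    coefFun (C := C) f v = TensorProduct.lid k C (f.rTensor C (HopfRep.Comod.coact (k := k) (A := C) v)) := rfl

theorem isComodHom_coefFun (f : V →ₗ[k] k) : Hoch.IsComodHom C (coefFun (C := C) f) := by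
  refine LinearMap.ext fun v => ?_
  have hc := congrArg ((TensorProduct.lid k C).toLinearMap.rTensor C ∘ₗ (f.rTensor C).rTensor C)
    (congrArg (TensorProduct.assoc k V C C).symm
      (LinearMap.congr_fun (HopfRep.Comod.coassoc (k := k) (A := C) (V := V)) v))
  simp only [LinearMap.comp_apply, LinearEquiv.coe_coe, LinearEquiv.symm_apply_apply] at hc
  simp only [coefFun, LinearMap.comp_apply, LinearEquiv.coe_coe, LinearMap.rTensor_comp]
  refine (Eq.trans hc ?_).symm
  show _ = Coalgebra.comul (R := k) _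
  induction HopfRep.Comod.coact (k := k) (A := C) v using TensorProduct.induction_on with
  | zero => simp
  | add p q hp hq => simp only [map_add, hp, hq]
  | tmul x b =>
    rw [LinearMap.lTensor_tmul, LinearMap.rTensor_tmul, TensorProduct.lid_tmul, map_smul]
    induction Coalgebra.comul (R := k) b using TensorProduct.induction_on with
    | zero => simp
    | tmul p q => simp [TensorProduct.smul_tmul']
    | add p q hp hq => simp only [tmul_add, map_add, smul_add, hp, hq]

theorem counit_coefFun (f : V →ₗ[k] k) (v : V) : Coalgebra.counit (R := k) (coefFun (C := C) f v) = f v := by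
  have h2 := congrArg (fun z => f (TensorProduct.rid k V z))
    (LinearMap.congr_fun (HopfRep.Comod.counit_comp (k := k) (A := C) (V := V)) v)
  simp only [LinearMap.comp_apply, LinearMap.flip_apply, TensorProduct.mk_apply, TensorProduct.rid_tmul, one_smul] at h2
  rw [coefFun_apply, ← h2]
  induction HopfRep.Comod.coact (k := k) (A := C) v using TensorProduct.induction_on with
  | zero => simp
  | tmul x b => simp [mul_comm]
  | add p q hp hq => simp only [map_add, hp, hq]

/-- Every comodule map into the coalgebra is a coefficient function. -/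
theorem coefFun_counit_comp {h : V →ₗ[k] C} (hh : Hoch.IsComodHom C h) :
    coefFun (C := C) (Coalgebra.counit ∘ₗ h) = h := by
  refine LinearMap.ext fun v => ?_
  have h1 := congrArg (TensorProduct.lid k C) (Coalgebra.rTensor_counit_comul (R := k) (h v))
  rw [TensorProduct.lid_tmul, one_smul] at h1
  have h2 := LinearMap.congr_fun hh v
  simp only [LinearMap.comp_apply] at h2
  rw [show Coalgebra.comul (R := k) (h v) = h.rTensor C (HopfRep.Comod.coact (k := k) (A := C) v) from h2] at h1
  rw [coefFun_apply, LinearMap.rTensor_comp, LinearMap.comp_apply]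
  exact h1

theorem mem_range_lTensor_subtype_iff {U : Type w} [AddCommGroup U] [Module k U] (D : Submodule k C)
    (z : U ⊗[k] C) :
    z ∈ LinearMap.range (D.subtype.lTensor U) ↔ ∀ f : U →ₗ[k] k, TensorProduct.lid k C (f.rTensor C z) ∈ D := by
  constructor
  · rintro ⟨y, rfl⟩ f
    induction y using TensorProduct.induction_on with
    | zero => simp
    | tmul x d => simpa using D.smul_mem (f x) d.2
    | add p q hp hq => simpa only [map_add] using D.add_mem hp hq
  · intro h
    have h1 : TensorProduct.comm k U C z ∈ LinearMap.range (D.subtype.rTensor U) := by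
      refine (mem_range_rTensor_subtype_iff D _).mpr fun f => ?_
      have key : ∀ y : U ⊗[k] C, slice f (TensorProduct.comm k U C y) = TensorProduct.lid k C (f.rTensor C y) := fun y => by
        induction y using TensorProduct.induction_on with
        | zero => simp
        | tmul x d => simp
        | add p q hp hq => simp only [map_add, hp, hq]
      rw [key]
      exact h f
    obtain ⟨y, hy⟩ := h1
    refine ⟨TensorProduct.comm k D U y, ?_⟩
    rw [← (TensorProduct.comm k U C).injective.eq_iff, ← hy]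
    clear hy
    induction y using TensorProduct.induction_on with
    | zero => simp
    | tmul x d => simp
    | add p q hp hq => simp only [map_add, hp, hq]

theorem map_incl_eq_comp (D : Submodule k C) :
    TensorProduct.map D.subtype D.subtype = D.subtype.rTensor C ∘ₗ D.subtype.lTensor D :=
  (LinearMap.rTensor_comp_lTensor _ _ _).symm

theorem isSubcoalg_iff (D : Submodule k C) :
    IsSubcoalg k C D ↔ HopfRep.IsSubcomod (k := k) (A := C) D ∧
      ∀ φ : C →ₗ[k] k, ∀ b ∈ D, coefFun (C := C) φ b ∈ D := by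
  constructor
  · intro h
    refine ⟨fun b hb => ?_, fun φ b hb => ?_⟩
    · obtain ⟨z, hz⟩ := h b hb
      rw [map_incl_eq_comp] at hz
      exact ⟨D.subtype.lTensor D z, hz⟩
    · obtain ⟨z, hz⟩ := h b hb
      rw [coefFun_apply, show HopfRep.Comod.coact (k := k) (A := C) b = Coalgebra.comul (R := k) b from rfl, ← hz]
      clear hz
      induction z using TensorProduct.induction_on with
      | zero => simp
      | tmul x y => simpa using D.smul_mem (φ x) y.2
      | add p q hp hq => simpa only [map_add] using D.add_mem hp hq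
  · rintro ⟨hsub, hl⟩ b hb
    obtain ⟨y, hy⟩ := hsub b hb
    have hy' : y ∈ LinearMap.range (D.subtype.lTensor D) := by
      refine (mem_range_lTensor_subtype_iff (U := D) D y).mpr fun f => ?_
      obtain ⟨F, rfl⟩ := LinearMap.exists_extend f |>.imp fun F hF => hF.symm
      have h1 := hl F b hb
      rw [coefFun_apply, ← hy, ← LinearMap.comp_apply (F.rTensor C), ← LinearMap.rTensor_comp] at h1
      exact h1
    obtain ⟨z, rfl⟩ := hy'
    refine ⟨z, ?_⟩
    rw [map_incl_eq_comp]
    exact hy

variable (k C V) in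
/-- The coefficient space. -/
noncomputable def coeffSpace : Submodule k C := ⨆ f : V →ₗ[k] k, LinearMap.range (coefFun (C := C) f)

theorem coeffSpace_le_iff (D : Submodule k C) :
    coeffSpace k C V ≤ D ↔ ∀ v : V, HopfRep.Comod.coact (k := k) (A := C) v ∈ LinearMap.range (D.subtype.lTensor V) := by
  rw [coeffSpace, iSup_le_iff]
  refine ⟨fun h v => (mem_range_lTensor_subtype_iff D _).mpr fun f => h f ⟨v, rfl⟩, fun h f => ?_⟩
  rintro _ ⟨v, rfl⟩
  exact (mem_range_lTensor_subtype_iff D _).mp (h v) f

theorem isLeast_coeffSpace :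
    IsLeast {D : Submodule k C | ∀ v : V, HopfRep.Comod.coact (k := k) (A := C) v ∈
      LinearMap.range (LinearMap.lTensor V D.subtype)} (coeffSpace k C V) :=
  ⟨(coeffSpace_le_iff _).mp le_rfl, fun D hD => (coeffSpace_le_iff D).mpr hD⟩

theorem isSubcoalg_coeffSpace : IsSubcoalg k C (coeffSpace k C V) := by
  refine (isSubcoalg_iff _).mpr ⟨isSubcomod_iSup fun f => isSubcomod_range (isComodHom_coefFun f), fun φ => ?_⟩
  show coeffSpace k C V ≤ (coeffSpace k C V).comap (coefFun (C := C) φ)
  conv_lhs => rw [coeffSpace]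
  refine iSup_le fun f => ?_
  rintro _ ⟨v, rfl⟩
  have hh : Hoch.IsComodHom C (coefFun (C := C) φ ∘ₗ coefFun (C := C) f) := isComodHom_iff_actF.mpr fun ψ x => by
    simp only [LinearMap.comp_apply]
    rw [comodHom_actF (isComodHom_coefFun f), comodHom_actF (isComodHom_coefFun φ)]
  rw [Submodule.mem_comap, ← LinearMap.comp_apply, ← coefFun_counit_comp hh]
  exact Submodule.mem_iSup_of_mem _ ⟨v, rfl⟩

theorem finite_coeffSpace [Module.Finite k V] : Module.Finite k (coeffSpace k C V) := by
  let L : (Module.Dual k V) ⊗[k] V →ₗ[k] C :=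
    TensorProduct.lift
      { toFun := fun f => coefFun (C := C) f
        map_add' := fun f g => LinearMap.ext fun v => by simp [coefFun_apply, LinearMap.rTensor_add]
        map_smul' := fun r f => LinearMap.ext fun v => by simp [coefFun_apply, LinearMap.rTensor_smul] }
  haveI : Module.Finite k (LinearMap.range L) := Module.Finite.range L
  refine Submodule.finiteDimensional_of_le (S₂ := LinearMap.range L) (iSup_le fun f => ?_)
  rintro _ ⟨v, rfl⟩
  exact ⟨f ⊗ₜ v, rfl⟩

theorem range_le_coeffSpace {h : V →ₗ[k] C} (hh : Hoch.IsComodHom C h) : LinearMap.range h ≤ coeffSpace k C V := by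
  conv_lhs => rw [← coefFun_counit_comp hh]
  exact le_iSup (fun f : V →ₗ[k] k => LinearMap.range (coefFun (C := C) f)) _

theorem coeffSpace_le_of_hom {j : V →ₗ[k] C} (hj : Hoch.IsComodHom C j) (hinj : Function.Injective j)
    {B : Submodule k C} (hB : IsSubcoalg k C B) (hle : LinearMap.range j ≤ B) : coeffSpace k C V ≤ B := by
  refine iSup_le fun f => ?_
  obtain ⟨φ, hφ⟩ := LinearMap.dualMap_surjective_of_injective hinj f
  have hh : Hoch.IsComodHom C (coefFun (C := C) φ ∘ₗ j) := isComodHom_iff_actF.mpr fun ψ x => by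
    simp only [LinearMap.comp_apply]
    rw [comodHom_actF hj, comodHom_actF (isComodHom_coefFun φ)]
  have he : coefFun (C := C) f = coefFun (C := C) φ ∘ₗ j := by
    rw [← coefFun_counit_comp hh]
    congr 1
    refine LinearMap.ext fun v => ?_
    simp only [LinearMap.comp_apply, counit_coefFun, ← hφ, LinearMap.dualMap_apply]
  rw [he]
  rintro _ ⟨v, rfl⟩
  exact ((isSubcoalg_iff B).mp hB).2 φ _ (hle ⟨v, rfl⟩)

theorem coeffSpace_ne_bot [Nontrivial V] : coeffSpace k C V ≠ ⊥ := by
  intro h
  obtain ⟨v, hv⟩ := exists_ne (0 : V)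
  obtain ⟨f, hf⟩ := Module.Projective.exists_dual_ne_zero k hv
  have h1 : coefFun (C := C) f v ∈ coeffSpace k C V := Submodule.mem_iSup_of_mem f ⟨v, rfl⟩
  rw [h, Submodule.mem_bot] at h1
  exact hf (by rw [← counit_coefFun (C := C) f v, h1, map_zero])

/-- A simple comodule inside a sum of images of another one is isomorphic to it. -/
theorem exists_equiv_of_isMinSubcomod_le {ι : Type*} {E : Type w} [AddCommGroup E] [Module k E]
    [HopfRep.Comod k C E] (hE : HopfRep.IsSimpleComod k C E)
    {M : Type w'} [AddCommGroup M] [Module k M] [HopfRep.Comod k C M]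
    (g : ι → E →ₗ[k] M) (hg : ∀ i, Hoch.IsComodHom C (g i)) {T : Submodule k M} (hT : IsMinSubcomod k C T)
    (hle : T ≤ ⨆ i, LinearMap.range (g i)) :
    ∃ j : E →ₗ[k] M, Hoch.IsComodHom C j ∧ Function.Injective j ∧ LinearMap.range j = T := by
  haveI := isSimpleComod_iff_isSimpleModule.mp hE
  let N := toConvSub (C := C) T hT.1
  haveI : IsSimpleModule (WithConv (C →ₗ[k] k)) N :=
    isSimpleModule_iff_isAtom.mpr ((isAtom_iff_isMinSubcomod N).mpr hT)
  obtain ⟨i, -, ⟨e⟩⟩ := exists_equiv_of_le_iSup_range (K := fun _ : ι => E) (fun i => toConvLin (C := C) (g i) (hg i)) N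
    (fun x hx => by
      have h1 : (⨆ i, LinearMap.range (g i)) ≤
          (⨆ i, LinearMap.range (toConvLin (C := C) (g i) (hg i))).restrictScalars k :=
        iSup_le fun i y hy => Submodule.mem_iSup_of_mem i hy
      exact h1 (hle hx))
  refine ⟨(N.subtype ∘ₗ e.symm.toLinearMap).restrictScalars k, isComodHom_of_convLinear _,
    N.injective_subtype.comp e.symm.injective, ?_⟩
  ext x
  constructor
  · rintro ⟨y, rfl⟩
    exact (e.symm y).2
  · intro hx
    exact ⟨e ⟨x, hx⟩, by simp⟩

theorem isMinSubcomod_range {j : V →ₗ[k] C} (hj : Hoch.IsComodHom C j) (hinj : Function.Injective j)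
    (hV : HopfRep.IsSimpleComod k C V) : IsMinSubcomod k C (LinearMap.range j) := by
  haveI := hV.1
  refine ⟨isSubcomod_range hj, fun h => ?_, fun U hU hle => ?_⟩
  · obtain ⟨v, hv⟩ := exists_ne (0 : V)
    exact hv (hinj (by rw [map_zero]; exact (Submodule.mem_bot k).mp (h ▸ LinearMap.mem_range_self j v)))
  · rcases hV.2 _ (isSubcomod_comap hj hU) with h | h
    · left
      rw [← Submodule.map_comap_eq_self hle, h, Submodule.map_bot]
    · right
      rw [← Submodule.map_comap_eq_self hle, h, Submodule.map_top]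

theorem isSimpleSubcoalg_coeffSpace (hV : HopfRep.IsSimpleComod k C V) {B : Submodule k C}
    (hBle : B ≤ coeffSpace k C V) (hB : IsSubcoalg k C B) : B = ⊥ ∨ B = coeffSpace k C V := by
  by_cases h0 : B = ⊥
  · exact Or.inl h0
  right
  obtain ⟨S, hSB, -, hS, hS0, hmin⟩ := exists_simple_le ((isSubcoalg_iff B).mp hB).1 h0
  obtain ⟨j, hj, hinj, hrange⟩ := exists_equiv_of_isMinSubcomod_le hV (fun f : V →ₗ[k] k => coefFun (C := C) f)
    isComodHom_coefFun ⟨hS, hS0, hmin⟩ (hSB.trans hBle)
  exact le_antisymm hBle (coeffSpace_le_of_hom hj hinj hB (hrange ▸ hSB))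

end Field

section Subcomod

variable {k : Type u} [Field k] {C : Type v} [AddCommGroup C] [Module k C] [Coalgebra k C]

variable (k C) in
/-- Simple subcoalgebras. -/
def IsSimpleSubcoalg (D : Submodule k C) : Prop :=
  D ≠ ⊥ ∧ IsSubcoalg k C D ∧ ∀ B : Submodule k C, B ≤ D → IsSubcoalg k C B → B = ⊥ ∨ B = D

/-- A simple subcoalgebra is the coefficient space of any minimal subcomodule in it. -/
theorem eq_coeffSpace_of_minimal {D : Submodule k C} (hD : IsSimpleSubcoalg k C D) {S : Submodule k C}
    (hS : IsMinSubcomod k C S) (hle : S ≤ D) :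
    D = @coeffSpace k _ C _ _ _ S _ _ (ComodSub.Comod.restr (HopfRep.Comod.regular k C) S hS.1) := by
  letI : HopfRep.Comod k C S := ComodSub.Comod.restr (HopfRep.Comod.regular k C) S hS.1
  haveI : Nontrivial S := Submodule.nontrivial_iff_ne_bot.mpr hS.2.1
  have hi : Hoch.IsComodHom C S.subtype := ComodSub.isComodHom_subtype _ S hS.1
  rcases hD.2.2 (coeffSpace k C S) (coeffSpace_le_of_hom hi S.injective_subtype hD.2.1 (by simpa using hle))
    isSubcoalg_coeffSpace with h | h
  · exact absurd h coeffSpace_ne_bot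
  · exact h.symm

/-- A simple subcoalgebra is spanned by minimal subcomodules isomorphic to any one of them. -/
theorem le_iSup_minimal {D : Submodule k C} (hD : IsSimpleSubcoalg k C D) :
    D ≤ ⨆ T : {T : Submodule k C // IsMinSubcomod k C T ∧ T ≤ D}, T.1 := by
  obtain ⟨S, hSD, -, hS, hS0, hmin⟩ := exists_simple_le ((isSubcoalg_iff D).mp hD.2.1).1 hD.1
  letI : HopfRep.Comod k C S := ComodSub.Comod.restr (HopfRep.Comod.regular k C) S hS
  have hsimple : HopfRep.IsSimpleComod k C S := isSimpleComod_restr hS hS0 hmin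
  have hDS : D = coeffSpace k C S := eq_coeffSpace_of_minimal hD ⟨hS, hS0, hmin⟩ hSD
  conv_lhs => rw [hDS]
  refine iSup_le fun f => ?_
  have hker := hsimple.2 _ (isSubcomod_ker (isComodHom_coefFun (C := C) f))
  rcases hker with h | h
  · refine le_iSup_of_le ⟨LinearMap.range (coefFun (C := C) f),
      isMinSubcomod_range (isComodHom_coefFun f) (LinearMap.ker_eq_bot.mp h) hsimple, ?_⟩ le_rfl
    conv_rhs => rw [hDS]
    exact range_le_coeffSpace (isComodHom_coefFun f)
  · rw [LinearMap.range_eq_bot.mpr (LinearMap.ker_eq_top.mp h)]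
    exact bot_le

/-- Distinct simple subcoalgebras are independent. -/
theorem iSupIndep_simpleSubcoalg {ι : Type*} {D : ι → Submodule k C} (hD : ∀ i, IsSimpleSubcoalg k C (D i))
    (hinj : Function.Injective D) : iSupIndep D := by
  intro i
  rw [disjoint_iff]
  by_contra hne
  have hsub : HopfRep.IsSubcomod (k := k) (A := C) (D i ⊓ ⨆ (j) (_ : j ≠ i), D j) :=
    isSubcomod_inf ((isSubcoalg_iff _).mp (hD i).2.1).1
      (isSubcomod_iSup fun j => isSubcomod_iSup fun _ => ((isSubcoalg_iff _).mp (hD j).2.1).1)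
  obtain ⟨T, hT, -, hTs, hT0, hmin⟩ := exists_simple_le hsub hne
  have hTmin : IsMinSubcomod k C T := ⟨hTs, hT0, hmin⟩
  let N := toConvSub (C := C) T hTs
  haveI : IsSimpleModule (WithConv (C →ₗ[k] k)) N :=
    isSimpleModule_iff_isAtom.mpr ((isAtom_iff_isMinSubcomod N).mpr hTmin)
  let J := Σ j : {j : ι // j ≠ i}, {T : Submodule k C // IsMinSubcomod k C T ∧ T ≤ D j.1}
  let K : J → Submodule (WithConv (C →ₗ[k] k)) C := fun x => toConvSub (C := C) x.2.1 x.2.2.1.1
  haveI : ∀ x : J, IsSimpleModule (WithConv (C →ₗ[k] k)) (K x) := fun x =>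
    isSimpleModule_iff_isAtom.mpr ((isAtom_iff_isMinSubcomod _).mpr x.2.2.1)
  obtain ⟨x, -, ⟨e⟩⟩ := exists_equiv_of_le_iSup_range (fun x : J => (K x).subtype) N (fun y hy => by
    have h1 : (⨆ (j) (_ : j ≠ i), D j) ≤ (⨆ x : J, LinearMap.range (K x).subtype).restrictScalars k :=
      iSup₂_le fun j hj => (le_iSup_minimal (hD j)).trans (iSup_le fun U y hy =>
        Submodule.mem_iSup_of_mem (⟨⟨j, hj⟩, U⟩ : J) ⟨⟨y, hy⟩, rfl⟩)
    exact h1 ((hT.trans inf_le_right) hy))
  letI : HopfRep.Comod k C T := ComodSub.Comod.restr (HopfRep.Comod.regular k C) T hTs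
  have hi : Hoch.IsComodHom C T.subtype := ComodSub.isComodHom_subtype _ T hTs
  let j' : T →ₗ[k] C := ((K x).subtype ∘ₗ e.toLinearMap).restrictScalars k
  have hj' : Hoch.IsComodHom C j' := isComodHom_iff_actF.mpr fun φ t => by
    have ht : (WithConv.toConv φ • (⟨t.1, t.2⟩ : N) : N) = ⟨(actF φ t : T).1, (actF φ t : T).2⟩ :=
      Subtype.ext (comodHom_actF hi φ t).symm
    show ((e ⟨(actF φ t : T).1, (actF φ t : T).2⟩ : K x) : C) = actF φ ((e ⟨t.1, t.2⟩ : K x) : C)
    rw [← ht, map_smul]
    rfl
  have h1 : coeffSpace k C T ≤ D x.1.1 :=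
    coeffSpace_le_of_hom hj' ((K x).injective_subtype.comp e.injective) (hD x.1.1).2.1
      (by rintro _ ⟨t, rfl⟩; exact x.2.2.2 (e t).2)
  have h2 : D i = coeffSpace k C T := eq_coeffSpace_of_minimal (hD i) hTmin (hT.trans inf_le_left)
  rcases (hD x.1.1).2.2 (D i) (h2.le.trans h1) (hD i).2.1 with h | h
  · exact (hD i).1 h
  · exact x.1.2 (hinj h.symm)

theorem isSemisimpleComod_regular_of_simpleSubcoalg {ι : Type*} {D : ι → Submodule k C}
    (hD : ∀ i, IsSimpleSubcoalg k C (D i)) (htop : iSup D = ⊤) : HopfRep.IsSemisimpleComod k C C :=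
  isSemisimpleComod_of_iSup_minimal (fun T : {T : Submodule k C // IsMinSubcomod k C T} => T.1) (fun T => T.2)
    (eq_top_iff.mpr (htop ▸ iSup_le fun i =>
      (le_iSup_minimal (hD i)).trans (iSup_le fun T => le_iSup_of_le ⟨T.1, T.2.1⟩ le_rfl)))

theorem isSimpleSubcoalg_coeff_minimal {S : Submodule k C} (hS : IsMinSubcomod k C S) :
    IsSimpleSubcoalg k C
      (@coeffSpace k _ C _ _ _ S _ _ (ComodSub.Comod.restr (HopfRep.Comod.regular k C) S hS.1)) := by
  letI : HopfRep.Comod k C S := ComodSub.Comod.restr (HopfRep.Comod.regular k C) S hS.1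
  haveI : Nontrivial S := Submodule.nontrivial_iff_ne_bot.mpr hS.2.1
  exact ⟨coeffSpace_ne_bot, isSubcoalg_coeffSpace,
    fun B hle hB => isSimpleSubcoalg_coeffSpace (isSimpleComod_restr hS.1 hS.2.1 hS.2.2) hle hB⟩

theorem exists_simpleSubcoalg_decomposition (hC : HopfRep.IsSemisimpleComod k C C) :
    ∃ (ι : Type v) (D : ι → Submodule k C), iSupIndep D ∧ iSup D = ⊤ ∧ ∀ i, IsSimpleSubcoalg k C (D i) := by
  refine ⟨{D : Submodule k C // IsSimpleSubcoalg k C D}, Subtype.val,
    iSupIndep_simpleSubcoalg (fun D => D.2) Subtype.val_injective, ?_, fun D => D.2⟩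
  obtain ⟨s, hs, -, htop⟩ := exists_minimal_decomposition hC
  refine eq_top_iff.mpr (htop ▸ iSup_le fun T => ?_)
  letI : HopfRep.Comod k C T.1 := ComodSub.Comod.restr (HopfRep.Comod.regular k C) T.1 (hs _ T.2).1
  refine le_iSup_of_le ⟨_, isSimpleSubcoalg_coeff_minimal (hs _ T.2)⟩ ?_
  refine le_trans ?_ (range_le_coeffSpace (ComodSub.isComodHom_subtype _ T.1 (hs _ T.2).1))
  rw [Submodule.range_subtype]

theorem isSemisimpleComod_of_regular (hC : HopfRep.IsSemisimpleComod k C C)
    {V : Type w} [AddCommGroup V] [Module k V] [c : HopfRep.Comod k C V] :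
    HopfRep.IsSemisimpleComod k C V :=
  isSemisimpleComod_of_finite fun U hU hUf => by
    letI : HopfRep.Comod k C U := ComodSub.Comod.restr c U hU
    haveI := isSemisimpleComod_iff_isSemisimpleModule.mp hC
    let b := Module.finBasis k U
    let Φ : U →ₗ[WithConv (C →ₗ[k] k)] (Fin (Module.finrank k U) → C) :=
      LinearMap.pi fun i => toConvLin (C := C) (coefFun (C := C) (b.coord i)) (isComodHom_coefFun _)
    refine isSemisimpleComod_iff_isSemisimpleModule.mpr (IsSemisimpleModule.of_injective Φ ?_)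
    intro x y hxy
    refine b.ext_elem fun i => ?_
    have h := congrArg (Coalgebra.counit (R := k)) (congrFun hxy i)
    simp only [Φ, LinearMap.pi_apply, toConvLin_apply, counit_coefFun, Module.Basis.coord_apply] at h
    exact h

end Subcomod

end Groth.Agent.ComodLib
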