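import Groth.Agent.ComodLib.Invariants
import Groth.Agent.ComodLib.Coalg
import Mathlib.RingTheory.Nullstellensatz
import Mathlib.RingTheory.Spectrum.Prime.Chevalley
import Mathlib.RingTheory.Spectrum.Prime.ConstructibleSet
import Mathlib.RingTheory.Ideal.MinimalPrime.Noetherian

/-!
# Orbits of rational points and their closures
-/

universe u v w

open TensorProduct

namespace Groth.Agent.ComodLib

section Points

variable {k : Type u} [Field k]

theorem eq_of_ker_le {R : Type*} [CommRing R] [Algebra k R] {x y : R →ₐ[k] k}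
    (h : RingHom.ker x ≤ RingHom.ker y) : x = y := by
  refine AlgHom.ext fun f => ?_
  have h1 : f - algebraMap k R (x f) ∈ RingHom.ker y :=
    h (by rw [RingHom.mem_ker, map_sub, AlgHom.commutes, Algebra.algebraMap_self_apply, sub_self])
  rw [RingHom.mem_ker, map_sub, AlgHom.commutes, Algebra.algebraMap_self_apply, sub_eq_zero] at h1
  exact h1.symm

theorem exists_point [IsAlgClosed k] {R : Type*} [CommRing R] [Algebra k R] [Algebra.FiniteType k R] (J : Ideal R)
    (hJ : J ≠ ⊤) : ∃ x : R →ₐ[k] k, J ≤ RingHom.ker x := by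
  obtain ⟨m, hm, hle⟩ := Ideal.exists_le_maximal J hJ
  haveI := hm
  letI := Ideal.Quotient.field m
  haveI : Module.Finite k (R ⧸ m) := finite_of_finite_type_of_isJacobsonRing k (R ⧸ m)
  have hb : Function.Bijective (algebraMap k (R ⧸ m)) := IsAlgClosed.algebraMap_bijective_of_isIntegral
  refine ⟨(AlgEquiv.ofBijective (Algebra.ofId k (R ⧸ m)) hb).symm.toAlgHom.comp (Ideal.Quotient.mkₐ k m),
    fun f hf => ?_⟩
  show (AlgEquiv.ofBijective (Algebra.ofId k (R ⧸ m)) hb).symm (Ideal.Quotient.mk m f) = 0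
  rw [Ideal.Quotient.eq_zero_iff_mem.mpr (hle hf), map_zero]

theorem exists_point_ne_zero [IsAlgClosed k] {R : Type*} [CommRing R] [Algebra k R] [Algebra.FiniteType k R] {a : R}
    (ha : ¬ IsNilpotent a) : ∃ x : R →ₐ[k] k, x a ≠ 0 := by
  have : IsJacobsonRing R := isJacobsonRing_of_finiteType (A := k)
  have h1 : a ∉ Ideal.jacobson (⊥ : Ideal R) := by
    intro hj
    refine ha ?_
    have h2 : (Ideal.radical (⊥ : Ideal R)).jacobson = Ideal.radical ⊥ :=
      isJacobsonRing_iff.mp this _ (Ideal.radical_isRadical _)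
    have h3 : a ∈ Ideal.radical (⊥ : Ideal R) := h2 ▸ Ideal.jacobson_mono Ideal.le_radical hj
    obtain ⟨N, hN⟩ := Ideal.mem_radical_iff.mp h3
    exact ⟨N, hN⟩
  simp only [Ideal.jacobson, Submodule.mem_sInf, not_forall] at h1
  obtain ⟨m, ⟨-, hm⟩, ha'⟩ := h1
  obtain ⟨x, hx⟩ := exists_point (k := k) m hm.ne_top
  exact ⟨x, fun h0 => ha' (hm.eq_of_le (RingHom.ker_ne_top _) hx ▸ h0)⟩

/-- The image of an injective map of finite presentation contains a dense-in-a-component basic open. -/
theorem exists_basicOpen_subset_range {R A : Type*} [CommRing R] [IsNoetherianRing R] [Nontrivial A] [CommRing A]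
    (f : R →+* A) (hf : f.FinitePresentation) (hinj : Function.Injective f) :
    ∃ h : R, ¬ IsNilpotent h ∧ ∀ q : PrimeSpectrum R, h ∉ q.asIdeal → q ∈ Set.range (PrimeSpectrum.comap f) := by
  classical
  haveI : Nontrivial R := f.domain_nontrivial
  obtain ⟨p, hp⟩ : (minimalPrimes R).Nonempty := by
    obtain ⟨m, hm⟩ := Ideal.exists_maximal R
    obtain ⟨p, hp, -⟩ := Ideal.exists_minimalPrimes_le (I := (⊥ : Ideal R)) (J := m) bot_le
    exact ⟨p, hp⟩
  have hpp := Ideal.minimalPrimes_isPrime hp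
  obtain ⟨q, hq, hqp⟩ := Ideal.exists_comap_eq_of_mem_minimalPrimes f (I := (⊥ : Ideal A)) p
    (by rwa [← RingHom.ker_eq_comap_bot, (RingHom.injective_iff_ker_eq_bot f).mp hinj])
  obtain ⟨S, hS⟩ := PrimeSpectrum.exists_constructibleSetData_iff.mpr (PrimeSpectrum.isConstructible_range_comap hf)
  have hmem : (⟨p, hpp⟩ : PrimeSpectrum R) ∈ S.toSet :=
    hS ▸ ⟨⟨q, hq⟩, PrimeSpectrum.ext hqp.2⟩
  simp only [PrimeSpectrum.ConstructibleSetData.toSet, Set.mem_iUnion] at hmem
  obtain ⟨C, hC, hpC⟩ := hmem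
  obtain ⟨hg, hfC⟩ := hpC
  simp only [PrimeSpectrum.mem_zeroLocus, Set.singleton_subset_iff, SetLike.mem_coe] at hg hfC
  -- an element of the other minimal primes outside `p`
  let others := (minimalPrimes.finite_of_isNoetherianRing R).toFinset.erase p
  obtain ⟨e, he, hep⟩ : ∃ e, (∀ p' ∈ others, e ∈ p') ∧ e ∉ p := by
    have h1 : ¬ others.inf id ≤ p := fun hle => by
      obtain ⟨p', hp', hle'⟩ := (Ideal.IsPrime.inf_le' hpp).mp hle
      have hp'm := (Set.Finite.mem_toFinset _).mp (Finset.mem_of_mem_erase hp')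
      exact Finset.ne_of_mem_erase hp' (le_antisymm hle' (hp.2 ⟨Ideal.minimalPrimes_isPrime hp'm, bot_le⟩ hle'))
    obtain ⟨e, he, hep⟩ := SetLike.not_le_iff_exists.mp h1
    exact ⟨e, fun p' hp' => (Finset.inf_le (f := id) hp') he, hep⟩
  refine ⟨C.f * e, fun hn => (hpp.mem_or_mem (nilradical_le_prime p hn)).elim hfC hep, fun q hq => ?_⟩
  obtain ⟨p', hp', hle⟩ := Ideal.exists_minimalPrimes_le (I := (⊥ : Ideal R)) (J := q.asIdeal) bot_le
  have hpe : p' = p := by
    by_contra hne
    exact hq (q.asIdeal.mul_mem_left _ (hle (he p' (Finset.mem_erase.mpr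
      ⟨hne, (Set.Finite.mem_toFinset _).mpr hp'⟩))))
  subst hpe
  rw [← hS]
  simp only [PrimeSpectrum.ConstructibleSetData.toSet, Set.mem_iUnion]
  refine ⟨C, hC, ?_, ?_⟩
  · rintro x hx
    exact hle (hg hx)
  · intro hx
    exact hq (q.asIdeal.mul_mem_right _ (by simpa using hx))

theorem exists_lift_of_mem_range [IsAlgClosed k] {R A : Type*} [CommRing R] [Algebra k R] [CommRing A] [Algebra k A]
    [Algebra.FiniteType k A] (φ : R →ₐ[k] A) (z : R →ₐ[k] k)
    (hz : (⟨RingHom.ker z, RingHom.ker_isPrime _⟩ : PrimeSpectrum R) ∈ Set.range (PrimeSpectrum.comap φ.toRingHom)) :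
    ∃ g : A →ₐ[k] k, g.comp φ = z := by
  obtain ⟨q, hq⟩ := hz
  obtain ⟨g, hg⟩ := exists_point (k := k) q.asIdeal q.2.ne_top
  refine ⟨g, (eq_of_ker_le fun f hf => ?_).symm⟩
  have h1 : f ∈ (PrimeSpectrum.comap φ.toRingHom q).asIdeal := hq.symm ▸ hf
  exact hg h1

end Points

section Orbit

variable {k : Type u} [Field k] {A : Type v} [CommRing A] [HopfAlgebra k A]
variable {R : Type w} [CommRing R] [Algebra k R] [HopfRep.Comod k A R] [GLin.IsCoactAlg k A R]

open GLin (orbitHom actPt)

theorem orbitHom_apply (x : R →ₐ[k] k) (f : R) :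
    orbitHom k A x f =
      TensorProduct.lid k A (x.toLinearMap.rTensor A (HopfRep.Comod.coact (k := k) (A := A) f)) := by
  show Algebra.TensorProduct.lid k A (Algebra.TensorProduct.map x (AlgHom.id k A) (GLin.coactAlgHom k A R f)) = _
  rw [show GLin.coactAlgHom k A R f = HopfRep.Comod.coact (k := k) (A := A) f from rfl]
  induction HopfRep.Comod.coact (k := k) (A := A) f using TensorProduct.induction_on with
  | zero => simp
  | tmul a b => simp
  | add p q hp hq => simp only [map_add, hp, hq]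

theorem isComodHom_orbitHom (x : R →ₐ[k] k) : Hoch.IsComodHom A (orbitHom k A x).toLinearMap := by
  have : (orbitHom k A x).toLinearMap = coefFun (C := A) x.toLinearMap := LinearMap.ext fun f => orbitHom_apply x f
  rw [this]
  exact isComodHom_coefFun _

theorem orbitHom_of_invariant (x : R →ₐ[k] k) {f : R} (hf : f ∈ GLin.invariants k A R) :
    orbitHom k A x f = algebraMap k A (x f) := by
  rw [orbitHom_apply, show HopfRep.Comod.coact (k := k) (A := A) f = f ⊗ₜ[k] (1 : A) from hf]
  simp [Algebra.algebraMap_eq_smul_one]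

theorem counit_orbitHom (x : R →ₐ[k] k) (f : R) : Coalgebra.counit (R := k) (orbitHom k A x f) = x f :=
  (congrArg _ (orbitHom_apply x f)).trans (counit_coefFun x.toLinearMap f)

theorem ker_orbitHom_le (x : R →ₐ[k] k) : RingHom.ker (orbitHom k A x) ≤ RingHom.ker x := fun f hf => by
  rw [RingHom.mem_ker] at hf ⊢
  rw [← counit_orbitHom (A := A), hf, map_zero]

theorem isSubcomod_ker_orbitHom (x : R →ₐ[k] k) :
    HopfRep.IsSubcomod (k := k) (A := A) ((RingHom.ker (orbitHom k A x)).restrictScalars k) := by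
  have h := isSubcomod_ker (C := A) (isComodHom_orbitHom (A := A) x)
  exact h

theorem inOrbitClosure_iff (x z : R →ₐ[k] k) :
    GLin.InOrbitClosure k A x z ↔ RingHom.ker (orbitHom k A x) ≤ RingHom.ker (orbitHom k A z) := by
  refine ⟨fun h f hf => ?_, fun h => h.trans (ker_orbitHom_le z)⟩
  obtain ⟨y, hy⟩ := isSubcomod_ker_orbitHom (A := A) x f hf
  rw [RingHom.mem_ker, orbitHom_apply, ← hy]
  clear hy
  induction y using TensorProduct.induction_on with
  | zero => simp
  | tmul a b => simp [show z a.1 = 0 from h a.2]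
  | add p q hp hq => simp only [map_add, hp, hq, add_zero]

theorem eq_of_closures_meet_invariant {x z : R →ₐ[k] k} (h : GLin.InOrbitClosure k A x z) {f : R}
    (hf : f ∈ GLin.invariants k A R) : z f = x f := by
  have h1 : f - algebraMap k R (x f) ∈ RingHom.ker z :=
    h (by rw [RingHom.mem_ker, map_sub, orbitHom_of_invariant x hf, AlgHom.commutes, sub_self])
  rw [RingHom.mem_ker, map_sub, AlgHom.commutes, Algebra.algebraMap_self_apply, sub_eq_zero] at h1
  exact h1

/-- Left translation by a point. -/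
noncomputable def translatePt (g : A →ₐ[k] k) : A →ₐ[k] A :=
  (Algebra.TensorProduct.lid k A).toAlgHom.comp
    ((Algebra.TensorProduct.map g (AlgHom.id k A)).comp (Bialgebra.comulAlgHom k A))

theorem orbitHom_actPt (g : A →ₐ[k] k) (x : R →ₐ[k] k) :
    orbitHom k A (actPt k g x) = (translatePt g).comp (orbitHom k A x) := by
  refine AlgHom.ext fun f => ?_
  rw [orbitHom_apply]
  show _ = Algebra.TensorProduct.lid k A (Algebra.TensorProduct.map g (AlgHom.id k A)
    (Coalgebra.comul (R := k) ((orbitHom k A x).toLinearMap f)))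
  have hc := LinearMap.congr_fun (isComodHom_orbitHom (A := A) x) f
  simp only [LinearMap.comp_apply] at hc
  rw [show Coalgebra.comul (R := k) ((orbitHom k A x).toLinearMap f) = _ from hc]
  induction HopfRep.Comod.coact (k := k) (A := A) f using TensorProduct.induction_on with
  | zero => simp
  | tmul a b => simp [actPt]
  | add p q hp hq => simp only [map_add, hp, hq]

theorem actPt_actPt (g g' : A →ₐ[k] k) (x : R →ₐ[k] k) :
    actPt k g' (actPt k g x) = actPt k (g'.comp (translatePt g)) x := by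
  show g'.comp (orbitHom k A (actPt k g x)) = _
  rw [orbitHom_actPt]
  rfl

theorem actPt_inv (g : A →ₐ[k] k) (x : R →ₐ[k] k) :
    actPt k (g.comp (HopfAlgebra.antipodeAlgHom k A)) (actPt k g x) = x := by
  rw [actPt_actPt]
  refine AlgHom.ext fun f => ?_
  show g (HopfAlgebra.antipode k (translatePt g (orbitHom k A x f))) = x f
  rw [← counit_orbitHom (A := A) x f]
  generalize orbitHom k A x f = a
  have h2 : ∀ y : A ⊗[k] A, g (HopfAlgebra.antipode k
      (Algebra.TensorProduct.lid k A (Algebra.TensorProduct.map g (AlgHom.id k A) y))) =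
      g (LinearMap.mul' k A ((HopfAlgebra.antipode k).lTensor A y)) := fun y => by
    induction y using TensorProduct.induction_on with
    | zero => simp
    | tmul p q => simp [map_smul]
    | add p q hp hq => simp only [map_add, hp, hq]
  refine (h2 _).trans ?_
  show g (LinearMap.mul' k A ((HopfAlgebra.antipode k).lTensor A (Coalgebra.comul (R := k) a))) = _
  rw [HopfAlgebra.mul_antipode_lTensor_comul_apply, AlgHom.commutes, Algebra.algebraMap_self_apply]

theorem ker_orbitHom_actPt (g : A →ₐ[k] k) (x : R →ₐ[k] k) :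
    RingHom.ker (orbitHom k A (actPt k g x)) = RingHom.ker (orbitHom k A x) := by
  have h : ∀ (g : A →ₐ[k] k) (x : R →ₐ[k] k),
      RingHom.ker (orbitHom k A x) ≤ RingHom.ker (orbitHom k A (actPt k g x)) := fun g x f hf => by
    rw [RingHom.mem_ker] at hf ⊢
    rw [orbitHom_actPt, AlgHom.comp_apply, hf, map_zero]
  exact le_antisymm ((h (g.comp (HopfAlgebra.antipodeAlgHom k A)) _).trans (by rw [actPt_inv])) (h g x)

variable [IsAlgClosed k] [Algebra.FiniteType k A] [Algebra.FiniteType k R]

theorem exists_actPt_of_ker_eq {y z : R →ₐ[k] k}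
    (h : RingHom.ker (orbitHom k A y) = RingHom.ker (orbitHom k A z)) : ∃ g : A →ₐ[k] k, z = actPt k g y := by
  set I := RingHom.ker (orbitHom k A y)
  let φ : R ⧸ I →ₐ[k] A := Ideal.Quotient.liftₐ I (orbitHom k A y) fun a ha => ha
  haveI : IsNoetherianRing (R ⧸ I) := Algebra.FiniteType.isNoetherianRing k (R ⧸ I)
  haveI : Nontrivial A := (Bialgebra.counitAlgHom k A).toRingHom.domain_nontrivial
  have hφinj : Function.Injective φ := RingHom.kerLift_injective (orbitHom k A y).toRingHom
  have hφ : φ.toRingHom.FinitePresentation := by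
    have : φ.toRingHom.FiniteType :=
      AlgHom.FiniteType.of_comp_finiteType (f := Algebra.ofId k (R ⧸ I)) (g := φ)
        (by rw [show φ.comp (Algebra.ofId k (R ⧸ I)) = Algebra.ofId k A from Subsingleton.elim _ _]
            exact RingHom.finiteType_algebraMap.mpr inferInstance)
    exact RingHom.FinitePresentation.of_finiteType.mp this
  obtain ⟨hh, hnil, hrange⟩ := exists_basicOpen_subset_range φ.toRingHom hφ hφinj
  obtain ⟨h₀, rfl⟩ := Ideal.Quotient.mk_surjective hh
  have hnz : ¬ IsNilpotent (orbitHom k A z h₀) := by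
    rintro ⟨N, hN⟩
    refine hnil ⟨N, ?_⟩
    rw [← map_pow, Ideal.Quotient.eq_zero_iff_mem, h, RingHom.mem_ker, map_pow, hN]
  obtain ⟨g, hg⟩ := exists_point_ne_zero (k := k) hnz
  let z' : R ⧸ I →ₐ[k] k := Ideal.Quotient.liftₐ I (actPt k g z) fun a ha => by
    show g (orbitHom k A z a) = 0
    rw [show orbitHom k A z a = 0 from RingHom.mem_ker.mp (h ▸ ha), map_zero]
  obtain ⟨g', hg'⟩ := exists_lift_of_mem_range φ z' (hrange ⟨RingHom.ker z', RingHom.ker_isPrime _⟩ fun hm => hg hm)
  have h1 : actPt k g' y = actPt k g z := AlgHom.ext fun f => AlgHom.congr_fun hg' (Ideal.Quotient.mk I f)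
  exact ⟨(g.comp (HopfAlgebra.antipodeAlgHom k A)).comp (translatePt g'), by
    rw [← actPt_actPt, h1, actPt_inv]⟩

theorem mem_orbit_of_isClosedOrbit {x z : R →ₐ[k] k} (hx : GLin.IsClosedOrbit k A x)
    (hz : GLin.InOrbitClosure k A x z) : ∃ g : A →ₐ[k] k, z = actPt k g x := by
  obtain ⟨g, hg⟩ := exists_lift_of_mem_range (orbitHom k A x) z (by
    rw [← hx.closure_eq, PrimeSpectrum.closure_range_comap, PrimeSpectrum.mem_zeroLocus]
    exact hz)
  exact ⟨g, hg.symm⟩

theorem exists_closures_meet {α : A →ₗ[k] k} (hα : IsIntegral k α) (h1 : α 1 = 1) (x y : R →ₐ[k] k)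
    (hxy : ∀ f ∈ GLin.invariants k A R, x f = y f) :
    ∃ z : R →ₐ[k] k, GLin.InOrbitClosure k A x z ∧ GLin.InOrbitClosure k A y z := by
  have hne : RingHom.ker (orbitHom k A x) ⊔ RingHom.ker (orbitHom k A y) ≠ ⊤ := by
    intro htop
    obtain ⟨a, ha, b, hb, hab⟩ := Submodule.mem_sup.mp ((Ideal.eq_top_iff_one _).mp htop)
    have hr := congrArg (rey α : R →ₗ[k] R) hab
    rw [map_add, rey_of_fixed h1 (show (1 : R) ∈ HopfRep.fixedPts k A R from (GLin.invariants k A R).one_mem)] at hr
    have hax : x (rey α a) = 0 :=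
      ker_orbitHom_le (A := A) x (rey_mem_of_isSubcomod (isSubcomod_ker_orbitHom x) ha)
    have hby : y (rey α b) = 0 :=
      ker_orbitHom_le (A := A) y (rey_mem_of_isSubcomod (isSubcomod_ker_orbitHom y) hb)
    have h := congrArg y hr
    rw [map_add, hby, ← hxy _ (rey_mem_fixedPts hα a), hax, map_one, add_zero] at h
    exact zero_ne_one h
  obtain ⟨z, hz⟩ := exists_point (k := k) _ hne
  exact ⟨z, le_sup_left.trans hz, le_sup_right.trans hz⟩

theorem forall_act_eq_zero_iff (x : R →ₐ[k] k) (f : R) :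
    (∀ g : A →ₐ[k] k, x (HopfRep.Comod.act k A R g f) = 0) ↔ IsNilpotent (orbitHom k A x f) := by
  have e : ∀ g : A →ₐ[k] k, x (HopfRep.Comod.act k A R g f) = g (orbitHom k A x f) := fun g => by
    rw [orbitHom_apply]
    show x (TensorProduct.rid k R (LinearMap.lTensor R g.toLinearMap (HopfRep.Comod.coact (k := k) (A := A) f))) = _
    induction HopfRep.Comod.coact (k := k) (A := A) f using TensorProduct.induction_on with
    | zero => simp
    | tmul a b => simp [mul_comm]
    | add p q hp hq => simp only [map_add, hp, hq]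
  simp only [e]
  refine ⟨fun h => ?_, fun ⟨N, hN⟩ g => ?_⟩
  · by_contra hn
    obtain ⟨g, hg⟩ := exists_point_ne_zero (k := k) hn
    exact hg (h g)
  · exact pow_eq_zero_iff (n := N + 1) (by omega) |>.mp (by rw [← map_pow, pow_succ, hN, zero_mul, map_zero])

theorem inOrbitClosure_iff_act (x z : R →ₐ[k] k) :
    (∀ f : R, (∀ g : A →ₐ[k] k, x (HopfRep.Comod.act k A R g f) = 0) → z f = 0) ↔
      GLin.InOrbitClosure k A x z := by
  simp only [forall_act_eq_zero_iff]
  refine ⟨fun h f hf => h f ⟨1, by rw [pow_one]; exact hf⟩, fun h f ⟨N, hN⟩ => ?_⟩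
  have h' : z (f ^ (N + 1)) = 0 := h (by rw [RingHom.mem_ker, map_pow, pow_succ, hN, zero_mul])
  rw [map_pow] at h'
  exact (pow_eq_zero_iff (n := N + 1) (by omega)).mp h'

theorem actPt_apply_eq_act (g : A →ₐ[k] k) (x : R →ₐ[k] k) (f : R) :
    actPt k g x f = x (HopfRep.Comod.act k A R g f) := by
  show g (orbitHom k A x f) = _
  rw [orbitHom_apply]
  show _ = x (TensorProduct.rid k R (LinearMap.lTensor R g.toLinearMap (HopfRep.Comod.coact (k := k) (A := A) f)))
  induction HopfRep.Comod.coact (k := k) (A := A) f using TensorProduct.induction_on with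
  | zero => simp
  | tmul a b => simp [mul_comm]
  | add p q hp hq => simp only [map_add, hp, hq]

/-- In each fibre, a point with minimal orbit: its closure is its orbit and it lies in every closure. -/
theorem exists_minimal_orbit {α : A →ₗ[k] k} (hα : IsIntegral k α) (h1 : α 1 = 1) (x : R →ₐ[k] k) :
    ∃ y : R →ₐ[k] k, (∀ z, GLin.InOrbitClosure k A y z → ∃ g : A →ₐ[k] k, z = actPt k g y) ∧
      ∀ x' : R →ₐ[k] k, (∀ f ∈ GLin.invariants k A R, x' f = x f) → GLin.InOrbitClosure k A x' y := by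
  haveI : IsNoetherianRing R := Algebra.FiniteType.isNoetherianRing k R
  obtain ⟨I, ⟨y, hy, rfl⟩, hmax⟩ := set_has_maximal_iff_noetherian.mpr (inferInstance : IsNoetherian R R)
    {I : Ideal R | ∃ y : R →ₐ[k] k, (∀ f ∈ GLin.invariants k A R, y f = x f) ∧ RingHom.ker (orbitHom k A y) = I}
    ⟨_, x, fun _ _ => rfl, rfl⟩
  have hmin : ∀ z, GLin.InOrbitClosure k A y z → RingHom.ker (orbitHom k A y) = RingHom.ker (orbitHom k A z) :=
    fun z hz => eq_of_le_of_not_lt ((inOrbitClosure_iff y z).mp hz)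
      (hmax _ ⟨z, fun f hf => (eq_of_closures_meet_invariant hz hf).trans (hy f hf), rfl⟩)
  refine ⟨y, fun z hz => exists_actPt_of_ker_eq (hmin z hz), fun x' hx' => ?_⟩
  obtain ⟨z, hz1, hz2⟩ := exists_closures_meet hα h1 x' y fun f hf => (hx' f hf).trans (hy f hf).symm
  exact (((inOrbitClosure_iff x' z).mp hz1).trans (hmin z hz2).ge).trans (ker_orbitHom_le y)

end Orbit

end Groth.Agent.ComodLib
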