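import Groth.Agent.ComodLib.Basic
import Groth.Prelude.Def_ComodSub
import Mathlib.RingTheory.SimpleModule.Basic
import Mathlib.Algebra.Module.Submodule.RestrictScalars

/-!
# Simple and semisimple comodules as modules over the convolution algebra
-/

universe u v w w'

open TensorProduct WithConv

namespace Groth.Agent.ComodLib

variable {k : Type u} [CommRing k] {C : Type v} [AddCommGroup C] [Module k C] [Coalgebra k C]
  [Module.Free k C]
variable {V : Type w} [AddCommGroup V] [Module k V] [HopfRep.Comod k C V]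
variable {W : Type w'} [AddCommGroup W] [Module k W] [HopfRep.Comod k C W]

theorem isSimpleComod_iff_isSimpleModule :
    HopfRep.IsSimpleComod k C V ↔ IsSimpleModule (WithConv (C →ₗ[k] k)) V := by
  constructor
  · rintro ⟨hn, h⟩
    rw [isSimpleModule_iff, isSimpleOrder_iff]
    refine ⟨Submodule.nontrivial_iff _ |>.mpr hn, fun N => ?_⟩
    rcases h _ (isSubcomod_restrictScalars N) with h' | h'
    · exact Or.inl ((Submodule.restrictScalars_eq_bot_iff k _ _).mp h')
    · exact Or.inr ((Submodule.restrictScalars_eq_top_iff k _ _).mp h')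
  · intro h
    refine ⟨IsSimpleModule.nontrivial (WithConv (C →ₗ[k] k)) V, fun U hU => ?_⟩
    rcases eq_bot_or_eq_top (toConvSub U hU) with h' | h'
    · exact Or.inl (by rw [← restrictScalars_toConvSub U hU, h']; rfl)
    · exact Or.inr (by rw [← restrictScalars_toConvSub U hU, h']; rfl)

theorem isSemisimpleComod_iff_isSemisimpleModule :
    HopfRep.IsSemisimpleComod k C V ↔ IsSemisimpleModule (WithConv (C →ₗ[k] k)) V := by
  constructor
  · intro h
    rw [isSemisimpleModule_iff]
    refine ⟨fun N => ?_⟩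
    obtain ⟨U', hU', hc⟩ := h _ (isSubcomod_restrictScalars N)
    exact ⟨toConvSub U' hU', (Submodule.isCompl_restrictScalars_iff k).mp hc⟩
  · intro h U hU
    obtain ⟨N, hN⟩ := exists_isCompl (toConvSub U hU)
    exact ⟨N.restrictScalars k, isSubcomod_restrictScalars N,
      (Submodule.isCompl_restrictScalars_iff k).mpr hN⟩

theorem eq_zero_or_bijective {f : V →ₗ[k] W} (hf : Hoch.IsComodHom C f)
    (hV : HopfRep.IsSimpleComod k C V) (hW : HopfRep.IsSimpleComod k C W) :
    f = 0 ∨ Function.Bijective f := by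
  haveI := isSimpleComod_iff_isSimpleModule.mp hV
  haveI := isSimpleComod_iff_isSimpleModule.mp hW
  rcases LinearMap.bijective_or_eq_zero (toConvLin (C := C) f hf) with h | h
  · exact Or.inr h
  · exact Or.inl (LinearMap.ext fun v => LinearMap.congr_fun h v)

theorem finite_of_isSimpleComod [IsNoetherianRing k] (hV : HopfRep.IsSimpleComod k C V) :
    Module.Finite k V := by
  obtain ⟨hn, h⟩ := hV
  obtain ⟨v, hv⟩ := exists_ne (0 : V)
  obtain ⟨U, hUf, hvU, hU⟩ := exists_finite_subcomod_mem (C := C) (k := k) v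
  rcases h U hU with rfl | rfl
  · exact absurd ((Submodule.mem_bot k).mp hvU) hv
  · exact Module.Finite.equiv Submodule.topEquiv

/-- Every nonzero subcomodule of finite type over a field contains a simple one. -/
theorem exists_simple_le {k : Type u} [Field k] {C : Type v} [AddCommGroup C] [Module k C]
    [Coalgebra k C] {V : Type w} [AddCommGroup V] [Module k V] [HopfRep.Comod k C V]
    {U : Submodule k V} (hU : HopfRep.IsSubcomod (k := k) (A := C) U) (hne : U ≠ ⊥) :
    ∃ S : Submodule k V, S ≤ U ∧ Module.Finite k S ∧ HopfRep.IsSubcomod (k := k) (A := C) S ∧ S ≠ ⊥ ∧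
      ∀ S' : Submodule k V, HopfRep.IsSubcomod (k := k) (A := C) S' → S' ≤ S → S' = ⊥ ∨ S' = S := by
  classical
  obtain ⟨v, hv, hv0⟩ := Submodule.exists_mem_ne_zero_of_ne_bot hne
  obtain ⟨W, hWf, hvW, hW⟩ := exists_finite_subcomod_mem (C := C) (k := k) v
  let P : ℕ → Prop := fun n => ∃ S : Submodule k V, S ≤ U ⊓ W ∧
    HopfRep.IsSubcomod (k := k) (A := C) S ∧ S ≠ ⊥ ∧ Module.finrank k S = n
  have hP : ∃ n, P n := ⟨_, U ⊓ W, le_rfl, isSubcomod_inf hU hW,
    fun h => hv0 ((Submodule.mem_bot k).mp (h ▸ Submodule.mem_inf.mpr ⟨hv, hvW⟩)), rfl⟩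
  obtain ⟨S, hS, hSc, hS0, hSn⟩ := Nat.find_spec hP
  haveI : Module.Finite k S := Submodule.finiteDimensional_of_le (hS.trans inf_le_right)
  refine ⟨S, hS.trans inf_le_left, inferInstance, hSc, hS0, fun S' hS'c hS'le => ?_⟩
  by_contra hcon
  push Not at hcon
  have hlt : S' < S := lt_of_le_of_ne hS'le hcon.2
  exact Nat.find_min hP (m := Module.finrank k S')
    (hSn ▸ Submodule.finrank_lt_finrank_of_lt hlt) ⟨S', hS'le.trans hS, hS'c, hcon.1, rfl⟩

end Groth.Agent.ComodLib
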