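import Groth.Agent.ComodLib.StableLocus
import Mathlib.RingTheory.Filtration
import Mathlib.RingTheory.TensorProduct.Free
import Mathlib.RingTheory.Jacobson.Ring

/-!
# Cartier's theorem in arbitrary universes

In characteristic zero the invariant derivations carry the nilradical into itself, so it vanishes to infinite order at
every point.
-/

universe u v

open TensorProduct WithConv

namespace Groth.Agent.ComodLib.Cartier0

set_option linter.style.haveILetI false
set_option linter.unusedSectionVars false

attribute [local instance] RingHom.ker_isPrime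

variable {k : Type u} [Field k] {A : Type v} [CommRing A] [HopfAlgebra k A]

variable (k A) in
/-- `ε`-derivations, as linear forms. -/
def Tan : Type max u v :=
  {L : A →ₗ[k] k // ∀ a b, L (a * b) = Bialgebra.counitAlgHom k A a * L b + Bialgebra.counitAlgHom k A b * L a}

theorem Tan.one (L : Tan k A) : L.1 1 = 0 := by
  have h := L.2 1 1
  simp only [mul_one, map_one, one_mul] at h
  exact (add_eq_left.mp h.symm)

/-- The invariant derivation of an `ε`-derivation. -/
noncomputable def lieOp (L : Tan k A) : A →ₗ[k] A := actF (L.1)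

theorem lieOp_mul (L : Tan k A) (a b : A) : lieOp L (a * b) = a * lieOp L b + b * lieOp L a := by
  have key : ∀ p q : A ⊗[k] A, slice (L.1) (p * q) =
      slice (Bialgebra.counitAlgHom k A).toLinearMap p * slice (L.1) q +
      slice (Bialgebra.counitAlgHom k A).toLinearMap q * slice (L.1) p := by
    intro p q
    induction p using TensorProduct.induction_on with
    | zero => simp
    | tmul x y =>
      induction q using TensorProduct.induction_on with
      | zero => simp
      | tmul x' y' =>
        simp only [Algebra.TensorProduct.tmul_mul_tmul, slice_tmul, L.2, AlgHom.toLinearMap_apply,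
          add_smul, smul_mul_smul_comm, mul_comm x' x]
      | add q q' hq hq' => simp only [mul_add, add_mul, map_add, hq, hq']; abel
    | add p p' hp hp' => simp only [mul_add, add_mul, map_add, hp, hp']; abel
  have hc : ∀ x : A, slice (Bialgebra.counitAlgHom k A).toLinearMap (Coalgebra.comul (R := k) x) = x := fun x => by
    show TensorProduct.rid k A (LinearMap.lTensor A (Coalgebra.counit (R := k)) (Coalgebra.comul (R := k) x)) = x
    rw [Coalgebra.lTensor_counit_comul]
    simp
  show slice (L.1) (Coalgebra.comul (R := k) (a * b)) = _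
  rw [Bialgebra.comul_mul, key, hc, hc]
  rfl

theorem lieOp_one (L : Tan k A) : lieOp L (1 : A) = 0 := by
  show slice (L.1) (Coalgebra.comul (R := k) (1 : A)) = 0
  rw [Bialgebra.comul_one, Algebra.TensorProduct.one_def, slice_tmul, Tan.one, zero_smul]

variable (k A) in
/-- The augmentation ideal. -/
noncomputable abbrev aug : Ideal A := RingHom.ker (Bialgebra.counitAlgHom k A)

theorem sub_counit_mem (a : A) : a - algebraMap k A (Bialgebra.counitAlgHom k A a) ∈ aug k A := by
  rw [RingHom.mem_ker, map_sub, AlgHom.commutes, Algebra.algebraMap_self_apply, sub_self]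

/-- `ε`-derivations form a full dual system of the cotangent space. -/
theorem exists_dual_system [Algebra.FiniteType k A] :
    ∃ (n : ℕ) (x : Fin n → A) (L : Fin n → Tan k A), (∀ i, x i ∈ aug k A) ∧
      ∀ y ∈ aug k A, y - ∑ i, (L i).1 y • x i ∈ aug k A ^ 2 := by
  classical
  let ε := Bialgebra.counitAlgHom k A
  let W : Submodule k A := Submodule.span k {1} ⊔ (aug k A ^ 2).restrictScalars k
  have hmk : ∀ a b : A, W.mkQ (a * b) = ε a • W.mkQ b + ε b • W.mkQ a := by
    intro a b
    rw [← map_smul, ← map_smul, ← map_add, ← sub_eq_zero, ← map_sub]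
    refine (Submodule.Quotient.mk_eq_zero W).mpr ?_
    have h1 : (a - algebraMap k A (ε a)) * (b - algebraMap k A (ε b)) ∈ aug k A ^ 2 := by
      rw [pow_two]; exact Ideal.mul_mem_mul (sub_counit_mem a) (sub_counit_mem b)
    rw [show a * b - (ε a • b + ε b • a) =
      (-(ε a * ε b)) • (1 : A) + (a - algebraMap k A (ε a)) * (b - algebraMap k A (ε b)) by
        simp only [Algebra.smul_def, map_neg, map_mul]; ring]
    exact add_mem (Submodule.mem_sup_left (Submodule.smul_mem _ _ (Submodule.mem_span_singleton_self 1)))
      (Submodule.mem_sup_right h1)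
  have h1 : W.mkQ 1 = 0 :=
    (Submodule.Quotient.mk_eq_zero W).mpr (Submodule.mem_sup_left (Submodule.mem_span_singleton_self 1))
  have hfin : Module.Finite k (A ⧸ W) := by
    obtain ⟨s, hs⟩ := Algebra.FiniteType.out (R := k) (A := A)
    refine ⟨⟨s.image W.mkQ, eq_top_iff.mpr fun q _ => ?_⟩⟩
    obtain ⟨a, rfl⟩ := W.mkQ_surjective q
    have ha : a ∈ Algebra.adjoin k (↑s : Set A) := hs ▸ trivial
    induction ha using Algebra.adjoin_induction with
    | mem x hx => exact Submodule.subset_span (Finset.mem_image_of_mem _ hx)
    | algebraMap r => rw [Algebra.algebraMap_eq_smul_one, map_smul, h1, smul_zero]; exact Submodule.zero_mem _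
    | add x y _ _ hx hy => rw [map_add]; exact Submodule.add_mem _ (hx trivial) (hy trivial)
    | mul x y _ _ hx hy =>
      rw [hmk]
      exact Submodule.add_mem _ (Submodule.smul_mem _ _ (hy trivial)) (Submodule.smul_mem _ _ (hx trivial))
  let b := Module.finBasis k (A ⧸ W)
  choose x hx using fun i => W.mkQ_surjective (b i)
  refine ⟨_, fun i => x i - algebraMap k A (ε (x i)), fun i => ⟨b.coord i ∘ₗ W.mkQ, fun a a' => by
      simp only [LinearMap.comp_apply]
      rw [hmk, map_add, map_smul, map_smul]
      rfl⟩, fun i => sub_counit_mem _, fun y hy => ?_⟩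
  have hxe : ∀ i, W.mkQ (x i - algebraMap k A (ε (x i))) = b i := fun i => by
    rw [map_sub, Algebra.algebraMap_eq_smul_one, map_smul, h1, smul_zero, sub_zero, hx]
  set z := y - ∑ i, (b.coord i (W.mkQ y)) • (x i - algebraMap k A (ε (x i))) with hz
  show z ∈ aug k A ^ 2
  have hzW : z ∈ W := by
    rw [← Submodule.Quotient.mk_eq_zero]
    show W.mkQ z = 0
    rw [hz, map_sub, map_sum]
    simp only [map_smul, hxe, Module.Basis.coord_apply, b.sum_repr, sub_self]
  obtain ⟨c, hc, w, hw, hcw⟩ := Submodule.mem_sup.mp hzW
  obtain ⟨r, rfl⟩ := Submodule.mem_span_singleton.mp hc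
  have hz0 : ε z = 0 := by
    rw [hz, map_sub, map_sum, show ε y = 0 from hy]
    simp [map_smul, map_sub, ε]
  have hw0 : ε w = 0 := Ideal.pow_le_self (n := 2) two_ne_zero hw
  rw [← hcw, map_add, map_smul, map_one, hw0, add_zero, smul_eq_mul, mul_one] at hz0
  rw [← hcw, hz0, zero_smul, zero_add]
  exact hw

variable [Algebra.FiniteType k A] [CharZero k]

/-- A set of functions vanishing at the identity and stable under invariant derivations vanishes to infinite order. -/
theorem mem_iInf_pow_of_stable (S : Set A) (hS : ∀ a ∈ S, a ∈ aug k A)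
    (hst : ∀ (L : Tan k A), ∀ a ∈ S, lieOp L a ∈ S) (n : ℕ) {a : A} (ha : a ∈ S) : a ∈ aug k A ^ n := by
  obtain ⟨N, x, L, hx, hy⟩ := exists_dual_system (k := k) (A := A)
  let E : A →ₗ[k] A := ∑ i, LinearMap.mulLeft k (x i) ∘ₗ lieOp (L i)
  have hE : ∀ a, E a = ∑ i, x i * lieOp (L i) a := fun a => by simp [E]
  have hEmul : ∀ u v, E (u * v) = u * E v + v * E u := fun u v => by
    simp only [hE, lieOp_mul, Finset.mul_sum, ← Finset.sum_add_distrib]
    exact Finset.sum_congr rfl fun i _ => by ring
  have hEm : ∀ v ∈ aug k A, E v - v ∈ aug k A ^ 2 := by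
    intro v hv
    have h1 : E v - ∑ i, (L i).1 v • x i ∈ aug k A ^ 2 := by
      rw [hE, ← Finset.sum_sub_distrib, pow_two]
      refine Ideal.sum_mem _ fun i _ => ?_
      rw [Algebra.smul_def, mul_comm _ (x i), ← mul_sub]
      refine Ideal.mul_mem_mul (hx i) ?_
      have he : Bialgebra.counitAlgHom k A (lieOp (L i) v) = (L i).1 v := by
        have : ∀ y : A ⊗[k] A, Bialgebra.counitAlgHom k A (slice ((L i).1) y) =
            (L i).1 (TensorProduct.lid k A ((Coalgebra.counit (R := k)).rTensor A y)) := fun y => by
          induction y using TensorProduct.induction_on with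
          | zero => simp
          | tmul p q => simp [mul_comm]
          | add p q hp hq => simp only [map_add, hp, hq]
        refine (this _).trans ?_
        rw [show HopfRep.Comod.coact (k := k) (A := A) v = Coalgebra.comul (R := k) v from rfl,
          Coalgebra.rTensor_counit_comul]
        simp
      rw [← he]
      exact sub_counit_mem _
    have := Ideal.sub_mem _ h1 (hy v hv)
    rwa [show E v - ∑ i, (L i).1 v • x i - (v - ∑ i, (L i).1 v • x i) = E v - v by abel] at this
  have hEn : ∀ m : ℕ, ∀ u ∈ aug k A ^ m, E u - (m : A) * u ∈ aug k A ^ (m + 1) := by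
    intro m
    induction m with
    | zero =>
      intro u _
      rw [Nat.cast_zero, zero_mul, sub_zero, pow_one, hE]
      exact Ideal.sum_mem _ fun i _ => Ideal.mul_mem_right _ _ (hx i)
    | succ m ih =>
      intro u hu
      rw [pow_succ] at hu
      induction hu using Submodule.mul_induction_on' with
      | mem_mul_mem p hp q hq =>
        rw [hEmul, show p * E q + q * E p - ((m + 1 : ℕ) : A) * (p * q) =
          p * (E q - q) + q * (E p - (m : A) * p) by push_cast; ring]
        refine Ideal.add_mem _ ?_ ?_
        · rw [show m + 1 + 1 = m + 2 by omega, pow_add]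
          exact Ideal.mul_mem_mul hp (hEm q hq)
        · rw [pow_succ' (n := m + 1)]
          exact Ideal.mul_mem_mul hq (ih p hp)
      | add p _ q _ hp hq =>
        rw [map_add, mul_add, add_sub_add_comm]
        exact Ideal.add_mem _ hp hq
  have main : ∀ m, ∀ a ∈ S, a ∈ aug k A ^ (m + 1) := by
    intro m
    induction m with
    | zero => intro a ha; rw [pow_one]; exact hS a ha
    | succ m ih =>
      intro a ha
      have h1 : E a ∈ aug k A ^ (m + 1 + 1) := by
        rw [hE, pow_succ' (n := m + 1)]
        exact Ideal.sum_mem _ fun i _ => Ideal.mul_mem_mul (hx i) (ih _ (hst (L i) a ha))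
      have h2 := Ideal.sub_mem _ h1 (hEn (m + 1) a (ih a ha))
      rw [sub_sub_cancel] at h2
      have hu : IsUnit ((m + 1 : ℕ) : A) := by
        rw [← map_natCast (algebraMap k A)]
        exact (IsUnit.mk0 _ (by exact_mod_cast Nat.succ_ne_zero m)).map _
      exact (Ideal.unit_mul_mem_iff_mem _ hu).mp h2
  cases n with
  | zero => simp
  | succ m => exact main m a ha

theorem lieOp_mem_nilradical (L : Tan k A) {x : A} (hx : IsNilpotent x) : IsNilpotent (lieOp L x) := by
  obtain ⟨N, hN⟩ := hx
  have hpow : ∀ (y : A) (m : ℕ), lieOp L (y ^ (m + 1)) = (m + 1 : A) * y ^ m * lieOp L y := by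
    intro y m
    induction m with
    | zero => simp
    | succ m ih => rw [pow_succ, lieOp_mul, ih]; push_cast; ring
  have key : ∀ j, j ≤ N → x ^ (N - j) * lieOp L x ^ (2 * j) = 0 := by
    intro j
    induction j with
    | zero => intro _; simp [hN]
    | succ j ih =>
      intro hj
      obtain ⟨m, hm⟩ : ∃ m, N - j = m + 1 := ⟨N - (j + 1), by omega⟩
      have h0 := ih (by omega)
      rw [hm] at h0
      rw [show N - (j + 1) = m by omega]
      have h1 := congrArg (lieOp L) h0
      rw [lieOp_mul, hpow x m, map_zero] at h1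
      have hu : IsUnit ((m + 1 : ℕ) : A) := by
        rw [← map_natCast (algebraMap k A)]
        exact (IsUnit.mk0 _ (by exact_mod_cast Nat.succ_ne_zero m)).map _
      refine hu.mul_right_eq_zero.mp ?_
      rcases Nat.eq_zero_or_pos j with rfl | hj0
      · simp only [mul_zero, pow_zero, one_mul, lieOp_one, add_zero] at h1
        push_cast
        linear_combination (lieOp L x) * h1
      · obtain ⟨i, hi⟩ : ∃ i, 2 * j = i + 1 := ⟨2 * j - 1, by omega⟩
        rw [hi, hpow] at h1
        rw [hi] at h0
        rw [show 2 * (j + 1) = i + 1 + 2 by omega]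
        push_cast
        linear_combination (lieOp L x) * h1 - ((i : A) + 1) * lieOp L (lieOp L x) * h0
  exact ⟨2 * N, by simpa using key N le_rfl⟩

variable [IsAlgClosed k]

variable (k) in
include k in
theorem isReduced : _root_.IsReduced A := by
  haveI : IsNoetherianRing A := Algebra.FiniteType.isNoetherianRing k A
  refine ⟨fun x hx => ?_⟩
  have hpt : ∀ (g : A →ₐ[k] k) (n : ℕ), x ∈ RingHom.ker g ^ n := by
    intro g n
    let σ := translatePt (toConv g)⁻¹.ofConv
    have hb : translatePt g x ∈ aug k A ^ n :=
      mem_iInf_pow_of_stable {a | IsNilpotent a}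
        (fun a ha => by
          obtain ⟨N, hN⟩ := ha
          exact (RingHom.ker_isPrime _).mem_of_pow_mem N (by rw [hN]; exact zero_mem _))
        (fun L a ha => lieOp_mem_nilradical L ha) n (hx.map (translatePt g))
    have hσ : σ (translatePt g x) = x := by
      show ((translatePt (toConv g)⁻¹.ofConv).comp (translatePt g)) x = x
      rw [translatePt_comp, show toConv g * toConv ((toConv g)⁻¹.ofConv) = 1 from mul_inv_cancel (toConv g)]
      exact AlgHom.congr_fun translatePt_counit x
    have hmap : Ideal.map σ (aug k A) ≤ RingHom.ker g := by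
      refine Ideal.map_le_iff_le_comap.mpr fun u hu => ?_
      have h := convMul_ofConv (toConv g)⁻¹ (toConv g)
      rw [inv_mul_cancel] at h
      exact (AlgHom.congr_fun h.symm u).trans hu
    have h2 := Ideal.mem_map_of_mem σ hb
    rw [hσ, Ideal.map_pow] at h2
    exact Ideal.pow_right_mono hmap n h2
  by_contra hne
  obtain ⟨m, hm, hle⟩ := Ideal.exists_le_maximal ((Submodule.span A {x}).annihilator) fun h => hne (by
    have h1 := (Submodule.mem_annihilator_span_singleton (R := A) x 1).mp ((Ideal.eq_top_iff_one _).mp h)
    simpa using h1)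
  obtain ⟨g, hg⟩ := exists_point (k := k) m hm.ne_top
  have hmg : m = RingHom.ker g := hm.eq_of_le (RingHom.ker_ne_top _) hg
  have hmem : x ∈ (⨅ i : ℕ, RingHom.ker g ^ i • (⊤ : Submodule A A)) :=
    (Submodule.mem_iInf _).mpr fun i => by simpa using hpt g i
  obtain ⟨r, hr⟩ := (Ideal.mem_iInf_smul_pow_eq_bot_iff (RingHom.ker g) x).mp hmem
  have hann : 1 - (r : A) ∈ m := hle ((Submodule.mem_annihilator_span_singleton (R := A) x _).mpr (by
    rw [smul_eq_mul, sub_mul, one_mul, sub_eq_zero]; exact hr.symm))
  have hone : (1 : A) ∈ RingHom.ker g := by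
    have := Ideal.add_mem _ (hmg ▸ hann) r.2
    rwa [sub_add_cancel] at this
  exact RingHom.ker_ne_top g ((Ideal.eq_top_iff_one _).mpr hone)

end Groth.Agent.ComodLib.Cartier0

namespace Groth.Agent.ComodLib

/-- **Cartier**: an affine group of finite type in characteristic zero is reduced. -/
theorem isReduced_of_charZero' {k : Type u} [Field k] [CharZero k] {A : Type v} [CommRing A] [HopfAlgebra k A]
    [Algebra.FiniteType k A] : _root_.IsReduced A := by
  haveI : CharZero (AlgebraicClosure k) := charZero_of_injective_algebraMap (algebraMap k (AlgebraicClosure k)).injective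
  haveI : _root_.IsReduced (AlgebraicClosure k ⊗[k] A) := Cartier0.isReduced (k := AlgebraicClosure k)
  exact isReduced_of_injective (Algebra.TensorProduct.includeRight : A →ₐ[k] AlgebraicClosure k ⊗[k] A)
    (Algebra.TensorProduct.includeRight_injective (algebraMap k (AlgebraicClosure k)).injective)

end Groth.Agent.ComodLib
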