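import Groth.Agent.ComodLib.Semisimple
import Groth.Prelude.Def_ComodTens
import Mathlib.LinearAlgebra.FiniteDimensional.Basic

/-!
# Restriction, quotients, transport; linear reductivity for comodules of any size and universe
-/

universe u v w w'

open TensorProduct WithConv

namespace Groth.Agent.ComodLib

section Ring

variable {k : Type u} [CommRing k] {C : Type v} [AddCommGroup C] [Module k C] [Coalgebra k C]
  [Module.Free k C]
variable {V : Type w} [AddCommGroup V] [Module k V] [HopfRep.Comod k C V]
variable {W : Type w'} [AddCommGroup W] [Module k W] [HopfRep.Comod k C W]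

/-- Semisimplicity passes to the source of an injective comodule map. -/
theorem isSemisimpleComod_of_injective (f : V →ₗ[k] W) (hf : Hoch.IsComodHom C f) (hinj : Function.Injective f)
    (hW : HopfRep.IsSemisimpleComod k C W) : HopfRep.IsSemisimpleComod k C V := by
  haveI := isSemisimpleComod_iff_isSemisimpleModule.mp hW
  exact isSemisimpleComod_iff_isSemisimpleModule.mpr
    (IsSemisimpleModule.of_injective (toConvLin (C := C) f hf) hinj)

/-- Semisimplicity passes to the target of a surjective comodule map. -/
theorem isSemisimpleComod_of_surjective (f : V →ₗ[k] W) (hf : Hoch.IsComodHom C f)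
    (hsurj : Function.Surjective f) (hV : HopfRep.IsSemisimpleComod k C V) :
    HopfRep.IsSemisimpleComod k C W := by
  haveI := isSemisimpleComod_iff_isSemisimpleModule.mp hV
  exact isSemisimpleComod_iff_isSemisimpleModule.mpr
    (IsSemisimpleModule.of_surjective (toConvLin (C := C) f hf) hsurj)

theorem isSimpleComod_congr (e : V ≃ₗ[k] W) (he : Hoch.IsComodHom C e.toLinearMap)
    (hV : HopfRep.IsSimpleComod k C V) : HopfRep.IsSimpleComod k C W := by
  haveI := isSimpleComod_iff_isSimpleModule.mp hV
  exact isSimpleComod_iff_isSimpleModule.mpr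
    ((LinearMap.isSimpleModule_iff_of_bijective (toConvLin (C := C) e.toLinearMap he) e.bijective).mp inferInstance)

/-- The inverse of a bijective comodule map is a comodule map. -/
theorem isComodHom_symm (e : V ≃ₗ[k] W) (he : Hoch.IsComodHom C e.toLinearMap) :
    Hoch.IsComodHom C e.symm.toLinearMap :=
  isComodHom_iff_actF.mpr fun φ w => e.injective (by
    have h := comodHom_actF he φ (e.symm w)
    simp only [LinearEquiv.coe_coe, LinearEquiv.apply_symm_apply] at h ⊢
    exact h.symm)

end Ring

section Field

variable {k : Type u} [Field k] {C : Type v} [AddCommGroup C] [Module k C] [Coalgebra k C]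
variable {V : Type w} [AddCommGroup V] [Module k V]

theorem isComodHom_ofEquiv {W : Type w'} [AddCommGroup W] [Module k W] (e : V ≃ₗ[k] W)
    (c : HopfRep.Comod k C V) :
    @Hoch.IsComodHom k _ C _ _ _ V _ _ c W _ _ (ComodTens.Comod.ofEquiv e c) e.toLinearMap :=
  LinearMap.ext fun v => ComodTens.ofEquiv_coact_apply e c v

/-- If every finitely generated subcomodule is semisimple, the comodule is semisimple. -/
theorem isSemisimpleComod_of_finite [c : HopfRep.Comod k C V]
    (h : ∀ (U : Submodule k V) (hU : HopfRep.IsSubcomod (k := k) (A := C) U), Module.Finite k U →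
      @HopfRep.IsSemisimpleComod k C _ _ _ _ U _ _ (ComodSub.Comod.restr c U hU)) :
    HopfRep.IsSemisimpleComod k C V := by
  let S : {S : Submodule k V // IsMinSubcomod k C S} → Submodule k V := Subtype.val
  refine isSemisimpleComod_of_iSup_minimal S (fun i => i.2) (le_antisymm le_top fun v _ => ?_)
  obtain ⟨U, hUf, hv, hU⟩ := exists_finite_subcomod_mem (C := C) (k := k) v
  letI : HopfRep.Comod k C U := ComodSub.Comod.restr c U hU
  have hi : Hoch.IsComodHom C U.subtype := ComodSub.isComodHom_subtype c U hU
  obtain ⟨s, hs, -, htop⟩ := exists_minimal_decomposition (C := C) (h U hU hUf)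
  have hmem : (⟨v, hv⟩ : U) ∈ ⨆ T : s, (T : Submodule k U) := htop ▸ Submodule.mem_top
  refine (Submodule.map_le_iff_le_comap (f := U.subtype) (q := ⨆ i, S i)).mp ?_ hmem
  rw [Submodule.map_iSup]
  refine iSup_le fun T => le_iSup_of_le (ι := {S : Submodule k V // IsMinSubcomod k C S}) ⟨Submodule.map U.subtype T.1, isSubcomod_map (C := C) hi (hs _ T.2).1, ?_, ?_⟩ le_rfl
  · rw [Ne, ← Submodule.map_bot U.subtype, (Submodule.map_injective_of_injective U.injective_subtype).eq_iff]
    exact (hs _ T.2).2.1
  · intro S' hS' hle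
    have hS'' : Submodule.map U.subtype (Submodule.comap U.subtype S') = S' :=
      Submodule.map_comap_eq_self ((hle.trans (Submodule.map_subtype_le U _)).trans (Submodule.range_subtype U).ge)
    rcases (hs _ T.2).2.2 _ (isSubcomod_comap hi hS')
      (fun x hx => by
        obtain ⟨y, hy, hyx⟩ := hle hx
        rwa [← U.injective_subtype hyx]) with h' | h'
    · exact Or.inl (by rw [← hS'', h', Submodule.map_bot])
    · exact Or.inr (by rw [← hS'', h'])

end Field

section Bialgebra

variable {k : Type u} [Field k] {A : Type v} [CommRing A] [Bialgebra k A]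

/-- A finite comodule in any universe has an isomorphic copy in the universe of the bialgebra. -/
theorem exists_copy {V : Type w} [AddCommGroup V] [Module k V] [Module.Finite k V]
    (c : HopfRep.Comod k A V) :
    ∃ (U : Type v) (_ : AddCommGroup U) (_ : Module k U) (d : HopfRep.Comod k A U) (e : V ≃ₗ[k] U),
      Module.Finite k U ∧ @Hoch.IsComodHom k _ A _ _ _ V _ _ c U _ _ d e.toLinearMap := by
  let L : Submodule k A := Submodule.span k {1}
  have h1 : (1 : A) ≠ 0 := fun h => by
    have h2 := congrArg (Coalgebra.counit (R := k)) h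
    rw [Bialgebra.counit_one, map_zero] at h2
    exact one_ne_zero h2
  let e : V ≃ₗ[k] (Fin (Module.finrank k V) → L) :=
    (Module.finBasis k V).equivFun ≪≫ₗ
      LinearEquiv.piCongrRight fun _ => LinearEquiv.toSpanNonzeroSingleton k A 1 h1
  exact ⟨_, inferInstance, inferInstance, ComodTens.Comod.ofEquiv e c, e, Module.Finite.equiv e,
    isComodHom_ofEquiv e c⟩

/-- Over a linearly reductive group every comodule is semisimple. -/
theorem isSemisimpleComod_of_isLinearlyReductive (hG : HopfRep.IsLinearlyReductive k A)
    {V : Type w} [AddCommGroup V] [Module k V] [c : HopfRep.Comod k A V] :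
    HopfRep.IsSemisimpleComod k A V :=
  isSemisimpleComod_of_finite fun U hU hUf => by
    letI : HopfRep.Comod k A U := ComodSub.Comod.restr c U hU
    obtain ⟨U', _, _, d, e, hf, he⟩ := exists_copy (k := k) (A := A) (ComodSub.Comod.restr c U hU)
    letI := d
    exact isSemisimpleComod_of_injective e.toLinearMap he e.injective (hG U' hf)

theorem fixedPts_actF {V : Type w} [AddCommGroup V] [Module k V] [HopfRep.Comod k A V] (v : V) :
    v ∈ HopfRep.fixedPts k A V ↔ ∀ φ : A →ₗ[k] k, actF φ v = φ 1 • v := by
  constructor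
  · intro h φ
    rw [actF_apply, show HopfRep.Comod.coact (k := k) (A := A) v = v ⊗ₜ[k] (1 : A) from h, slice_tmul]
  · intro h
    exact ext_of_forall_slice_eq fun φ => by
      rw [slice_tmul]
      exact h φ

theorem isSubcomod_fixedPts {V : Type w} [AddCommGroup V] [Module k V] [HopfRep.Comod k A V] :
    HopfRep.IsSubcomod (k := k) (A := A) (HopfRep.fixedPts k A V) :=
  isSubcomod_iff_actF.mpr fun φ u hu => by
    rw [(fixedPts_actF u).mp hu φ]
    exact Submodule.smul_mem _ _ hu

theorem map_mem_fixedPts {V : Type w} [AddCommGroup V] [Module k V] [HopfRep.Comod k A V]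
    {W : Type w'} [AddCommGroup W] [Module k W] [HopfRep.Comod k A W] {f : V →ₗ[k] W}
    (hf : Hoch.IsComodHom A f) {v : V} (hv : v ∈ HopfRep.fixedPts k A V) :
    f v ∈ HopfRep.fixedPts k A W :=
  (fixedPts_actF _).mpr fun φ => by rw [← comodHom_actF hf, (fixedPts_actF v).mp hv, map_smul]

/-- Lifting of fixed vectors along a surjection out of a semisimple comodule. -/
theorem exists_fixedPt_lift {V : Type w} [AddCommGroup V] [Module k V] [HopfRep.Comod k A V]
    {W : Type w'} [AddCommGroup W] [Module k W] [HopfRep.Comod k A W]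
    (hV : HopfRep.IsSemisimpleComod k A V) {f : V →ₗ[k] W} (hf : Hoch.IsComodHom A f)
    (hsurj : Function.Surjective f) {w : W} (hw : w ∈ HopfRep.fixedPts k A W) :
    ∃ v ∈ HopfRep.fixedPts k A V, f v = w := by
  obtain ⟨U, hU, hc⟩ := hV _ (isSubcomod_ker (C := A) hf)
  obtain ⟨x, rfl⟩ := hsurj w
  obtain ⟨p, hp, q, hq, rfl⟩ := Submodule.mem_sup.mp (hc.codisjoint.eq_top ▸ Submodule.mem_top (x := x))
  refine ⟨q, (fixedPts_actF q).mpr fun φ => ?_, by rw [map_add, LinearMap.mem_ker.mp hp, zero_add]⟩
  have hfq : f q ∈ HopfRep.fixedPts k A W := by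
    rwa [map_add, LinearMap.mem_ker.mp hp, zero_add] at hw
  refine sub_eq_zero.mp ((Submodule.disjoint_def.mp hc.disjoint) _ ?_
    (U.sub_mem (subcomod_actF_mem hU φ hq) (U.smul_mem _ hq)))
  rw [LinearMap.mem_ker, map_sub, comodHom_actF hf, (fixedPts_actF _).mp hfq φ, map_smul, sub_self]

end Bialgebra

end Groth.Agent.ComodLib
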