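import Groth.Agent.ComodLib.Antipode
import Groth.Agent.ComodLib.Reductive
import Groth.Prelude.Def_GLin
import Groth.Prelude.Def_W4c1tameactTame
import Mathlib.RingTheory.Noetherian.Basic
import Mathlib.RingTheory.FiniteType
import Mathlib.RingTheory.Polynomial.Basic
import Mathlib.Algebra.Algebra.Operations

/-!
# The Reynolds operator of a linearly reductive group and finite generation of invariants
-/

universe u v w w' w''

open TensorProduct WithConv

namespace Groth.Agent.ComodLib

variable {k : Type u} [Field k] {A : Type v} [CommRing A] [HopfAlgebra k A]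
variable {V : Type w} [AddCommGroup V] [Module k V] [HopfRep.Comod k A V]
variable {W : Type w'} [AddCommGroup W] [Module k W] [HopfRep.Comod k A W]

/-- The projection attached to an integral. -/
noncomputable def rey (α : A →ₗ[k] k) : V →ₗ[k] V := actF (α ∘ₗ HopfAlgebra.antipode k)

variable {α : A →ₗ[k] k}

theorem rey_mem_fixedPts (hα : IsIntegral k α) (v : V) : rey α v ∈ HopfRep.fixedPts k A V := by
  refine (fixedPts_actF _).mpr fun φ => ?_
  set β := α ∘ₗ HopfAlgebra.antipode k
  have key : (toConv φ * toConv β).ofConv = φ 1 • β := by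
    refine LinearMap.ext fun a => ?_
    have h : ∀ z : A ⊗[k] A, LinearMap.mul' k k (TensorProduct.map φ β z) =
        LinearMap.mul' k k (φ.rTensor k (β.lTensor A z)) := fun z => by
      induction z using TensorProduct.induction_on with
      | zero => simp
      | tmul p q => simp
      | add p q hp hq => simp only [map_add, hp, hq]
    refine (h _).trans ?_
    rw [hα.isRightIntegral_antipode a, LinearMap.rTensor_tmul, LinearMap.mul'_apply, LinearMap.smul_apply, smul_eq_mul]
  show actF φ (actF β v) = φ 1 • actF β v
  rw [← actF_convMul (toConv φ) (toConv β) v, key, actF_smul, LinearMap.smul_apply]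

theorem rey_of_fixed (h1 : α 1 = 1) {v : V} (hv : v ∈ HopfRep.fixedPts k A V) : rey α v = v := by
  rw [rey, (fixedPts_actF v).mp hv]
  simp [h1]

theorem rey_eq_self_iff (hα : IsIntegral k α) (h1 : α 1 = 1) (v : V) :
    rey α v = v ↔ v ∈ HopfRep.fixedPts k A V :=
  ⟨fun h => h ▸ rey_mem_fixedPts hα v, rey_of_fixed h1⟩

theorem map_rey {f : V →ₗ[k] W} (hf : Hoch.IsComodHom A f) (v : V) : f (rey α v) = rey α (f v) :=
  comodHom_actF hf _ v

theorem integral_eq_rightIntegral {β : A →ₗ[k] k} (hα : IsIntegral k α) (h1 : α 1 = 1)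
    (hβ : IsRightIntegral k β) (hb1 : β 1 = 1) : β = α := by
  refine LinearMap.ext fun b => ?_
  have e : LinearMap.mul' k k (α.rTensor k (β.lTensor A (Coalgebra.comul (R := k) b))) =
      LinearMap.mul' k k (β.lTensor k (α.rTensor A (Coalgebra.comul (R := k) b))) := by
    induction Coalgebra.comul (R := k) b using TensorProduct.induction_on with
    | zero => simp
    | tmul p q => simp
    | add p q hp hq => simp only [map_add, hp, hq]
  rw [hβ b, hα b, LinearMap.rTensor_tmul, LinearMap.lTensor_tmul, LinearMap.mul'_apply, LinearMap.mul'_apply,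
    h1, hb1, one_mul, mul_one] at e
  exact e

theorem comp_antipode_eq (hα : IsIntegral k α) (h1 : α 1 = 1) : α ∘ₗ HopfAlgebra.antipode k = α :=
  integral_eq_rightIntegral hα h1 hα.isRightIntegral_antipode (by simp [h1])

theorem isComodHom_rey (hα : IsIntegral k α) (h1 : α 1 = 1) : Hoch.IsComodHom A (rey α : V →ₗ[k] V) := by
  rw [isComodHom_iff_actF]
  intro φ v
  have key : (toConv α * toConv φ).ofConv = φ 1 • α := by
    refine LinearMap.ext fun a => ?_
    have h : ∀ z : A ⊗[k] A, LinearMap.mul' k k (TensorProduct.map α φ z) =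
        LinearMap.mul' k k (φ.lTensor k (α.rTensor A z)) := fun z => by
      induction z using TensorProduct.induction_on with
      | zero => simp
      | tmul p q => simp
      | add p q hp hq => simp only [map_add, hp, hq]
    refine (h _).trans ?_
    rw [hα, LinearMap.lTensor_tmul, LinearMap.mul'_apply, LinearMap.smul_apply, smul_eq_mul, mul_comm]
  rw [(fixedPts_actF _).mp (rey_mem_fixedPts hα v) φ, rey, comp_antipode_eq hα h1,
    ← actF_convMul (toConv α) (toConv φ) v, key, actF_smul, LinearMap.smul_apply]

/-- A comodule projection onto the fixed vectors is the Reynolds operator. -/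
theorem eq_rey (hα : IsIntegral k α) (h1 : α 1 = 1) {E : V →ₗ[k] V} (hE : Hoch.IsComodHom A E)
    (hEE : E ∘ₗ E = E) (hfix : ∀ x : V, E x = x ↔ x ∈ HopfRep.fixedPts k A V) : E = rey α := by
  refine LinearMap.ext fun v => ?_
  have h := rey_of_fixed h1 ((hfix _).mp (LinearMap.congr_fun hEE v) : E v ∈ HopfRep.fixedPts k A V)
  rw [← h, ← map_rey hE, (hfix _).mpr (rey_mem_fixedPts hα v)]

theorem rey_mem_of_isSubcomod {U : Submodule k V} (hU : HopfRep.IsSubcomod (k := k) (A := A) U) {v : V}
    (hv : v ∈ U) : rey α v ∈ U :=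
  subcomod_actF_mem hU _ hv

section Algebra

variable {R : Type w} [CommRing R] [Algebra k R] [HopfRep.Comod k A R] [GLin.IsCoactAlg k A R]

theorem fixedPts_eq_invariants : HopfRep.fixedPts k A R = Subalgebra.toSubmodule (GLin.invariants k A R) := rfl

theorem rey_mul_invariant (x : R) {y : R} (hy : y ∈ GLin.invariants k A R) : rey α (x * y) = rey α x * y := by
  rw [rey, actF_apply, actF_apply, GLin.IsCoactAlg.coact_mul,
    show HopfRep.Comod.coact (k := k) (A := A) y = y ⊗ₜ[k] (1 : A) from hy]
  induction HopfRep.Comod.coact (k := k) (A := A) x using TensorProduct.induction_on with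
  | zero => simp
  | tmul a b => simp
  | add p q hp hq => simp only [add_mul, map_add, hp, hq]

variable {M : Type w'} [AddCommGroup M] [Module k M] [Module R M] [IsScalarTower k R M] [HopfRep.Comod k A M]

theorem rey_smul_fixed [TameAct.IsHopfMod k A R M] (c : R) {y : M} (hy : y ∈ HopfRep.fixedPts k A M) :
    rey α (c • y) = rey α c • y := by
  simp only [rey, actF_apply]
  rw [TameAct.IsHopfMod.coact_smul (k := k) (A := A),
    show HopfRep.Comod.coact (k := k) (A := A) y = y ⊗ₜ[k] (1 : A) from hy]
  induction HopfRep.Comod.coact (k := k) (A := A) c using TensorProduct.induction_on with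
  | zero => simp
  | tmul a b => simp
  | add p q hp hq => simp only [map_add, LinearMap.add_apply, hp, hq, add_smul]

/-- Fixed vectors of a Noetherian Hopf module are finitely generated over the invariants. -/
theorem exists_finset_fixedPts [IsNoetherian R M] [TameAct.IsHopfMod k A R M] (hα : IsIntegral k α) (h1 : α 1 = 1) :
    ∃ s : Finset M, (↑s : Set M) ⊆ (HopfRep.fixedPts k A M : Set M) ∧
      ∀ m ∈ HopfRep.fixedPts k A M, ∃ c : M → R,
        (∀ y ∈ s, c y ∈ GLin.invariants k A R) ∧ m = ∑ y ∈ s, c y • y := by
  obtain ⟨s, hs, heq⟩ := (Submodule.fg_span_iff_fg_span_finset_subset _).mp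
    (IsNoetherian.noetherian (Submodule.span R (HopfRep.fixedPts k A M : Set M)))
  refine ⟨s, hs, fun m hm => ?_⟩
  obtain ⟨c, -, hc⟩ := Submodule.mem_span_finset.mp (heq ▸ Submodule.subset_span hm :
    m ∈ Submodule.span R (s : Set M))
  refine ⟨fun y => rey α (c y), fun y _ => rey_mem_fixedPts hα _, ?_⟩
  conv_lhs => rw [← rey_of_fixed h1 hm, ← hc, map_sum]
  exact Finset.sum_congr rfl fun y hy => rey_smul_fixed (c y) (hs hy)

/-- An ideal of the invariants is contracted from the algebra. -/
theorem comap_map_val (hα : IsIntegral k α) (h1 : α 1 = 1) (I : Ideal (GLin.invariants k A R)) :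
    Ideal.comap (GLin.invariants k A R).val.toRingHom (Ideal.map (GLin.invariants k A R).val.toRingHom I) = I := by
  refine le_antisymm (fun i hi => ?_) Ideal.le_comap_map
  have key : ∀ x ∈ Ideal.map (GLin.invariants k A R).val.toRingHom I, ∃ j ∈ I, (j : R) = rey α x := by
    intro x hx
    induction hx using Submodule.span_induction with
    | mem x hx =>
      obtain ⟨j, hj, rfl⟩ := hx
      exact ⟨j, hj, (rey_of_fixed h1 (show (j : R) ∈ HopfRep.fixedPts k A R from j.2)).symm⟩
    | zero => exact ⟨0, I.zero_mem, (map_zero (rey α : R →ₗ[k] R)).symm⟩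
    | add x y _ _ hx hy =>
      obtain ⟨a, ha, hax⟩ := hx
      obtain ⟨b, hb, hby⟩ := hy
      exact ⟨a + b, I.add_mem ha hb, by rw [map_add, ← hax, ← hby]; rfl⟩
    | smul r x hx' ih =>
      clear hi ih
      induction hx' using Submodule.span_induction generalizing r with
      | mem x hx =>
        obtain ⟨j, hj, rfl⟩ := hx
        refine ⟨⟨rey α r, rey_mem_fixedPts hα r⟩ * j, I.mul_mem_left _ hj, ?_⟩
        exact (rey_mul_invariant r j.2).symm
      | zero => exact ⟨0, I.zero_mem, by simp⟩
      | add x y _ _ hx hy =>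
        obtain ⟨a, ha, hax⟩ := hx r
        obtain ⟨b, hb, hby⟩ := hy r
        exact ⟨a + b, I.add_mem ha hb, by rw [smul_add, map_add, ← hax, ← hby]; rfl⟩
      | smul r' x _ hx => rw [smul_smul]; exact hx _
  obtain ⟨j, hj, hji⟩ := key _ hi
  have : (j : R) = (i : R) := hji.trans (rey_of_fixed h1 (show (i : R) ∈ HopfRep.fixedPts k A R from i.2))
  rwa [← Subtype.ext this]

theorem isNoetherianRing_invariants [IsNoetherianRing R] (hα : IsIntegral k α) (h1 : α 1 = 1) :
    IsNoetherianRing (GLin.invariants k A R) :=
  isNoetherian_iff'.mpr ((StrictMono.wellFoundedGT (β := Ideal R)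
    (f := Ideal.map (GLin.invariants k A R).val.toRingHom)) fun I J hIJ =>
      lt_of_le_of_ne (Ideal.map_mono hIJ.le) fun h =>
        hIJ.ne (by rw [← comap_map_val hα h1 I, h, comap_map_val hα h1 J]))

/-- A unit-like element for an invariant ideal can be averaged. -/
theorem exists_invariant_conductor (hα : IsIntegral k α) (h1 : α 1 = 1) {I : Ideal R}
    (hI : HopfRep.IsSubcomod (k := k) (A := A) (I.restrictScalars k)) {ι : Type*} {f : ι → R}
    (hfG : ∀ i, f i ∈ GLin.invariants k A R) {b : R} (hb1 : b - 1 ∈ I)
    (hb : ∀ y ∈ I, b * y ∈ Ideal.span (Set.range f)) :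
    ∃ b ∈ GLin.invariants k A R, b - 1 ∈ I ∧ ∀ y ∈ I, b * y ∈ Ideal.span (Set.range f) := by
  set J := (Ideal.span (Set.range f)).restrictScalars k
  have hJ : HopfRep.IsSubcomod (k := k) (A := A) J := by
    refine isSubcomod_iff_actF.mpr fun φ x hx => ?_
    clear hb hb1
    induction hx using Submodule.span_induction generalizing φ with
    | mem x hx =>
      obtain ⟨i, rfl⟩ := hx
      rw [(fixedPts_actF (f i)).mp (hfG i)]
      exact J.smul_mem _ (Ideal.subset_span ⟨i, rfl⟩)
    | zero => simp
    | add x y _ _ hx hy => rw [map_add]; exact J.add_mem (hx φ) (hy φ)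
    | smul r x _ hx =>
      have hx' : HopfRep.Comod.coact (k := k) (A := A) x ∈ LinearMap.range (J.subtype.rTensor A) :=
        (mem_range_rTensor_subtype_iff J _).mpr fun ψ => hx ψ
      obtain ⟨z, hz⟩ := hx'
      rw [actF_apply, smul_eq_mul, GLin.IsCoactAlg.coact_mul, ← hz]
      generalize HopfRep.Comod.coact (k := k) (A := A) r = w
      clear hz
      induction z using TensorProduct.induction_on with
      | zero => simp
      | add p q hp hq => simp only [map_add, mul_add]; exact J.add_mem hp hq
      | tmul j a =>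
        induction w using TensorProduct.induction_on with
        | zero => simp
        | add p q hp hq => simp only [map_add, add_mul]; exact J.add_mem hp hq
        | tmul r' a' =>
          simp only [LinearMap.rTensor_tmul, Submodule.subtype_apply, Algebra.TensorProduct.tmul_mul_tmul, slice_tmul]
          exact J.smul_mem _ (Ideal.mul_mem_left _ _ j.2)
  refine ⟨rey α b, rey_mem_fixedPts hα b, ?_, fun y hy => ?_⟩
  · have h := rey_mem_of_isSubcomod (α := α) hI (show b - 1 ∈ I.restrictScalars k from hb1)
    rwa [map_sub, rey_of_fixed h1 (show (1 : R) ∈ HopfRep.fixedPts k A R from (GLin.invariants k A R).one_mem)] at h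
  · -- `(coaction of b) * (y ⊗ 1)` lies in `(f) ⊗ A`
    obtain ⟨z, hz⟩ := hI y hy
    let G : (R ⊗[k] A) ⊗[k] A →ₗ[k] R ⊗[k] A := LinearMap.mul' k (R ⊗[k] A) ∘ₗ
      TensorProduct.map LinearMap.id ((TensorProduct.mk k R A 1) ∘ₗ HopfAlgebra.antipode k)
    have hG : G ((HopfRep.Comod.coact (k := k) (A := A)).rTensor A (HopfRep.Comod.coact (k := k) (A := A) y)) =
        y ⊗ₜ[k] (1 : A) := by
      have hc := congrArg (TensorProduct.assoc k R A A).symm
        (LinearMap.congr_fun (HopfRep.Comod.coassoc (k := k) (A := A) (V := R)) y)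
      simp only [LinearMap.comp_apply, LinearEquiv.coe_coe, LinearEquiv.symm_apply_apply] at hc
      have e1 : ∀ w : R ⊗[k] A, G ((TensorProduct.assoc k R A A).symm ((Coalgebra.comul (R := k)).lTensor R w)) =
          (Algebra.linearMap k A ∘ₗ Coalgebra.counit).lTensor R w := fun w => by
        induction w using TensorProduct.induction_on with
        | zero => simp
        | add p q hp hq => simp only [map_add, hp, hq]
        | tmul x a =>
          have e2 : ∀ y : A ⊗[k] A, G ((TensorProduct.assoc k R A A).symm (x ⊗ₜ[k] y)) =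
              x ⊗ₜ[k] LinearMap.mul' k A ((HopfAlgebra.antipode k).lTensor A y) := fun y => by
            induction y using TensorProduct.induction_on with
            | zero => simp
            | add p q hp hq => simp only [tmul_add, map_add, hp, hq]
            | tmul p q => simp [G]
          rw [LinearMap.lTensor_tmul, e2, HopfAlgebra.mul_antipode_lTensor_comul_apply]
          rfl
      rw [hc, e1, LinearMap.lTensor_comp, LinearMap.comp_apply]
      have h2 := LinearMap.congr_fun (HopfRep.Comod.counit_comp (k := k) (A := A) (V := R)) y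
      simp only [LinearMap.comp_apply, LinearMap.flip_apply, TensorProduct.mk_apply] at h2
      rw [h2]
      simp
    have hmem : HopfRep.Comod.coact (k := k) (A := A) b * (y ⊗ₜ[k] (1 : A)) ∈ LinearMap.range (J.subtype.rTensor A) := by
      rw [← hG, ← hz]
      clear hz hy hG
      induction z using TensorProduct.induction_on with
      | zero => simp
      | add p q hp hq => simp only [map_add, mul_add]; exact Submodule.add_mem _ hp hq
      | tmul y₀ a =>
        simp only [G, LinearMap.rTensor_tmul, Submodule.subtype_apply, LinearMap.comp_apply, TensorProduct.map_tmul,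
          LinearMap.id_apply, LinearMap.mul'_apply, TensorProduct.mk_apply]
        rw [← mul_assoc, ← GLin.IsCoactAlg.coact_mul]
        obtain ⟨w, hw⟩ := hJ _ (show b * (y₀ : R) ∈ J from hb _ y₀.2)
        rw [← hw]
        clear hw
        induction w using TensorProduct.induction_on with
        | zero => simp
        | add p q hp hq => simp only [map_add, add_mul]; exact Submodule.add_mem _ hp hq
        | tmul j c => exact ⟨j ⊗ₜ[k] (c * HopfAlgebra.antipode k a), by simp⟩
    have h3 : rey α b * y = slice (α ∘ₗ HopfAlgebra.antipode k)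
        (HopfRep.Comod.coact (k := k) (A := A) b * (y ⊗ₜ[k] (1 : A))) := by
      rw [rey, actF_apply]
      induction HopfRep.Comod.coact (k := k) (A := A) b using TensorProduct.induction_on with
      | zero => simp
      | tmul p q => simp
      | add p q hp hq => simp only [add_mul, map_add, hp, hq]
    rw [h3]
    exact (mem_range_rTensor_subtype_iff J _).mp hmem _

theorem isSubcomod_mul {U Q : Submodule k R} (hU : HopfRep.IsSubcomod (k := k) (A := A) U)
    (hQ : HopfRep.IsSubcomod (k := k) (A := A) Q) : HopfRep.IsSubcomod (k := k) (A := A) (U * Q) := by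
  intro x hx
  induction hx using Submodule.mul_induction_on' with
  | add x _ y _ hx hy => rw [map_add]; exact Submodule.add_mem _ hx hy
  | mem_mul_mem m hm n hn =>
    obtain ⟨a, ha⟩ := hU m hm
    obtain ⟨b, hb⟩ := hQ n hn
    rw [GLin.IsCoactAlg.coact_mul, ← ha, ← hb]
    clear ha hb
    induction a using TensorProduct.induction_on with
    | zero => simp
    | add p q hp hq => simp only [map_add, add_mul]; exact Submodule.add_mem _ hp hq
    | tmul u c =>
      induction b using TensorProduct.induction_on with
      | zero => simp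
      | add p q hp hq => simp only [map_add, mul_add]; exact Submodule.add_mem _ hp hq
      | tmul v d => exact ⟨(⟨u.1 * v.1, Submodule.mul_mem_mul u.2 v.2⟩ : ↥(U * Q)) ⊗ₜ[k] (c * d), by simp⟩

end Algebra

section Generation

variable {R : Type w} [CommRing R] [Algebra k R] [HopfRep.Comod k A R] [GLin.IsCoactAlg k A R]
variable {C : Type w'} [CommRing C] [Algebra k C] [HopfRep.Comod k A C] [GLin.IsCoactAlg k A C]

open Polynomial in
/-- Hilbert's finiteness theorem, relative version. -/
theorem exists_finset_invariants_eq_adjoin [IsNoetherianRing R] [Algebra R C] [IsScalarTower k R C]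
    [Algebra.FiniteType R C] (hRC : Hoch.IsComodHom A (IsScalarTower.toAlgHom k R C).toLinearMap)
    (hα : IsIntegral k α) (h1 : α 1 = 1) :
    ∃ s : Finset C, GLin.invariants k A C =
      Algebra.adjoin k (⇑(algebraMap R C) '' ↑(GLin.invariants k A R) ∪ ↑s) := by
  classical
  obtain ⟨gens, hgens⟩ := (Algebra.FiniteType.out : (⊤ : Subalgebra R C).FG)
  obtain ⟨W₀, hWf, hgW, hW⟩ :=
    exists_finite_subcomod_le (k := k) (C := A) (V := C) ((gens.finite_toSet).insert (1 : C))
  haveI := hWf
  obtain ⟨S, hS⟩ := (Module.Finite.iff_fg.mp hWf : W₀.FG)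
  let φ := IsScalarTower.toAlgHom k R C
  let U₀ : Submodule k C := Subalgebra.toSubmodule φ.range
  have hU₀ : HopfRep.IsSubcomod (k := k) (A := A) U₀ := isSubcomod_range hRC
  let F : ℕ → Submodule k C := fun d => U₀ * W₀ ^ d
  have hFsub : ∀ d, HopfRep.IsSubcomod (k := k) (A := A) (F d) := fun d => by
    induction d with
    | zero => simpa [F] using hU₀
    | succ d ih => simpa only [F, pow_succ, ← mul_assoc] using isSubcomod_mul ih hW
  have hF0 : ∀ r : R, algebraMap R C r ∈ F 0 := fun r => by
    simp only [F, pow_zero, mul_one]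
    exact ⟨r, rfl⟩
  have hFmul : ∀ a b, F a * F b ≤ F (a + b) := fun a b => by
    simp only [F, pow_add]
    rw [mul_mul_mul_comm]
    exact mul_le_mul_left (Submodule.mul_le.mpr fun x hx y hy => φ.range.mul_mem hx hy) _
  have hFmono : Monotone F := monotone_nat_of_le_succ fun d => by
    simp only [F, pow_succ, ← mul_assoc]
    intro x hx
    simpa using Submodule.mul_mem_mul hx (hgW (Set.mem_insert _ _))
  have hFtop : ∀ c : C, ∃ d, c ∈ F d := by
    intro c
    have hc : c ∈ Algebra.adjoin R (gens : Set C) := hgens ▸ Algebra.mem_top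
    induction hc using Algebra.adjoin_induction with
    | mem x hx =>
      refine ⟨1, ?_⟩
      simp only [F, pow_one]
      simpa using Submodule.mul_mem_mul (show (1 : C) ∈ U₀ from φ.range.one_mem) (hgW (Set.mem_insert_of_mem _ hx))
    | algebraMap r => exact ⟨0, hF0 r⟩
    | add x y _ _ hx hy =>
      obtain ⟨a, ha⟩ := hx
      obtain ⟨b, hb⟩ := hy
      exact ⟨max a b, (F _).add_mem (hFmono (le_max_left a b) ha) (hFmono (le_max_right a b) hb)⟩
    | mul x y _ _ hx hy =>
      obtain ⟨a, ha⟩ := hx
      obtain ⟨b, hb⟩ := hy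
      exact ⟨a + b, hFmul a b (Submodule.mul_mem_mul ha hb)⟩
  -- the Rees algebra
  let Ree : Subalgebra R C[X] := Algebra.adjoin R ((fun w => monomial 1 w) '' (S : Set C))
  have : Algebra.FiniteType R Ree :=
    (Subalgebra.fg_iff_finiteType Ree).mp (Subalgebra.fg_def.mpr ⟨_, S.finite_toSet.image _, rfl⟩)
  haveI : IsNoetherianRing Ree := Algebra.FiniteType.isNoetherianRing R Ree
  have hcoeff : ∀ p ∈ Ree, ∀ d, Polynomial.coeff p d ∈ F d := by
    intro p hp
    induction hp using Algebra.adjoin_induction with
    | mem x hx =>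
      obtain ⟨w, hw, rfl⟩ := hx
      intro d
      rw [coeff_monomial]
      split_ifs with hd
      · subst hd
        simp only [F, pow_one]
        simpa using Submodule.mul_mem_mul (show (1 : C) ∈ U₀ from φ.range.one_mem)
          (hS ▸ Submodule.subset_span hw : w ∈ W₀)
      · exact (F d).zero_mem
    | algebraMap r =>
      intro d
      rw [Polynomial.algebraMap_apply, coeff_C]
      split_ifs with hd
      · subst hd; exact hF0 r
      · exact (F d).zero_mem
    | add x y _ _ hx hy => intro d; rw [coeff_add]; exact (F d).add_mem (hx d) (hy d)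
    | mul x y _ _ hx hy =>
      intro d
      rw [coeff_mul]
      exact Submodule.sum_mem _ fun q hq => by
        have h := hFmul q.1 q.2 (Submodule.mul_mem_mul (hx q.1) (hy q.2))
        rwa [Finset.mem_antidiagonal.mp hq] at h
  have hmono : ∀ d, ∀ c ∈ F d, monomial d c ∈ Ree := by
    intro d
    induction d with
    | zero =>
      intro c hc
      simp only [F, pow_zero, mul_one] at hc
      obtain ⟨r, rfl⟩ := hc
      rw [monomial_zero_left]
      exact Ree.algebraMap_mem r
    | succ d ih =>
      intro c hc
      simp only [F, pow_succ, ← mul_assoc] at hc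
      induction hc using Submodule.mul_induction_on' with
      | add x _ y _ hx hy => rw [map_add]; exact Ree.add_mem hx hy
      | mem_mul_mem m hm w hw =>
        rw [← hS] at hw
        induction hw using Submodule.span_induction with
        | mem x hx =>
          rw [← monomial_mul_monomial]
          exact Ree.mul_mem (ih m hm) (Algebra.subset_adjoin ⟨x, hx, rfl⟩)
        | zero => simp
        | add x y _ _ hx hy => rw [mul_add, map_add]; exact Ree.add_mem hx hy
        | smul r x _ hx =>
          rw [mul_smul_comm, ← algebraMap_smul R r (m * x), ← Polynomial.smul_monomial]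
          exact Ree.smul_mem hx _
  let G : Set Ree := {q | ∃ d c, 1 ≤ d ∧ c ∈ F d ∧ c ∈ GLin.invariants k A C ∧ (q : C[X]) = monomial d c}
  obtain ⟨t, htG, htJ⟩ := (Submodule.fg_span_iff_fg_span_finset_subset G).mp
    (IsNoetherian.noetherian (Submodule.span Ree G))
  have htG' : ∀ q : t, ∃ d c, 1 ≤ d ∧ c ∈ F d ∧ c ∈ GLin.invariants k A C ∧ (q.1 : C[X]) = monomial d c :=
    fun q => htG q.2
  choose dd cc hd1 hcF hcI hq using htG'
  refine ⟨Finset.univ.image cc, ?_⟩
  set T := Algebra.adjoin k (⇑(algebraMap R C) '' ↑(GLin.invariants k A R) ∪ ↑(Finset.univ.image cc))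
  refine le_antisymm ?_ (Algebra.adjoin_le ?_)
  · have key : ∀ d, ∀ c ∈ GLin.invariants k A C, c ∈ F d → c ∈ T := by
      intro d
      induction d using Nat.strong_induction_on with
      | _ d ih =>
        intro c hc hcd
        rcases Nat.eq_zero_or_pos d with rfl | hd
        · simp only [F, pow_zero, mul_one] at hcd
          obtain ⟨r, hr⟩ := hcd
          have h := rey_of_fixed h1 (show c ∈ HopfRep.fixedPts k A C from hc)
          rw [← hr] at h ⊢
          rw [← h]
          refine Algebra.subset_adjoin (Or.inl ⟨rey α r, rey_mem_fixedPts hα r, ?_⟩)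
          exact map_rey hRC r
        · have hmem : (⟨monomial d c, hmono d c hcd⟩ : Ree) ∈ Submodule.span Ree (t : Set Ree) :=
            htJ ▸ Submodule.subset_span ⟨d, c, hd, hcd, hc, rfl⟩
          obtain ⟨g, -, hg⟩ := Submodule.mem_span_finset.mp hmem
          have h2 := congrArg (fun q : Ree => Polynomial.coeff (q : C[X]) d) hg
          simp only [coeff_monomial, if_pos, smul_eq_mul] at h2
          rw [← rey_of_fixed h1 (show c ∈ HopfRep.fixedPts k A C from hc), ← h2,
            ← Subalgebra.val_apply, map_sum, Polynomial.finset_sum_coeff, map_sum]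
          refine Subalgebra.sum_mem _ fun q hqt => ?_
          obtain ⟨q, rfl⟩ : ∃ q' : t, q'.1 = q := ⟨⟨q, hqt⟩, rfl⟩
          rw [map_mul, Subalgebra.val_apply, Subalgebra.val_apply, hq q, ← Polynomial.C_mul_X_pow_eq_monomial,
            ← mul_assoc, Polynomial.coeff_mul_X_pow']
          split_ifs with hle
          · rw [Polynomial.coeff_mul_C, rey_mul_invariant _ (hcI q)]
            exact T.mul_mem (ih _ (by have := hd1 q; omega) _ (rey_mem_fixedPts hα _)
              (rey_mem_of_isSubcomod (hFsub _) (hcoeff _ (g q.1).2 _)))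
              (Algebra.subset_adjoin (Or.inr (Finset.mem_image_of_mem cc (Finset.mem_univ q))))
          · rw [map_zero]; exact T.zero_mem
    intro c hc
    obtain ⟨d, hd⟩ := hFtop c
    exact key d c hc hd
  · rintro x (⟨r, hr, rfl⟩ | hx)
    · exact map_mem_fixedPts hRC (show r ∈ HopfRep.fixedPts k A R from hr)
    · obtain ⟨q, -, rfl⟩ := Finset.mem_image.mp hx
      exact hcI q

/-- Hilbert's finiteness theorem. -/
theorem exists_finset_invariants_adjoin [Algebra.FiniteType k C] (hα : IsIntegral k α) (h1 : α 1 = 1) :
    ∃ s : Finset C, GLin.invariants k A C = Algebra.adjoin k (↑s : Set C) := by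
  letI : HopfRep.Comod k A k := HopfRep.Comod.trivial k A k
  haveI : GLin.IsCoactAlg k A k :=
    ⟨Algebra.TensorProduct.one_def.symm, fun f g => by
      show (f * g) ⊗ₜ[k] (1 : A) = (f ⊗ₜ[k] (1 : A)) * (g ⊗ₜ[k] (1 : A))
      simp⟩
  have hRC : Hoch.IsComodHom A (IsScalarTower.toAlgHom k k C).toLinearMap := by
    refine LinearMap.ext fun r => ?_
    show HopfRep.Comod.coact (k := k) (A := A) (algebraMap k C r) = (algebraMap k C r) ⊗ₜ[k] (1 : A)
    rw [Algebra.algebraMap_eq_smul_one, map_smul, GLin.IsCoactAlg.coact_one, Algebra.TensorProduct.one_def]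
    rfl
  obtain ⟨s, hs⟩ := exists_finset_invariants_eq_adjoin (α := α) hRC hα h1
  refine ⟨s, hs.trans (le_antisymm (Algebra.adjoin_le ?_) (Algebra.adjoin_mono Set.subset_union_right))⟩
  rintro x (⟨r, -, rfl⟩ | hx)
  · exact Subalgebra.algebraMap_mem _ r
  · exact Algebra.subset_adjoin hx

end Generation

end Groth.Agent.ComodLib
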