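import Groth.Agent.ComodLib.StableOrbit
import Groth.Agent.ComodLib.Invariants

/-!
# The locus of stable points is cut out by invariants
-/

universe u v

open TensorProduct WithConv

namespace Groth.Agent.ComodLib

open GLin (orbitHom actPt InOrbitClosure)

set_option linter.style.haveILetI false
set_option linter.unusedSectionVars false

attribute [local instance] RingHom.ker_isPrime

theorem isOpen_quasiFiniteAt {T S : Type u} [CommRing T] [CommRing S] [Algebra T S] [Algebra.FiniteType T S] :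
    IsOpen {q : PrimeSpectrum S | Algebra.QuasiFiniteAt T q.asIdeal} := by
  rw [isOpen_iff_forall_mem_open]
  intro p hp
  haveI : Algebra.QuasiFiniteAt T p.asIdeal := hp
  obtain ⟨S', hS', r, hrp, H⟩ :=
    Algebra.QuasiFiniteAt.exists_fg_and_exists_notMem_and_awayMap_bijective (R := T) p.asIdeal
  refine ⟨PrimeSpectrum.basicOpen r.1, fun q hrq => ?_, (PrimeSpectrum.basicOpen r.1).isOpen, hrp⟩
  have : Module.Finite T S' := ⟨(Submodule.fg_top _).mpr hS'⟩
  have : Algebra.QuasiFinite T (Localization.Away r) := .trans _ S' _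
  have : Algebra.QuasiFinite T (Localization.Away r.1) :=
    .of_surjective_algHom (Localization.awayMapₐ S'.val r) H.2
  let f : Localization.Away r.1 →ₐ[S] Localization.AtPrime q.asIdeal :=
    IsLocalization.Away.liftAlgHom r.1 (f := Algebra.ofId _ _) <|
      IsLocalization.map_units (M := q.asIdeal.primeCompl) (Localization.AtPrime q.asIdeal) ⟨r, hrq⟩
  refine Algebra.QuasiFinite.of_forall_exists_mul_mem_range (f.restrictScalars T) fun x ↦ ?_
  obtain ⟨x, ⟨s, hs⟩, rfl⟩ := IsLocalization.exists_mk'_eq q.asIdeal.primeCompl x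
  exact ⟨algebraMap _ _ s, by simpa using IsLocalization.map_units _ ⟨s, hs⟩, algebraMap _ _ x, by simp⟩

variable {k : Type u} [Field k] {A : Type v} [CommRing A] [HopfAlgebra k A]

theorem translatePt_comp (g h : A →ₐ[k] k) :
    (translatePt g).comp (translatePt h) = translatePt ((toConv h * toConv g).ofConv) := by
  haveI : GLin.IsCoactAlg k A A := ⟨Bialgebra.comul_one, fun f f' => Bialgebra.comul_mul f f'⟩
  have e : ∀ x : A →ₐ[k] k, orbitHom k A x = translatePt x := fun x => rfl
  rw [convMul_ofConv]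
  have := orbitHom_actPt (R := A) g h
  rw [show actPt k g h = g.comp (translatePt h) from rfl, e, e] at this
  exact this.symm

theorem translatePt_counit : translatePt (Bialgebra.counitAlgHom k A) = AlgHom.id k A := by
  refine AlgHom.ext fun a => ?_
  show Algebra.TensorProduct.lid k A (Algebra.TensorProduct.map (Bialgebra.counitAlgHom k A) (AlgHom.id k A)
    (Coalgebra.comul (R := k) a)) = a
  have h : ∀ y : A ⊗[k] A, Algebra.TensorProduct.lid k A (Algebra.TensorProduct.map (Bialgebra.counitAlgHom k A)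
      (AlgHom.id k A) y) = TensorProduct.lid k A ((Coalgebra.counit (R := k)).rTensor A y) := fun y => by
    induction y using TensorProduct.induction_on with
    | zero => simp
    | tmul p q => simp
    | add p q hp hq => simp only [map_add, hp, hq]
  rw [h, Coalgebra.rTensor_counit_comul]
  simp

variable [IsAlgClosed k] [Algebra.FiniteType k A]
variable {R : Type v} [CommRing R] [Algebra k R] [HopfRep.Comod k A R] [GLin.IsCoactAlg k A R]

/-- If the identity is isolated in the stabilizer, then the stabilizer is finite. -/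
theorem finite_stab_of_isolated {z : R →ₐ[k] k} (V : Set (PrimeSpectrum A)) (hV : IsOpen V)
    (hVe : V ∩ (PrimeSpectrum.comap (orbitHom k A z).toRingHom ⁻¹' {⟨RingHom.ker z, RingHom.ker_isPrime _⟩}) =
      {⟨RingHom.ker (Bialgebra.counitAlgHom k A), RingHom.ker_isPrime _⟩}) :
    (stab (A := A) z).Finite := by
  haveI : IsJacobsonRing A := isJacobsonRing_of_finiteType (A := k) (B := A)
  haveI : IsNoetherianRing A := Algebra.FiniteType.isNoetherianRing k A
  set G := PrimeSpectrum.comap (orbitHom k A z).toRingHom ⁻¹' {(⟨RingHom.ker z, RingHom.ker_isPrime _⟩ : PrimeSpectrum R)} with hG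
  have hmax : (RingHom.ker z).IsMaximal :=
    RingHom.ker_isMaximal_of_surjective z fun c => ⟨algebraMap k R c, AlgHom.commutes _ c⟩
  have hGc : IsClosed G :=
    ((PrimeSpectrum.isClosed_singleton_iff_isMaximal _).mpr hmax).preimage (PrimeSpectrum.continuous_comap _)
  let pt : WithConv (A →ₐ[k] k) → PrimeSpectrum A := fun g => ⟨RingHom.ker g.ofConv, RingHom.ker_isPrime _⟩
  have hpt : ∀ g, g ∈ stab (A := A) z ↔ pt g ∈ G := fun g => by
    show actPt k g.ofConv z = z ↔ PrimeSpectrum.comap _ (pt g) = _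
    refine ⟨fun h => PrimeSpectrum.ext ?_, fun h => eq_of_ker_le ?_⟩
    · show RingHom.ker (g.ofConv.comp (orbitHom k A z)) = RingHom.ker z
      exact congrArg RingHom.ker h
    · exact le_of_eq (congrArg PrimeSpectrum.asIdeal h)
  let τ : WithConv (A →ₐ[k] k) → PrimeSpectrum A → PrimeSpectrum A := fun g =>
    PrimeSpectrum.comap (translatePt g.ofConv).toRingHom
  have hτc : ∀ g h s, τ g (τ h s) = τ (g * h) s := fun g h s => by
    show PrimeSpectrum.comap _ (PrimeSpectrum.comap _ s) = PrimeSpectrum.comap _ s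
    rw [show (translatePt (g * h).ofConv) = (translatePt h.ofConv).comp (translatePt g.ofConv) from
      (translatePt_comp _ _).symm]
    rfl
  have hτ1 : ∀ s, τ 1 s = s := fun s => by
    show PrimeSpectrum.comap (translatePt (1 : WithConv (A →ₐ[k] k)).ofConv).toRingHom s = s
    rw [show (1 : WithConv (A →ₐ[k] k)).ofConv = Bialgebra.counitAlgHom k A from AlgHom.ext fun a => rfl,
      translatePt_counit]
    rfl
  have hτG : ∀ g ∈ stab (A := A) z, ∀ s ∈ G, τ g s ∈ G := fun g hg s hs => by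
    show PrimeSpectrum.comap (orbitHom k A z).toRingHom (PrimeSpectrum.comap _ s) = _
    rw [← PrimeSpectrum.comap_comp_apply]
    show PrimeSpectrum.comap ((translatePt g.ofConv).comp (orbitHom k A z)).toRingHom s = _
    rw [← orbitHom_actPt, show actPt k g.ofConv z = z from hg]
    exact hs
  have hiso : ∀ g ∈ stab (A := A) z, ∃ O : Set (PrimeSpectrum A), IsOpen O ∧ O ∩ G = {pt g} := by
    intro g hg
    have hgi : g⁻¹ ∈ stab (A := A) z := by
      have := actPt_inv_conv g z
      rwa [show actPt k g.ofConv z = z from hg] at this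
    refine ⟨τ g⁻¹ ⁻¹' V, hV.preimage (PrimeSpectrum.continuous_comap _), ?_⟩
    ext s
    simp only [Set.mem_inter_iff, Set.mem_preimage, Set.mem_singleton_iff]
    constructor
    · rintro ⟨h1, h2⟩
      have h3 : τ g⁻¹ s = pt 1 := by
        have h4 : τ g⁻¹ s ∈ V ∩ G := ⟨h1, hτG _ hgi s h2⟩
        rw [hVe] at h4
        exact h4.trans (PrimeSpectrum.ext (congrArg RingHom.ker (AlgHom.ext fun a => rfl)))
      have h5 := congrArg (τ g) h3
      rw [hτc, mul_inv_cancel, hτ1] at h5
      rw [h5]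
      refine PrimeSpectrum.ext ?_
      show RingHom.ker ((1 : WithConv (A →ₐ[k] k)).ofConv.comp (translatePt g.ofConv)) = _
      rw [← convMul_ofConv, mul_one]
    · rintro rfl
      refine ⟨?_, (hpt g).mp hg⟩
      have : τ g⁻¹ (pt g) = ⟨RingHom.ker (Bialgebra.counitAlgHom k A), RingHom.ker_isPrime _⟩ := by
        refine PrimeSpectrum.ext ?_
        show RingHom.ker (g.ofConv.comp (translatePt g⁻¹.ofConv)) = _
        rw [← convMul_ofConv, inv_mul_cancel]
        exact congrArg RingHom.ker (AlgHom.ext fun a => rfl)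
      rw [this]
      exact ((Set.ext_iff.mp hVe _).mpr rfl).1
  choose O hO hOG using hiso
  have hGpts : ∀ s ∈ G, ∃ g ∈ stab (A := A) z, s = pt g := by
    by_contra hne
    push Not at hne
    obtain ⟨s, hs, hs'⟩ := hne
    let U := ⋃ g : stab (A := A) z, O g.1 g.2
    have hmem : ∀ q ∈ U ∩ G, ∃ g ∈ stab (A := A) z, q = pt g := by
      rintro q ⟨hq, hqG⟩
      obtain ⟨g, hg⟩ := Set.mem_iUnion.mp hq
      exact ⟨g.1, g.2, (Set.ext_iff.mp (hOG g.1 g.2) q).mp ⟨hg, hqG⟩⟩
    have hsU : s ∉ U := fun h => by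
      obtain ⟨g, hg, e⟩ := hmem s ⟨h, hs⟩
      exact hs' g hg e
    obtain ⟨q, ⟨hqG, hqU⟩, hqc⟩ := nonempty_inter_closedPoints (Z := G \ U) ⟨s, hs, hsU⟩
      (hGc.sdiff (isOpen_iUnion fun (g : stab (A := A) z) => hO g.1 g.2)).isLocallyClosed
    have hqm : q.asIdeal.IsMaximal := (PrimeSpectrum.isClosed_singleton_iff_isMaximal q).mp hqc
    obtain ⟨w, hw⟩ := exists_point (k := k) q.asIdeal hqm.ne_top
    have hwq : q = pt (toConv w) := PrimeSpectrum.ext (hqm.eq_of_le (RingHom.ker_ne_top _) hw)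
    have hw1 : toConv w ∈ stab (A := A) z := (hpt _).mpr (hwq ▸ hqG)
    refine hqU (Set.mem_iUnion.mpr ⟨⟨toConv w, hw1⟩, ?_⟩)
    have := ((Set.ext_iff.mp (hOG (toConv w) hw1) (pt (toConv w))).mpr rfl).1
    exact hwq.symm ▸ this
  have hfin : G.Finite := by
    refine hGc.isCompact.finite (isDiscrete_iff_discreteTopology.mpr
      (discreteTopology_iff_isOpen_singleton.mpr fun s => ?_))
    obtain ⟨g, hg, hsg⟩ := hGpts s.1 s.2
    refine ⟨O g hg, hO g hg, Set.ext fun t => ?_⟩
    rw [Set.mem_preimage, Set.mem_singleton_iff]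
    have h0 := Set.ext_iff.mp (hOG g hg) t.1
    exact ⟨fun h => Subtype.ext ((h0.mp ⟨h, t.2⟩).trans hsg.symm), fun h => (h0.mpr (h ▸ hsg)).1⟩
  refine Set.Finite.of_finite_image (f := pt) (hfin.subset ?_) ?_
  · rintro _ ⟨g, hg, rfl⟩; exact (hpt g).mp hg
  · intro a _ b _ hab
    have := eq_of_ker_le (x := a.ofConv) (y := b.ofConv) (le_of_eq (congrArg PrimeSpectrum.asIdeal hab :))
    exact congrArg toConv this

variable [Algebra.FiniteType k R]

/-- The points with infinite stabilizer are the points of a closed subset. -/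
theorem exists_ideal_infinite_stab :
    ∃ I : Ideal R, ∀ z : R →ₐ[k] k, I ≤ RingHom.ker z ↔ ¬ (stab (A := A) z).Finite := by
  letI := (graphHom (k := k) (A := A) (R := R)).toRingHom.toAlgebra
  haveI : IsScalarTower k (R ⊗[k] R) (R ⊗[k] A) :=
    IsScalarTower.of_algebraMap_eq fun c => ((graphHom (k := k) (A := A) (R := R)).commutes c).symm
  haveI : Algebra.FiniteType k (R ⊗[k] A) :=
    Algebra.FiniteType.trans (S := R) (inferInstance : Algebra.FiniteType k R) inferInstance
  haveI : Algebra.FiniteType (R ⊗[k] R) (R ⊗[k] A) :=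
    Algebra.FiniteType.of_restrictScalars_finiteType k (R ⊗[k] R) (R ⊗[k] A)
  let Q : Set (PrimeSpectrum R) := PrimeSpectrum.comap (unitSection (k := k) (A := A) (R := R)).toRingHom ⁻¹'
    {q | Algebra.QuasiFiniteAt (R ⊗[k] R) q.asIdeal}
  have hQ : IsOpen Q := (isOpen_quasiFiniteAt (T := R ⊗[k] R) (S := R ⊗[k] A)).preimage
    (PrimeSpectrum.continuous_comap _)
  obtain ⟨I, hI⟩ := (PrimeSpectrum.isClosed_iff_zeroLocus_ideal Qᶜ).mp hQ.isClosed_compl
  refine ⟨I, fun z => ?_⟩
  have h1 : I ≤ RingHom.ker z ↔ (⟨RingHom.ker z, RingHom.ker_isPrime _⟩ : PrimeSpectrum R) ∉ Q := by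
    rw [← Set.mem_compl_iff, hI, PrimeSpectrum.mem_zeroLocus]
    rfl
  rw [h1, not_iff_not]
  set e : PrimeSpectrum A := ⟨RingHom.ker (Bialgebra.counitAlgHom k A), RingHom.ker_isPrime _⟩
  set p := z.comp (unitSection (A := A))
  refine ⟨fun hz => ?_, fun h => quasiFiniteAt_graph h⟩
  haveI hz' : Algebra.QuasiFiniteAt (R ⊗[k] R) (RingHom.ker p) := hz
  have hopen := (Algebra.quasiFiniteAt_iff_isOpen_singleton_fiber
    (R := R ⊗[k] R) (⟨RingHom.ker p, RingHom.ker_isPrime _⟩ : PrimeSpectrum (R ⊗[k] A))).mp hz'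
  obtain ⟨U, hU, hUF⟩ := isOpen_induced_iff.mp hopen
  let π : R ⊗[k] A →ₐ[k] A := (Algebra.TensorProduct.lid k A).toAlgHom.comp
    (Algebra.TensorProduct.map z (AlgHom.id k A))
  let ψ : R ⊗[k] R →ₐ[k] R := (Algebra.TensorProduct.lid k R).toAlgHom.comp
    (Algebra.TensorProduct.map z (AlgHom.id k R))
  have hsq : π.comp (graphHom (A := A)) = (orbitHom k A z).comp ψ := by
    refine Algebra.TensorProduct.ext' fun r r' => ?_
    simp only [AlgHom.comp_apply, graphHom, Algebra.TensorProduct.lift_tmul, map_mul]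
    rw [show π (Algebra.TensorProduct.includeLeft r) = algebraMap k A (z r) by
      simp [π, Algebra.algebraMap_eq_smul_one]]
    rw [show π (GLin.coactAlgHom k A R r') = orbitHom k A z r' from rfl]
    simp [ψ, Algebra.smul_def]
  have hπe : (Bialgebra.counitAlgHom k A).comp π = p := by
    refine Algebra.TensorProduct.ext' fun r a => ?_
    simp [π, p, unitSection]
  have hzψ : z.comp ψ = p.comp (graphHom (A := A)) := by
    refine AlgHom.ext fun t => ?_
    rw [← hπe]
    show z (ψ t) = Bialgebra.counitAlgHom k A (π (graphHom (A := A) t))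
    rw [show π (graphHom (A := A) t) = orbitHom k A z (ψ t) from AlgHom.congr_fun hsq t]
    exact (counit_orbitHom (A := A) z (ψ t)).symm
  have hπinj : Function.Injective (PrimeSpectrum.comap π.toRingHom) :=
    PrimeSpectrum.comap_injective_of_surjective _ fun a => ⟨(1 : R) ⊗ₜ[k] a, by simp [π]⟩
  refine finite_stab_of_isolated (PrimeSpectrum.comap π.toRingHom ⁻¹' U) (hU.preimage (PrimeSpectrum.continuous_comap _)) ?_
  have hpe : PrimeSpectrum.comap π.toRingHom e = ⟨RingHom.ker p, RingHom.ker_isPrime _⟩ :=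
    PrimeSpectrum.ext (congrArg RingHom.ker hπe)
  have hF : ∀ s : PrimeSpectrum A,
      PrimeSpectrum.comap (orbitHom k A z).toRingHom s = ⟨RingHom.ker z, RingHom.ker_isPrime _⟩ →
      PrimeSpectrum.comap (algebraMap (R ⊗[k] R) (R ⊗[k] A)) (PrimeSpectrum.comap π.toRingHom s) =
        PrimeSpectrum.comap (algebraMap (R ⊗[k] R) (R ⊗[k] A)) ⟨RingHom.ker p, RingHom.ker_isPrime _⟩ := by
    intro s hs
    rw [← PrimeSpectrum.comap_comp_apply]
    show PrimeSpectrum.comap (π.comp (graphHom (A := A))).toRingHom s = _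
    rw [hsq]
    show PrimeSpectrum.comap ψ.toRingHom (PrimeSpectrum.comap (orbitHom k A z).toRingHom s) = _
    rw [hs]
    exact PrimeSpectrum.ext (congrArg RingHom.ker hzψ)
  have heG : PrimeSpectrum.comap (orbitHom k A z).toRingHom e = ⟨RingHom.ker z, RingHom.ker_isPrime _⟩ :=
    PrimeSpectrum.ext (congrArg RingHom.ker (AlgHom.ext fun r => counit_orbitHom (A := A) z r :
      (Bialgebra.counitAlgHom k A).comp (orbitHom k A z) = z))
  ext s
  simp only [Set.mem_inter_iff, Set.mem_preimage, Set.mem_singleton_iff]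
  constructor
  · rintro ⟨h2, h3⟩
    have h4 := (Set.ext_iff.mp hUF ⟨_, hF s h3⟩).mp h2
    exact hπinj ((congrArg Subtype.val h4).trans hpe.symm)
  · rintro rfl
    refine ⟨?_, heG⟩
    have h4 := (Set.ext_iff.mp hUF ⟨_, rfl⟩).mpr rfl
    rw [hpe]
    exact h4



/-- Invariant ideals with disjoint zero sets are separated by an invariant. -/
theorem exists_fixed_separating {α : A →ₗ[k] k} (hα : IsIntegral k α) (h1 : α 1 = 1) {J : Ideal R}
    (hJ : HopfRep.IsSubcomod (k := k) (A := A) (J.restrictScalars k)) (x : R →ₐ[k] k)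
    (hdisj : ∀ w : R →ₐ[k] k, InOrbitClosure k A x w → ¬ J ≤ RingHom.ker w) :
    ∃ f ∈ HopfRep.fixedPts k A R, f ∈ J ∧ x f = 1 := by
  have htop : RingHom.ker (orbitHom k A x) ⊔ J = ⊤ := by
    by_contra hne
    obtain ⟨w, hw⟩ := exists_point (k := k) _ hne
    exact hdisj w (le_sup_left.trans hw) (le_sup_right.trans hw)
  obtain ⟨a, ha, b, hb, hab⟩ := Submodule.mem_sup.mp ((Ideal.eq_top_iff_one _).mp htop)
  refine ⟨rey α b, rey_mem_fixedPts hα b, rey_mem_of_isSubcomod hJ hb, ?_⟩
  have hr := congrArg (rey α : R →ₗ[k] R) hab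
  rw [map_add, rey_of_fixed h1 (show (1 : R) ∈ HopfRep.fixedPts k A R from (GLin.invariants k A R).one_mem)] at hr
  have hax : x (rey α a) = 0 :=
    ker_orbitHom_le (A := A) x (rey_mem_of_isSubcomod (isSubcomod_ker_orbitHom x) ha)
  have h := congrArg x hr
  rwa [map_add, hax, zero_add, map_one] at h

theorem eq_of_fixed {x z : R →ₐ[k] k} (h : InOrbitClosure k A x z) {f : R} (hf : f ∈ HopfRep.fixedPts k A R) :
    z f = x f :=
  eq_of_closures_meet_invariant h hf

/-- A point is stable: closed orbit and finite stabilizer. -/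
def IsStb (x : R →ₐ[k] k) : Prop :=
  (∀ w, InOrbitClosure k A x w → ∃ g : A →ₐ[k] k, w = actPt k g x) ∧ (stab (A := A) x).Finite

theorem IsStb.exists_actPt {x z : R →ₐ[k] k} (hx : IsStb (A := A) x) {α : A →ₗ[k] k} (hα : IsIntegral k α)
    (h1 : α 1 = 1) (hz : ∀ f ∈ HopfRep.fixedPts k A R, z f = x f) : ∃ g : A →ₐ[k] k, z = actPt k g x := by
  obtain ⟨w, hw1, hw2⟩ := exists_closures_meet hα h1 x z fun f hf => (hz f hf).symm
  obtain ⟨g, rfl⟩ := hx.1 w hw1
  have hfin : (stab (A := A) (actPt k g x)).Finite := finite_stab_actPt (toConv g) hx.2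
  obtain ⟨g', hg'⟩ := exists_actPt_of_ker_eq (ker_orbitHom_eq_of_finite_stab hfin hw2).symm
  exact ⟨(toConv g * toConv g').ofConv, by rw [actPt_convMul]; exact hg'⟩

theorem isStb_iff_forall_fibre {α : A →ₗ[k] k} (hα : IsIntegral k α) (h1 : α 1 = 1) (x : R →ₐ[k] k) :
    IsStb (A := A) x ↔
      ∀ z : R →ₐ[k] k, (∀ f ∈ HopfRep.fixedPts k A R, z f = x f) → (stab (A := A) z).Finite := by
  refine ⟨fun hx z hz => ?_, fun h => ?_⟩
  · obtain ⟨g, rfl⟩ := hx.exists_actPt hα h1 hz
    exact finite_stab_actPt (toConv g) hx.2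
  obtain ⟨y, hy, hy'⟩ := exists_minimal_orbit (R := R) hα h1 x
  have hxy : InOrbitClosure k A x y := hy' x fun _ _ => rfl
  have hyfin : (stab (A := A) y).Finite := h y fun f hf => eq_of_fixed hxy hf
  have hker := ker_orbitHom_eq_of_finite_stab hyfin hxy
  refine ⟨fun w hw => ?_, h x fun _ _ => rfl⟩
  have hyw : InOrbitClosure k A y w := by
    show RingHom.ker (orbitHom k A y) ≤ _
    rw [← hker]
    exact hw
  obtain ⟨g, rfl⟩ := hy w hyw
  obtain ⟨g', hg'⟩ := exists_actPt_of_ker_eq hker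
  exact ⟨(toConv g' * toConv g).ofConv, by rw [actPt_convMul, ← show y = actPt k (toConv g').ofConv x from hg']⟩

variable [_root_.IsReduced A]

theorem exists_fixed_cutting {α : A →ₗ[k] k} (hα : IsIntegral k α) (h1 : α 1 = 1) :
    ∃ S : Set R, S ⊆ HopfRep.fixedPts k A R ∧ ∀ x : R →ₐ[k] k, IsStb (A := A) x ↔ ∃ f ∈ S, x f ≠ 0 := by
  obtain ⟨I, hI⟩ := exists_ideal_infinite_stab (k := k) (A := A) (R := R)
  refine ⟨{f | f ∈ HopfRep.fixedPts k A R ∧ ∀ z : R →ₐ[k] k, ¬ (stab (A := A) z).Finite → z f = 0},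
    fun f hf => hf.1, fun x => ?_⟩
  constructor
  · intro hx
    let J : Ideal R := ⨅ z : {z : R →ₐ[k] k // ¬ (stab (A := A) z).Finite}, RingHom.ker (orbitHom k A z.1)
    have hJ : HopfRep.IsSubcomod (k := k) (A := A) (J.restrictScalars k) := by
      simp only [J, Submodule.restrictScalars_iInf]
      exact isSubcomod_iInf fun z => isSubcomod_ker_orbitHom z.1
    have hIJ : I ≤ J := le_iInf fun z f hf => by
      rw [RingHom.mem_ker]
      by_contra hne
      obtain ⟨g, hg⟩ := exists_point_ne_zero (k := k) (a := orbitHom k A z.1 f) (fun hn => hne hn.eq_zero)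
      refine hg ?_
      have hgz : ¬ (stab (A := A) (actPt k g z.1)).Finite := fun hfin => z.2 (by
        have := finite_stab_actPt (toConv g)⁻¹ hfin
        rwa [show actPt k (toConv g)⁻¹.ofConv (actPt k g z.1) = z.1 from actPt_inv_conv (toConv g) z.1] at this)
      exact (hI _).mpr hgz hf
    obtain ⟨f, hf, hfJ, hfx⟩ := exists_fixed_separating hα h1 hJ x fun w hw hJw => by
      obtain ⟨g, rfl⟩ := hx.1 w hw
      exact (hI _).mp (hIJ.trans hJw) (finite_stab_actPt (toConv g) hx.2)
    refine ⟨f, ⟨hf, fun z hz => ?_⟩, by rw [hfx]; exact one_ne_zero⟩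
    exact ker_orbitHom_le (A := A) z ((Submodule.mem_iInf _).mp hfJ ⟨z, hz⟩)
  · rintro ⟨f, ⟨hf, hfz⟩, hfx⟩
    rw [isStb_iff_forall_fibre hα h1]
    intro z hz
    by_contra hn
    exact hfx ((hz f hf).symm.trans (hfz z hn))

theorem exists_ratio {α : A →ₗ[k] k} (hα : IsIntegral k α) (h1 : α 1 = 1) [IsDomain R] {x : R →ₐ[k] k}
    (hx : IsStb (A := A) x) (a b : R) (hb : b ≠ 0)
    (hab : (a ⊗ₜ[k] (1 : A)) * HopfRep.Comod.coact (k := k) (A := A) b =
      (b ⊗ₜ[k] (1 : A)) * HopfRep.Comod.coact (k := k) (A := A) a) :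
    ∃ c ∈ HopfRep.fixedPts k A R, ∃ d ∈ HopfRep.fixedPts k A R, d ≠ 0 ∧ a * d = b * c := by
  have hact : ∀ g : A →ₐ[k] k,
      a * HopfRep.Comod.act k A R g b = b * HopfRep.Comod.act k A R g a := fun g => by
    have hs : ∀ (r : R) (w : R ⊗[k] A), slice g.toLinearMap ((r ⊗ₜ[k] (1 : A)) * w) = r * slice g.toLinearMap w :=
      fun r w => by
        induction w using TensorProduct.induction_on with
        | zero => simp
        | tmul p q => simp
        | add p q hp hq => simp only [mul_add, map_add, hp, hq]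
    have := congrArg (slice g.toLinearMap) hab
    rwa [hs, hs] at this
  have hne : ∀ g : A →ₐ[k] k, HopfRep.Comod.act k A R g b ≠ 0 := fun g h0 => by
    obtain ⟨y, hy⟩ := exists_point_ne_zero (k := k) (a := b) (fun hn => hb hn.eq_zero)
    apply hy
    have hg : actPt k g (actPt k (toConv g)⁻¹.ofConv y) = y := by
      rw [show actPt k g (actPt k (toConv g)⁻¹.ofConv y) = actPt k ((toConv g)⁻¹ * toConv g).ofConv y from
        (actPt_convMul _ _ _).symm, inv_mul_cancel, actPt_convOne]
    rw [← hg, actPt_apply, h0, map_zero]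
  obtain ⟨S, hS, hSx⟩ := exists_fixed_cutting (R := R) hα h1
  obtain ⟨f, hfS, hfx⟩ := (hSx x).mp hx
  obtain ⟨y, hy⟩ := exists_point_ne_zero (k := k) (a := f * b)
    (fun hn => mul_ne_zero (fun h => hfx (by rw [h, map_zero])) hb hn.eq_zero)
  rw [map_mul] at hy
  have hyS : IsStb (A := A) y := (hSx y).mpr ⟨f, hfS, left_ne_zero_of_mul hy⟩
  let I : Ideal R :=
    { carrier := {d | b ∣ d * a}
      add_mem' := fun {p q} hp hq => by show b ∣ (p + q) * a; rw [add_mul]; exact dvd_add hp hq
      zero_mem' := by show b ∣ 0 * a; rw [zero_mul]; exact dvd_zero b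
      smul_mem' := fun c {p} hp => by show b ∣ c * p * a; rw [mul_assoc]; exact dvd_mul_of_dvd_right hp c }
  have hI : HopfRep.IsSubcomod (k := k) (A := A) (I.restrictScalars k) := by
    refine isSubcomod_of_forall_act fun g d hd => ?_
    obtain ⟨r, hr⟩ := (hd : b ∣ d * a)
    show b ∣ HopfRep.Comod.act k A R g d * a
    refine ⟨HopfRep.Comod.act k A R g r, mul_right_cancel₀ (hne g) ?_⟩
    have h2 := congrArg (HopfRep.Comod.act k A R g) hr
    rw [act_mul, act_mul] at h2
    linear_combination (HopfRep.Comod.act k A R g d) * hact g + b * h2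
  obtain ⟨d, hd, hdI, hdy⟩ := exists_fixed_separating hα h1 hI y fun w hw hIw => by
    obtain ⟨g, rfl⟩ := hyS.1 w hw
    apply right_ne_zero_of_mul hy
    have hbI : b ∈ I := dvd_mul_right b a
    have hbg := subcomod_actF_mem hI ((toConv g)⁻¹.ofConv).toLinearMap (show b ∈ I.restrictScalars k from hbI)
    have h3 : actPt k g y (HopfRep.Comod.act k A R ((toConv g)⁻¹.ofConv) b) = 0 := hIw hbg
    rw [← actPt_apply, show actPt k (toConv g)⁻¹.ofConv (actPt k g y) = y from actPt_inv_conv (toConv g) y] at h3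
    exact h3
  obtain ⟨c, hc⟩ := (hdI : b ∣ d * a)
  refine ⟨c, mem_fixedPts_of_forall_act fun g => ?_, d, hd, fun h0 => by simp [h0] at hdy, by rw [mul_comm, hc]⟩
  have h2 := congrArg (HopfRep.Comod.act k A R g) hc
  rw [act_mul, act_mul, act_fixed hd] at h2
  refine mul_left_cancel₀ (mul_ne_zero hb (hne g)) ?_
  linear_combination (-b) * h2 - d * hact g + (HopfRep.Comod.act k A R g b) * hc

end Groth.Agent.ComodLib
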