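import Groth.Agent.ComodLib.Trig
import Mathlib.LinearAlgebra.FiniteDimensional.Lemmas
import Mathlib.LinearAlgebra.Dimension.OrzechProperty

/-!
# Unitriangular matrix coefficients: the filtration characterisation of unipotence
-/

universe u v

open TensorProduct

namespace Groth.Agent.ComodLib

variable {k : Type u} [Field k] {A : Type v} [CommRing A] [Bialgebra k A]

variable (k) in
/-- A comultiplicative unitriangular matrix. -/
def IsUniMatrix {n : ℕ} (M : Fin n → Fin n → A) : Prop :=
  (∀ i j, j ≤ i → M i j = if i = j then 1 else 0) ∧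
    ∀ i j, Coalgebra.comul (R := k) (M i j) = ∑ l, M i l ⊗ₜ[k] M l j

variable (k A) in
/-- Entries of level at most `r` of all unitriangular matrices. -/
def uniLevel (r : ℕ) : Submodule k A :=
  Submodule.span k {a | ∃ (n : ℕ) (M : Fin n → Fin n → A) (i j : Fin n),
    IsUniMatrix k M ∧ (j : ℕ) ≤ (i : ℕ) + r ∧ a = M i j}

theorem mem_uniLevel {n : ℕ} {M : Fin n → Fin n → A} (hM : IsUniMatrix k M) {i j : Fin n} {r : ℕ}
    (h : (j : ℕ) ≤ (i : ℕ) + r) : M i j ∈ uniLevel k A r :=
  Submodule.subset_span ⟨n, M, i, j, hM, h, rfl⟩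

theorem uniLevel_mono : Monotone (uniLevel k A) := fun r s hrs =>
  Submodule.span_le.mpr fun a ⟨n, M, i, j, hM, h, e⟩ => e ▸ mem_uniLevel hM (h.trans (by omega))

theorem uniLevel_zero : uniLevel k A 0 = Submodule.span k {(1 : A)} := by
  apply le_antisymm
  · refine Submodule.span_le.mpr fun a ⟨n, M, i, j, hM, h, e⟩ => ?_
    rw [e, hM.1 i j (by exact Fin.le_def.mpr (by omega))]
    split
    · exact Submodule.mem_span_singleton_self 1
    · exact Submodule.zero_mem _
  · refine Submodule.span_le.mpr fun a ha => ?_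
    obtain rfl : a = 1 := ha
    exact mem_uniLevel (M := fun _ _ : Fin 1 => (1 : A)) (i := 0) (j := 0)
      ⟨fun i j _ => by simp [Subsingleton.elim i j],
        fun i j => by simp [Bialgebra.comul_one, Algebra.TensorProduct.one_def]⟩ le_rfl

theorem map_comul_uniLevel (r : ℕ) :
    Submodule.map (CoalgebraStruct.comul (R := k) (A := A)) (uniLevel k A r) ≤
      ⨆ i ∈ Finset.range (r + 1), LinearMap.range (TensorProduct.mapIncl (uniLevel k A i) (uniLevel k A (r - i))) := by
  rw [uniLevel, Submodule.map_span, Submodule.span_le]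
  rintro _ ⟨a, ⟨n, M, i, j, hM, h, rfl⟩, rfl⟩
  rw [SetLike.mem_coe, hM.2]
  refine Submodule.sum_mem _ fun l _ => ?_
  by_cases hil : (l : ℕ) < (i : ℕ)
  · rw [hM.1 i l (Fin.le_def.mpr hil.le), if_neg (fun e => by subst e; omega), zero_tmul]
    exact Submodule.zero_mem _
  · by_cases hlj : (j : ℕ) < (l : ℕ)
    · rw [hM.1 l j (Fin.le_def.mpr hlj.le), if_neg (fun e => by subst e; omega), tmul_zero]
      exact Submodule.zero_mem _
    · refine Submodule.mem_iSup_of_mem ((l : ℕ) - i) (Submodule.mem_iSup_of_mem (Finset.mem_range.mpr (by omega)) ?_)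
      exact ⟨(⟨M i l, mem_uniLevel hM (by omega)⟩ : uniLevel k A ((l : ℕ) - i)) ⊗ₜ[k]
        (⟨M l j, mem_uniLevel hM (by omega)⟩ : uniLevel k A (r - ((l : ℕ) - i))), rfl⟩

section Coeff

variable {U : Type v} [AddCommGroup U] [Module k U] [HopfRep.Comod k A U] {n : ℕ} (b : Module.Basis (Fin n) k U)

/-- The matrix of a comodule in a basis. -/
noncomputable def coeffMatrix (i j : Fin n) : A :=
  TensorProduct.lid k A ((b.coord i).rTensor A (HopfRep.Comod.coact (k := k) (A := A) (b j)))

theorem coact_basis (j : Fin n) :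
    HopfRep.Comod.coact (k := k) (A := A) (b j) = ∑ i, b i ⊗ₜ[k] coeffMatrix b i j := by
  unfold coeffMatrix
  induction HopfRep.Comod.coact (k := k) (A := A) (b j) using TensorProduct.induction_on with
  | zero => simp
  | add p q hp hq => simp only [map_add, tmul_add, Finset.sum_add_distrib, ← hp, ← hq]
  | tmul x a =>
    simp only [LinearMap.rTensor_tmul, TensorProduct.lid_tmul, Module.Basis.coord_apply, ← TensorProduct.smul_tmul,
      ← TensorProduct.sum_tmul, b.sum_repr]

theorem comul_coeffMatrix (i j : Fin n) :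
    Coalgebra.comul (R := k) (coeffMatrix (A := A) b i j) = ∑ l, coeffMatrix b i l ⊗ₜ[k] coeffMatrix b l j := by
  have h := congrArg (fun z => TensorProduct.lid k (A ⊗[k] A) ((b.coord i).rTensor (A ⊗[k] A) z))
    (LinearMap.congr_fun (HopfRep.Comod.coassoc (k := k) (A := A) (V := U)) (b j))
  simp only [LinearMap.comp_apply, LinearEquiv.coe_coe] at h
  rw [coact_basis] at h
  simp only [map_sum, LinearMap.rTensor_tmul, LinearMap.lTensor_tmul, coact_basis, TensorProduct.sum_tmul,
    TensorProduct.assoc_tmul, TensorProduct.lid_tmul, Module.Basis.coord_apply, Module.Basis.repr_self,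
    Finsupp.single_apply, ite_smul, one_smul, zero_smul, Finset.sum_ite_eq', Finset.mem_univ, if_true] at h
  exact h.symm

theorem counit_smul_coeffMatrix (i : Fin n) :
    ∀ u : U, TensorProduct.lid k A ((b.coord i).rTensor A (HopfRep.Comod.coact (k := k) (A := A) u)) =
      ∑ j, b.repr u j • coeffMatrix b i j := fun u => by
  conv_lhs => rw [← b.sum_repr u]
  simp only [map_sum, map_smul, coeffMatrix]

end Coeff

/-- An adapted basis of a comodule over a unipotent monoid. -/
theorem exists_uniMatrix_basis (hU : HopfRep.IsUnipotent k A) (U : Type v) [AddCommGroup U] [Module k U]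
    [c : HopfRep.Comod k A U] [Module.Finite k U] :
    ∃ b : Module.Basis (Fin (Module.finrank k U)) k U, IsUniMatrix k (coeffMatrix b (A := A)) := by
  classical
  obtain ⟨F, -, h0, -, htop, hP⟩ := exists_tower (C := A)
    (fun W W' : Submodule k U => ∃ y, W' = W ⊔ Submodule.span k {y} ∧
      HopfRep.Comod.coact (k := k) (A := A) y - y ⊗ₜ[k] (1 : A) ∈ LinearMap.range (W.subtype.rTensor A))
    fun W hW hne => by
      letI := ComodSub.Comod.quot c W hW
      have hq : Hoch.IsComodHom A W.mkQ := ComodSub.isComodHom_mkQ c W hW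
      haveI : Nontrivial (U ⧸ W) := Submodule.Quotient.nontrivial_iff.mpr hne
      obtain ⟨y', hy', hy0⟩ := Submodule.exists_mem_ne_zero_of_ne_bot (hU (U ⧸ W) inferInstance inferInstance)
      obtain ⟨y, rfl⟩ := W.mkQ_surjective y'
      have hyW : y ∉ W := fun h => hy0 ((Submodule.Quotient.mk_eq_zero W).mpr h)
      have hmem : HopfRep.Comod.coact (k := k) (A := A) y - y ⊗ₜ[k] (1 : A) ∈
          LinearMap.range (W.subtype.rTensor A) := by
        refine (Module.Flat.rTensor_exact A (LinearMap.exact_subtype_mkQ W) _).mp ?_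
        rw [map_sub, LinearMap.rTensor_tmul, sub_eq_zero]
        exact (LinearMap.congr_fun hq y).symm.trans hy'
      refine ⟨W ⊔ Submodule.span k {y}, isSubcomod_iff_actF.mpr fun φ u hu => ?_,
        lt_of_le_of_ne le_sup_left fun h => hyW (h ▸ Submodule.mem_sup_right (Submodule.mem_span_singleton_self y)),
        y, rfl, hmem⟩
      obtain ⟨w, hw, x, hx, rfl⟩ := Submodule.mem_sup.mp hu
      obtain ⟨r, rfl⟩ := Submodule.mem_span_singleton.mp hx
      rw [map_add, map_smul]
      refine Submodule.add_mem _ (Submodule.mem_sup_left (subcomod_actF_mem hW φ hw)) (Submodule.smul_mem _ _ ?_)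
      obtain ⟨z, hz⟩ := hmem
      have h : actF φ y = slice φ (W.subtype.rTensor A z) + φ 1 • y := by
        rw [hz, map_sub, slice_tmul, sub_add_cancel]
        rfl
      rw [h]
      refine Submodule.add_mem _ (Submodule.mem_sup_left ?_)
        (Submodule.mem_sup_right (Submodule.smul_mem _ _ (Submodule.mem_span_singleton_self y)))
      rw [slice_rTensor]
      exact Submodule.coe_mem _
  let n := Module.finrank k U
  have hspan : ∀ i, i ≤ n → ∀ (_ : True), F i ≠ ⊤ ∨ i = n → Module.finrank k (F i) ≤ i := fun i => by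
    induction i with
    | zero => intro _ _ _; rw [h0, finrank_bot]
    | succ m ih =>
      intro hm _ hcase
      by_cases htm : F m = ⊤
      · rcases hcase with h | h
        · exact absurd ((hP m).2 htm) h
        · exact (Submodule.finrank_le _).trans h.ge
      · obtain ⟨y, hy, -⟩ := (hP m).1 htm
        rw [hy]
        refine (Submodule.finrank_add_le_finrank_add_finrank _ _).trans (Nat.add_le_add (ih (by omega) trivial (Or.inl htm)) ?_)
        exact (finrank_span_le_card _).trans (by simp)
  have hne : ∀ i, i < n → F i ≠ ⊤ := by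
    intro i hi h
    have hex : ∃ i, F i = ⊤ := ⟨i, h⟩
    have hle := Nat.find_min' hex h
    by_cases h00 : Nat.find hex = 0
    · have := Nat.find_spec hex
      rw [h00, h0] at this
      have h1 : Module.finrank k (⊥ : Submodule k U) = n := by rw [this, finrank_top]
      rw [finrank_bot] at h1
      omega
    · obtain ⟨m, hm⟩ := Nat.exists_eq_succ_of_ne_zero h00
      have htm : F m ≠ ⊤ := Nat.find_min hex (by omega)
      obtain ⟨y, hy, -⟩ := (hP m).1 htm
      have h1 : Module.finrank k (F (m + 1)) ≤ m + 1 := by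
        rw [hy]
        exact (Submodule.finrank_add_le_finrank_add_finrank _ _).trans
          (Nat.add_le_add (hspan m (by omega) trivial (Or.inl htm)) ((finrank_span_le_card _).trans (by simp)))
      rw [← Nat.succ_eq_add_one, ← hm, Nat.find_spec hex, finrank_top] at h1
      omega
  choose y hy using fun i : Fin n => (hP i).1 (hne i i.2)
  have hFle : ∀ m, m ≤ n → F m ≤ Submodule.span k (y '' {i : Fin n | (i : ℕ) < m}) := fun m => by
    induction m with
    | zero => intro _; rw [h0]; exact bot_le
    | succ m ih =>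
      intro hm
      have h := (hy ⟨m, hm⟩).1
      rw [h]
      refine sup_le ((ih (by omega)).trans (Submodule.span_mono (Set.image_mono fun i hi => Nat.lt_succ_of_lt hi))) ?_
      exact (Submodule.span_singleton_le_iff_mem _ _).mpr (Submodule.subset_span ⟨⟨m, hm⟩, Nat.lt_succ_self m, rfl⟩)
  have hspantop : ⊤ ≤ Submodule.span k (Set.range y) :=
    htop ▸ (hFle n le_rfl).trans (Submodule.span_mono (Set.image_subset_range _ _))
  let b : Module.Basis (Fin n) k U := basisOfTopLeSpanOfCardEqFinrank y hspantop (Fintype.card_fin n)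
  have hb : ∀ i, b i = y i := fun i => congrFun (coe_basisOfTopLeSpanOfCardEqFinrank _ _ _) i
  refine ⟨b, fun i j hji => ?_, fun i j => comul_coeffMatrix b i j⟩
  have hzero : ∀ u ∈ F j, b.repr u i = 0 := fun u hu => by
    have hu' : u ∈ Submodule.span k (y '' {l : Fin n | (l : ℕ) < j}) := hFle j j.2.le hu
    rw [show y '' {l : Fin n | (l : ℕ) < j} = b '' {l : Fin n | (l : ℕ) < j} from
      Set.image_congr fun l _ => (hb l).symm, b.mem_span_image] at hu'
    by_contra hcon
    have h1 : (i : ℕ) < (j : ℕ) := hu' (Finsupp.mem_support_iff.mpr hcon)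
    have := Fin.le_def.mp hji
    omega
  obtain ⟨z, hz⟩ := (hy j).2
  have h : coeffMatrix b i j = TensorProduct.lid k A ((b.coord i).rTensor A
      ((F j).subtype.rTensor A z + b j ⊗ₜ[k] (1 : A))) := by
    rw [hz, hb, sub_add_cancel, coeffMatrix, hb]
  rw [h, map_add, map_add, ← LinearMap.comp_apply, ← LinearMap.rTensor_comp,
    show b.coord i ∘ₗ (F j).subtype = 0 from LinearMap.ext fun u => hzero u u.2, LinearMap.rTensor_zero,
    LinearMap.zero_apply, map_zero, zero_add, LinearMap.rTensor_tmul, TensorProduct.lid_tmul,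
    Module.Basis.coord_apply, Module.Basis.repr_self, Finsupp.single_apply]
  by_cases hij : i = j
  · rw [if_pos hij.symm, if_pos hij, one_smul]
  · rw [if_neg (Ne.symm hij), if_neg hij, zero_smul]

theorem iSup_uniLevel_eq_top (hU : HopfRep.IsUnipotent k A) : (⨆ r, uniLevel k A r) = ⊤ := by
  refine eq_top_iff.mpr fun a _ => ?_
  obtain ⟨U, hUf, haU, hUs⟩ := exists_finite_subcomod_mem (k := k) (C := A) (V := A) a
  letI : HopfRep.Comod k A U := ComodSub.Comod.restr (HopfRep.Comod.regular k A) U hUs
  obtain ⟨b, hb⟩ := exists_uniMatrix_basis hU U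
  have hcoef : ∀ u : U, (u : A) = ∑ i, Coalgebra.counit (R := k) ((b i : U) : A) •
      TensorProduct.lid k A ((b.coord i).rTensor A (HopfRep.Comod.coact (k := k) (A := A) u)) := fun u => by
    have h := congrArg (TensorProduct.lid k A) (Coalgebra.rTensor_counit_comul (R := k) (u : A))
    rw [TensorProduct.lid_tmul, one_smul,
      show Coalgebra.comul (R := k) (u : A) = U.subtype.rTensor A (HopfRep.Comod.coact (k := k) (A := A) u) from
        (ComodSub.restr_coact_coe (HopfRep.Comod.regular k A) U hUs u).symm] at h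
    refine h.symm.trans ?_
    induction HopfRep.Comod.coact (k := k) (A := A) u using TensorProduct.induction_on with
    | zero => simp
    | add p q hp hq => simp only [map_add, smul_add, Finset.sum_add_distrib, hp, hq]
    | tmul x c =>
      simp only [LinearMap.rTensor_tmul, TensorProduct.lid_tmul, Module.Basis.coord_apply, smul_smul, ← Finset.sum_smul]
      congr 1
      conv_lhs => rw [← b.sum_repr x]
      simp only [map_sum, map_smul, Submodule.coe_sum, Submodule.coe_smul, smul_eq_mul, mul_comm]
      simp [Submodule.subtype_apply, mul_comm]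
  rw [show a = ((⟨a, haU⟩ : U) : A) from rfl, hcoef]
  refine Submodule.sum_mem _ fun i _ => Submodule.smul_mem _ _ ?_
  rw [counit_smul_coeffMatrix]
  exact Submodule.sum_mem _ fun j _ => Submodule.smul_mem _ _
    (Submodule.mem_iSup_of_mem (j : ℕ) (mem_uniLevel hb (by omega)))

/-- An exhaustive comultiplicative filtration starting with the constants forces unipotence. -/
theorem isUnipotent_of_filtration {C : ℕ → Submodule k A} (hmono : Monotone C)
    (h0 : C 0 = Submodule.span k {(1 : A)}) (htop : (⨆ r, C r) = ⊤)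
    (hcomul : ∀ r, Submodule.map (CoalgebraStruct.comul (R := k) (A := A)) (C r) ≤
      ⨆ i ∈ Finset.range (r + 1), LinearMap.range (TensorProduct.mapIncl (C i) (C (r - i)))) :
    HopfRep.IsUnipotent k A := by
  classical
  intro V _ _ _ _ _
  obtain ⟨v₀, hv₀⟩ := exists_ne (0 : V)
  have hex : ∃ r, ∃ v : V, v ≠ 0 ∧
      HopfRep.Comod.coact (k := k) (A := A) v ∈ LinearMap.range ((C r).subtype.lTensor V) := by
    have key : ∀ z : V ⊗[k] A, ∃ r, z ∈ LinearMap.range ((C r).subtype.lTensor V) := fun z => by
      induction z using TensorProduct.induction_on with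
      | zero => exact ⟨0, Submodule.zero_mem _⟩
      | tmul x a =>
        obtain ⟨r, hr⟩ := (Submodule.mem_iSup_of_directed _ hmono.directed_le).mp (htop ▸ Submodule.mem_top : a ∈ ⨆ r, C r)
        exact ⟨r, x ⊗ₜ[k] ⟨a, hr⟩, rfl⟩
      | add p q hp hq =>
        obtain ⟨r, p', rfl⟩ := hp
        obtain ⟨s, q', rfl⟩ := hq
        have incl : ∀ {a b : ℕ}, a ≤ b → ∀ z : V ⊗[k] C a,
            (C a).subtype.lTensor V z ∈ LinearMap.range ((C b).subtype.lTensor V) := fun {a b} hab z => by
          refine ⟨(Submodule.inclusion (hmono hab)).lTensor V z, ?_⟩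
          rw [← LinearMap.comp_apply, ← LinearMap.lTensor_comp]
          rfl
        exact ⟨max r s, Submodule.add_mem _ (incl (le_max_left _ _) p') (incl (le_max_right _ _) q')⟩
    obtain ⟨r, hr⟩ := key (HopfRep.Comod.coact (k := k) (A := A) v₀)
    exact ⟨r, v₀, hv₀, hr⟩
  obtain ⟨v, hv0, z, hz⟩ := Nat.find_spec hex
  refine (Submodule.ne_bot_iff _).mpr ⟨v, (fixedPts_actF v).mpr fun φ => ?_, hv0⟩
  suffices h : ∀ ψ : A →ₗ[k] k, ψ 1 = 0 → actF ψ v = 0 by
    have h' := h (φ - φ 1 • Coalgebra.counit) (by simp [Bialgebra.counit_one])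
    rw [sub_eq_add_neg, actF_add, show -(φ 1 • Coalgebra.counit (R := k) (A := A)) = (-(φ 1)) • Coalgebra.counit from
      (neg_smul _ _).symm, actF_smul, LinearMap.add_apply, LinearMap.smul_apply, actF_counit,
      neg_smul, ← sub_eq_add_neg] at h'
    exact sub_eq_zero.mp h'
  intro ψ hψ
  by_contra hne
  have hψ0 : ∀ a ∈ C 0, ψ a = 0 := fun a ha => by
    rw [h0, Submodule.mem_span_singleton] at ha
    obtain ⟨s, rfl⟩ := ha
    rw [map_smul, hψ, smul_zero]
  rcases Nat.eq_zero_or_pos (Nat.find hex) with hr0 | hrpos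
  · apply hne
    rw [actF_apply, ← hz]
    clear hz
    induction z using TensorProduct.induction_on with
    | zero => simp
    | tmul x a => simp [hψ0 _ (hr0 ▸ a.2 : (a : A) ∈ C 0)]
    | add p q hp hq => simp only [map_add, hp, hq, add_zero]
  · refine Nat.find_min hex (m := Nat.find hex - 1) (by omega) ⟨actF ψ v, hne, ?_⟩
    have hc := congrArg (TensorProduct.assoc k V A A).symm
      (LinearMap.congr_fun (HopfRep.Comod.coassoc (k := k) (A := A) (V := V)) v)
    simp only [LinearMap.comp_apply, LinearEquiv.coe_coe, LinearEquiv.symm_apply_apply] at hc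
    have e : HopfRep.Comod.coact (k := k) (A := A) (actF ψ v) =
        slice ψ ((HopfRep.Comod.coact (k := k) (A := A)).rTensor A (HopfRep.Comod.coact (k := k) (A := A) v)) := by
      rw [slice_rTensor]
      rfl
    rw [e, hc, ← hz]
    clear hz hc e
    induction z using TensorProduct.induction_on with
    | zero => simp
    | add p q hp hq => simpa only [map_add] using Submodule.add_mem _ hp hq
    | tmul x a =>
      rw [LinearMap.lTensor_tmul, LinearMap.lTensor_tmul]
      have hd := hcomul _ (Submodule.mem_map_of_mem a.2)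
      revert hd
      rw [Submodule.subtype_apply]
      generalize Coalgebra.comul (R := k) (a : A) = d
      intro hd
      let L : A ⊗[k] A →ₗ[k] V ⊗[k] A :=
        slice ψ ∘ₗ (TensorProduct.assoc k V A A).symm.toLinearMap ∘ₗ TensorProduct.mk k V (A ⊗[k] A) x
      suffices (⨆ i ∈ Finset.range (Nat.find hex + 1),
          LinearMap.range (TensorProduct.mapIncl (C i) (C (Nat.find hex - i)))) ≤
          Submodule.comap L (LinearMap.range ((C (Nat.find hex - 1)).subtype.lTensor V)) from this hd
      refine iSup₂_le fun i hi => ?_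
      rintro _ ⟨w, rfl⟩
      rw [Submodule.mem_comap]
      induction w using TensorProduct.induction_on with
      | zero => simp
      | add p q hp hq => simpa only [map_add] using Submodule.add_mem _ hp hq
      | tmul p q =>
        have hL : L (TensorProduct.mapIncl (C i) (C (Nat.find hex - i)) (p ⊗ₜ[k] q)) = ψ q • (x ⊗ₜ[k] (p : A)) := by
          simp [L]
        rw [hL]
        by_cases hi' : i ≤ Nat.find hex - 1
        · exact Submodule.smul_mem _ _ ⟨x ⊗ₜ[k] ⟨p, hmono hi' p.2⟩, rfl⟩
        · have hq0 : ψ q = 0 := hψ0 _ (by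
            have hi2 := Finset.mem_range.mp hi
            have : Nat.find hex - i = 0 := by omega
            exact this ▸ q.2)
          rw [hq0, zero_smul]
          exact Submodule.zero_mem _

end Groth.Agent.ComodLib
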