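import Groth.Prelude.Def_LieHopf
import Groth.Agent.ComodLib.StableLocus
import Groth.Agent.ComodLib.Unitriangular
import Mathlib.RingTheory.Ideal.Quotient.Operations
import Mathlib.RingTheory.Filtration

/-!
# Invariance under the Lie algebra, in characteristic zero

Functions killed by all invariant derivations are locally constant; on a unipotent group they are constant, the
coordinate ring is a domain, and a set of functions vanishing at the identity and stable under the invariant
derivations is zero.
-/

universe u

open TensorProduct WithConv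

namespace Groth.Agent.ComodLib

set_option linter.style.haveILetI false
set_option linter.unusedSectionVars false

attribute [local instance] RingHom.ker_isPrime

variable {k : Type u} [Field k] {A : Type u} [CommRing A] [HopfAlgebra k A]

/-- The invariant derivation of an `ε`-derivation. -/
noncomputable def lieOp (L : LieHopf.Lie k A) : A →ₗ[k] A := actF (LieHopf.dlin L)

theorem lieOp_mul (L : LieHopf.Lie k A) (a b : A) : lieOp L (a * b) = a * lieOp L b + b * lieOp L a := by
  have key : ∀ p q : A ⊗[k] A, slice (LieHopf.dlin L) (p * q) =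
      slice (Bialgebra.counitAlgHom k A).toLinearMap p * slice (LieHopf.dlin L) q +
      slice (Bialgebra.counitAlgHom k A).toLinearMap q * slice (LieHopf.dlin L) p := by
    intro p q
    induction p using TensorProduct.induction_on with
    | zero => simp
    | tmul x y =>
      induction q using TensorProduct.induction_on with
      | zero => simp
      | tmul x' y' =>
        simp only [Algebra.TensorProduct.tmul_mul_tmul, slice_tmul, LieHopf.dlin_mul, AlgHom.toLinearMap_apply,
          add_smul, smul_mul_smul_comm, mul_comm x' x]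
      | add q q' hq hq' => simp only [mul_add, add_mul, map_add, hq, hq']; abel
    | add p p' hp hp' => simp only [mul_add, add_mul, map_add, hp, hp']; abel
  have hc : ∀ x : A, slice (Bialgebra.counitAlgHom k A).toLinearMap (Coalgebra.comul (R := k) x) = x := fun x => by
    show TensorProduct.rid k A (LinearMap.lTensor A (Coalgebra.counit (R := k)) (Coalgebra.comul (R := k) x)) = x
    rw [Coalgebra.lTensor_counit_comul]
    simp
  show slice (LieHopf.dlin L) (Coalgebra.comul (R := k) (a * b)) = _
  rw [Bialgebra.comul_mul, key, hc, hc]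
  rfl

theorem lieOp_one (L : LieHopf.Lie k A) : lieOp L (1 : A) = 0 := by
  show slice (LieHopf.dlin L) (Coalgebra.comul (R := k) (1 : A)) = 0
  rw [Bialgebra.comul_one, Algebra.TensorProduct.one_def, slice_tmul, LieHopf.dlin_one, zero_smul]

theorem lieOp_algebraMap (L : LieHopf.Lie k A) (c : k) : lieOp L (algebraMap k A c) = 0 := by
  rw [Algebra.algebraMap_eq_smul_one, map_smul, lieOp_one, smul_zero]

theorem lieOp_coefFun {V : Type u} [AddCommGroup V] [Module k V] [HopfRep.Comod k A V]
    (L : LieHopf.Lie k A) (f : V →ₗ[k] k) (v : V) :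
    lieOp L (coefFun (C := A) f v) = coefFun (C := A) f (actF (LieHopf.dlin L) v) :=
  (comodHom_actF (isComodHom_coefFun f) _ v).symm

theorem translatePt_eq_coefFun (g : A →ₐ[k] k) (a : A) :
    translatePt g a = coefFun (V := A) (C := A) g.toLinearMap a := by
  rw [coefFun_apply]
  show Algebra.TensorProduct.lid k A (Algebra.TensorProduct.map g (AlgHom.id k A) (Coalgebra.comul (R := k) a)) =
    TensorProduct.lid k A (g.toLinearMap.rTensor A (Coalgebra.comul (R := k) a))
  induction Coalgebra.comul (R := k) a using TensorProduct.induction_on with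
  | zero => simp
  | tmul p q => simp
  | add p q hp hq => simp only [map_add, hp, hq]

theorem lieOp_translatePt (L : LieHopf.Lie k A) (g : A →ₐ[k] k) (a : A) :
    lieOp L (translatePt g a) = translatePt g (lieOp L a) := by
  rw [translatePt_eq_coefFun, lieOp_coefFun, translatePt_eq_coefFun]
  rfl

theorem ext_of_forall_rTensor_eq {V W : Type u} [AddCommGroup V] [Module k V] [AddCommGroup W] [Module k W]
    {x y : V ⊗[k] W} (h : ∀ π : V →ₗ[k] k, TensorProduct.lid k W (π.rTensor W x) = TensorProduct.lid k W (π.rTensor W y)) :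
    x = y := by
  classical
  let b := Module.Free.chooseBasis k V
  apply (TensorProduct.equivFinsuppOfBasisLeft b).injective
  ext i
  rw [TensorProduct.equivFinsuppOfBasisLeft_apply, TensorProduct.equivFinsuppOfBasisLeft_apply]
  exact h _

variable (k A) in
/-- The augmentation ideal. -/
noncomputable abbrev aug : Ideal A := RingHom.ker (Bialgebra.counitAlgHom k A)

theorem sub_counit_mem (a : A) : a - algebraMap k A (Bialgebra.counitAlgHom k A a) ∈ aug k A := by
  rw [RingHom.mem_ker, map_sub, AlgHom.commutes, Algebra.algebraMap_self_apply, sub_self]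

/-- `ε`-derivations form a full dual system of the cotangent space. -/
theorem exists_dual_system [Algebra.FiniteType k A] :
    ∃ (n : ℕ) (x : Fin n → A) (L : Fin n → LieHopf.Lie k A), (∀ i, x i ∈ aug k A) ∧
      ∀ y ∈ aug k A, y - ∑ i, LieHopf.dlin (L i) y • x i ∈ aug k A ^ 2 := by
  classical
  let ε := Bialgebra.counitAlgHom k A
  let W : Submodule k A := Submodule.span k {1} ⊔ (aug k A ^ 2).restrictScalars k
  have hmk : ∀ a b : A, W.mkQ (a * b) = ε a • W.mkQ b + ε b • W.mkQ a := by
    intro a b
    rw [← map_smul, ← map_smul, ← map_add, ← sub_eq_zero, ← map_sub]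
    refine (Submodule.Quotient.mk_eq_zero W).mpr ?_
    have h1 : (a - algebraMap k A (ε a)) * (b - algebraMap k A (ε b)) ∈ aug k A ^ 2 := by
      rw [pow_two]; exact Ideal.mul_mem_mul (sub_counit_mem a) (sub_counit_mem b)
    rw [show a * b - (ε a • b + ε b • a) =
      (-(ε a * ε b)) • (1 : A) + (a - algebraMap k A (ε a)) * (b - algebraMap k A (ε b)) by
        simp only [Algebra.smul_def, map_neg, map_mul]; ring]
    exact add_mem (Submodule.mem_sup_left (Submodule.smul_mem _ _ (Submodule.mem_span_singleton_self 1)))
      (Submodule.mem_sup_right h1)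
  have h1 : W.mkQ 1 = 0 :=
    (Submodule.Quotient.mk_eq_zero W).mpr (Submodule.mem_sup_left (Submodule.mem_span_singleton_self 1))
  have hfin : Module.Finite k (A ⧸ W) := by
    obtain ⟨s, hs⟩ := Algebra.FiniteType.out (R := k) (A := A)
    refine ⟨⟨s.image W.mkQ, eq_top_iff.mpr fun q _ => ?_⟩⟩
    obtain ⟨a, rfl⟩ := W.mkQ_surjective q
    have ha : a ∈ Algebra.adjoin k (↑s : Set A) := hs ▸ trivial
    induction ha using Algebra.adjoin_induction with
    | mem x hx => exact Submodule.subset_span (Finset.mem_image_of_mem _ hx)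
    | algebraMap r => rw [Algebra.algebraMap_eq_smul_one, map_smul, h1, smul_zero]; exact Submodule.zero_mem _
    | add x y _ _ hx hy => rw [map_add]; exact Submodule.add_mem _ (hx trivial) (hy trivial)
    | mul x y _ _ hx hy =>
      rw [hmk]
      exact Submodule.add_mem _ (Submodule.smul_mem _ _ (hy trivial)) (Submodule.smul_mem _ _ (hx trivial))
  let b := Module.finBasis k (A ⧸ W)
  choose x hx using fun i => W.mkQ_surjective (b i)
  refine ⟨_, fun i => x i - algebraMap k A (ε (x i)), fun i => Derivation.mk'
    { toFun := fun a => (b.coord i (W.mkQ a) : k)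
      map_add' := fun a a' => by show b.coord i (W.mkQ (a + a')) = _; rw [map_add, map_add]; rfl
      map_smul' := fun c a => by show b.coord i (W.mkQ (c • a)) = _; rw [map_smul, map_smul]; rfl }
    (fun a a' => by
      show b.coord i (W.mkQ (a * a')) = _
      rw [hmk, map_add, map_smul, map_smul]
      rfl), fun i => sub_counit_mem _, fun y hy => ?_⟩
  have hxe : ∀ i, W.mkQ (x i - algebraMap k A (ε (x i))) = b i := fun i => by
    rw [map_sub, Algebra.algebraMap_eq_smul_one, map_smul, h1, smul_zero, sub_zero, hx]
  set z := y - ∑ i, (b.coord i (W.mkQ y)) • (x i - algebraMap k A (ε (x i))) with hz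
  show z ∈ aug k A ^ 2
  have hzW : z ∈ W := by
    rw [← Submodule.Quotient.mk_eq_zero]
    show W.mkQ z = 0
    rw [hz, map_sub, map_sum]
    simp only [map_smul, hxe, Module.Basis.coord_apply, b.sum_repr, sub_self]
  obtain ⟨c, hc, w, hw, hcw⟩ := Submodule.mem_sup.mp hzW
  obtain ⟨r, rfl⟩ := Submodule.mem_span_singleton.mp hc
  have hz0 : ε z = 0 := by
    rw [hz, map_sub, map_sum, show ε y = 0 from hy]
    simp [map_smul, map_sub, ε]
  have hw0 : ε w = 0 := Ideal.pow_le_self (n := 2) two_ne_zero hw
  rw [← hcw, map_add, map_smul, map_one, hw0, add_zero, smul_eq_mul, mul_one] at hz0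
  rw [← hcw, hz0, zero_smul, zero_add]
  exact hw

variable [Algebra.FiniteType k A] [CharZero k]

/-- A set of functions vanishing at the identity and stable under invariant derivations vanishes to infinite order. -/
theorem mem_iInf_pow_of_stable (S : Set A) (hS : ∀ a ∈ S, a ∈ aug k A)
    (hst : ∀ (L : LieHopf.Lie k A), ∀ a ∈ S, lieOp L a ∈ S) (n : ℕ) {a : A} (ha : a ∈ S) : a ∈ aug k A ^ n := by
  obtain ⟨N, x, L, hx, hy⟩ := exists_dual_system (k := k) (A := A)
  let E : A →ₗ[k] A := ∑ i, LinearMap.mulLeft k (x i) ∘ₗ lieOp (L i)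
  have hE : ∀ a, E a = ∑ i, x i * lieOp (L i) a := fun a => by simp [E]
  have hEmul : ∀ u v, E (u * v) = u * E v + v * E u := fun u v => by
    simp only [hE, lieOp_mul, Finset.mul_sum, ← Finset.sum_add_distrib]
    exact Finset.sum_congr rfl fun i _ => by ring
  have hEm : ∀ v ∈ aug k A, E v - v ∈ aug k A ^ 2 := by
    intro v hv
    have h1 : E v - ∑ i, LieHopf.dlin (L i) v • x i ∈ aug k A ^ 2 := by
      rw [hE, ← Finset.sum_sub_distrib, pow_two]
      refine Ideal.sum_mem _ fun i _ => ?_
      rw [Algebra.smul_def, mul_comm _ (x i), ← mul_sub]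
      refine Ideal.mul_mem_mul (hx i) ?_
      have he : Bialgebra.counitAlgHom k A (lieOp (L i) v) = LieHopf.dlin (L i) v := by
        have : ∀ y : A ⊗[k] A, Bialgebra.counitAlgHom k A (slice (LieHopf.dlin (L i)) y) =
            LieHopf.dlin (L i) (TensorProduct.lid k A ((Coalgebra.counit (R := k)).rTensor A y)) := fun y => by
          induction y using TensorProduct.induction_on with
          | zero => simp
          | tmul p q => simp [mul_comm]
          | add p q hp hq => simp only [map_add, hp, hq]
        refine (this _).trans ?_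
        rw [show HopfRep.Comod.coact (k := k) (A := A) v = Coalgebra.comul (R := k) v from rfl,
          Coalgebra.rTensor_counit_comul]
        simp
      rw [← he]
      exact sub_counit_mem _
    have := Ideal.sub_mem _ h1 (hy v hv)
    rwa [show E v - ∑ i, LieHopf.dlin (L i) v • x i - (v - ∑ i, LieHopf.dlin (L i) v • x i) = E v - v by abel] at this
  have hEn : ∀ m : ℕ, ∀ u ∈ aug k A ^ m, E u - (m : A) * u ∈ aug k A ^ (m + 1) := by
    intro m
    induction m with
    | zero =>
      intro u _
      rw [Nat.cast_zero, zero_mul, sub_zero, pow_one, hE]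
      exact Ideal.sum_mem _ fun i _ => Ideal.mul_mem_right _ _ (hx i)
    | succ m ih =>
      intro u hu
      rw [pow_succ] at hu
      induction hu using Submodule.mul_induction_on' with
      | mem_mul_mem p hp q hq =>
        rw [hEmul, show p * E q + q * E p - ((m + 1 : ℕ) : A) * (p * q) =
          p * (E q - q) + q * (E p - (m : A) * p) by push_cast; ring]
        refine Ideal.add_mem _ ?_ ?_
        · rw [show m + 1 + 1 = m + 2 by omega, pow_add]
          exact Ideal.mul_mem_mul hp (hEm q hq)
        · rw [pow_succ' (n := m + 1)]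
          exact Ideal.mul_mem_mul hq (ih p hp)
      | add p _ q _ hp hq =>
        rw [map_add, mul_add, add_sub_add_comm]
        exact Ideal.add_mem _ hp hq
  have main : ∀ m, ∀ a ∈ S, a ∈ aug k A ^ (m + 1) := by
    intro m
    induction m with
    | zero => intro a ha; rw [pow_one]; exact hS a ha
    | succ m ih =>
      intro a ha
      have h1 : E a ∈ aug k A ^ (m + 1 + 1) := by
        rw [hE, pow_succ' (n := m + 1)]
        exact Ideal.sum_mem _ fun i _ => Ideal.mul_mem_mul (hx i) (ih _ (hst (L i) a ha))
      have h2 := Ideal.sub_mem _ h1 (hEn (m + 1) a (ih a ha))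
      rw [sub_sub_cancel] at h2
      have hu : IsUnit ((m + 1 : ℕ) : A) := by
        rw [← map_natCast (algebraMap k A)]
        exact (IsUnit.mk0 _ (by exact_mod_cast Nat.succ_ne_zero m)).map _
      exact (Ideal.unit_mul_mem_iff_mem _ hu).mp h2
  cases n with
  | zero => simp
  | succ m => exact main m a ha

variable [IsAlgClosed k]

/-- The functions killed by all invariant derivations vanish to infinite order away from their value at each point. -/
theorem sub_mem_pow_of_killed {a : A} (ha : ∀ L : LieHopf.Lie k A, lieOp L a = 0) (g : A →ₐ[k] k) (n : ℕ) :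
    a - algebraMap k A (g a) ∈ RingHom.ker g ^ n := by
  let b := translatePt g a
  have hεb : Bialgebra.counitAlgHom k A b = g a := by
    have : (Bialgebra.counitAlgHom k A).comp (translatePt g) = g := by
      have h := convMul_ofConv (toConv g) (1 : WithConv (A →ₐ[k] k))
      rw [mul_one] at h
      exact h.symm
    exact AlgHom.congr_fun this a
  have hb : b - algebraMap k A (g a) ∈ aug k A ^ n := by
    refine mem_iInf_pow_of_stable ({b - algebraMap k A (g a), 0} : Set A) ?_ ?_ n (Set.mem_insert _ _)
    · rintro _ (rfl | rfl)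
      · rw [← hεb]; exact sub_counit_mem b
      · exact zero_mem _
    · rintro L _ (rfl | rfl)
      · refine Or.inr ?_
        show lieOp L (b - algebraMap k A (g a)) = 0
        rw [map_sub, lieOp_algebraMap, sub_zero, lieOp_translatePt, ha, map_zero]
      · exact Or.inr (map_zero _)
  let σ := translatePt (toConv g)⁻¹.ofConv
  have hσ : σ b = a := by
    show ((translatePt (toConv g)⁻¹.ofConv).comp (translatePt g)) a = a
    rw [translatePt_comp]
    rw [show (toConv g * toConv ((toConv g)⁻¹.ofConv)).ofConv = Bialgebra.counitAlgHom k A by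
      rw [show toConv ((toConv g)⁻¹.ofConv) = (toConv g)⁻¹ from rfl, mul_inv_cancel]; rfl, translatePt_counit]
    rfl
  have hmap : Ideal.map σ (aug k A) ≤ RingHom.ker g := by
    refine Ideal.map_le_iff_le_comap.mpr fun u hu => ?_
    show g (σ u) = 0
    have h : g.comp σ = Bialgebra.counitAlgHom k A := by
      have h := convMul_ofConv (toConv g)⁻¹ (toConv g)
      rw [inv_mul_cancel] at h
      exact h.symm
    exact (AlgHom.congr_fun h u).trans hu
  have := Ideal.mem_map_of_mem σ hb
  rw [map_sub, hσ, AlgHom.commutes, Ideal.map_pow] at this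
  exact Ideal.pow_right_mono hmap n this

/-- A function killed by the invariant derivations takes finitely many values. -/
theorem finite_values_of_killed {a : A} (ha : ∀ L : LieHopf.Lie k A, lieOp L a = 0) :
    (Set.range fun g : A →ₐ[k] k => g a).Finite := by
  haveI : IsNoetherianRing A := Algebra.FiniteType.isNoetherianRing k A
  have key : ∀ g : A →ₐ[k] k, ∀ P ∈ minimalPrimes A, P ≤ RingHom.ker g → a - algebraMap k A (g a) ∈ P := by
    intro g P hP hle
    haveI : P.IsPrime := hP.1.1
    rw [← Ideal.Quotient.eq_zero_iff_mem]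
    have hne : Ideal.map (Ideal.Quotient.mk P) (RingHom.ker g) ≠ ⊤ := by
      intro h
      have := congrArg (Ideal.comap (Ideal.Quotient.mk P)) h
      rw [Ideal.comap_map_of_surjective _ Ideal.Quotient.mk_surjective, Ideal.comap_top,
        ← RingHom.ker_eq_comap_bot, Ideal.mk_ker, sup_eq_left.mpr hle] at this
      exact RingHom.ker_ne_top _ this
    have hbot := Ideal.iInf_pow_eq_bot_of_isDomain _ hne
    rw [← Ideal.mem_bot, ← hbot, Submodule.mem_iInf]
    intro n
    rw [← Ideal.map_pow]
    exact Ideal.mem_map_of_mem _ (sub_mem_pow_of_killed ha g n)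
  choose P hP hPle using fun g : A →ₐ[k] k => Ideal.exists_minimalPrimes_le (I := ⊥) (J := RingHom.ker g) bot_le
  have hfin : (Set.range P).Finite :=
    (minimalPrimes.finite_of_isNoetherianRing A).subset (Set.range_subset_iff.mpr hP)
  haveI := hfin.to_subtype
  choose sel hsel using fun Q : Set.range P => Q.2
  refine (Set.finite_range fun Q : Set.range P => sel Q a).subset ?_
  rintro _ ⟨g, rfl⟩
  refine ⟨⟨P g, g, rfl⟩, ?_⟩
  show sel _ a = g a
  set g' := sel ⟨P g, g, rfl⟩
  have he : P g' = P g := hsel ⟨P g, g, rfl⟩
  have h1 := key g (P g) (hP g) (hPle g)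
  have h2 := key g' (P g) (hP g) (he ▸ hPle g')
  have h3 := hPle g ((Ideal.sub_mem _ h1 h2))
  rw [RingHom.mem_ker, map_sub, map_sub, map_sub, AlgHom.commutes, AlgHom.commutes] at h3
  simp only [Algebra.algebraMap_self_apply] at h3
  linear_combination h3

variable [_root_.IsReduced A]

/-- On a unipotent group a function killed by all invariant derivations is constant. -/
theorem eq_algebraMap_of_killed (hU : HopfRep.IsUnipotent k A) {a : A} (ha : ∀ L : LieHopf.Lie k A, lieOp L a = 0) :
    a = algebraMap k A (Bialgebra.counitAlgHom k A a) := by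
  have main : ∀ r : ℕ, ∀ a ∈ uniLevel k A r, (∀ L : LieHopf.Lie k A, lieOp L a = 0) →
      a = algebraMap k A (Bialgebra.counitAlgHom k A a) := by
    intro r
    induction r with
    | zero =>
      intro a ha _
      rw [uniLevel_zero, Submodule.mem_span_singleton] at ha
      obtain ⟨c, rfl⟩ := ha
      simp [Algebra.algebraMap_eq_smul_one]
    | succ r ih =>
      intro a har ha
      have hb : ∀ ψ : A →ₗ[k] k, coefFun (C := A) ψ a - ψ 1 • a ∈ uniLevel k A r := by
        intro ψ
        have hle : uniLevel k A (r + 1) ≤ (uniLevel k A r).comap (coefFun (C := A) ψ - ψ 1 • LinearMap.id) := by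
          conv_lhs => rw [uniLevel]
          refine Submodule.span_le.mpr ?_
          rintro _ ⟨n, M, i, j, hM, h, rfl⟩
          rw [SetLike.mem_coe, Submodule.mem_comap, LinearMap.sub_apply, LinearMap.smul_apply, LinearMap.id_apply,
            coefFun_apply]
          rw [show HopfRep.Comod.coact (k := k) (A := A) (M i j) = Coalgebra.comul (R := k) (M i j) from rfl, hM.2]
          simp only [map_sum, LinearMap.rTensor_tmul, TensorProduct.lid_tmul]
          rw [← Finset.add_sum_erase _ _ (Finset.mem_univ i), hM.1 i i le_rfl, if_pos rfl, add_sub_cancel_left]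
          refine Submodule.sum_mem _ fun l hl => ?_
          have hli : l ≠ i := Finset.ne_of_mem_erase hl
          rcases le_or_gt l i with hl' | hl'
          · rw [hM.1 i l hl', if_neg hli.symm, map_zero, zero_smul]
            exact Submodule.zero_mem _
          · exact Submodule.smul_mem _ _ (mem_uniLevel hM (by have := Fin.lt_def.mp hl'; omega))
        exact hle har
      have hb' : ∀ ψ : A →ₗ[k] k, coefFun (C := A) ψ a - ψ 1 • a =
          (ψ a - ψ 1 * Bialgebra.counitAlgHom k A a) • (1 : A) := by
        intro ψ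
        rw [ih _ (hb ψ) fun L => by
          have h0 : actF (LieHopf.dlin L) a = 0 := ha L
          rw [map_sub, map_smul, lieOp_coefFun, h0, ha L, map_zero, smul_zero, sub_zero],
          Algebra.algebraMap_eq_smul_one, map_sub, map_smul]
        congr 2
        exact counit_coefFun ψ a
      set c := Bialgebra.counitAlgHom k A a with hc
      set p := a - algebraMap k A c with hp
      have hΔ : Coalgebra.comul (R := k) a = (1 : A) ⊗ₜ[k] a + a ⊗ₜ[k] (1 : A) - c • ((1 : A) ⊗ₜ[k] (1 : A)) := by
        refine ext_of_forall_rTensor_eq fun ψ => ?_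
        have h := hb' ψ
        rw [coefFun_apply, sub_eq_iff_eq_add] at h
        refine h.trans ?_
        simp only [map_sub, map_add, map_smul, LinearMap.rTensor_tmul, TensorProduct.lid_tmul, sub_smul, mul_comm (ψ 1) c,
          smul_smul]
        abel
      have hadd : ∀ g h : WithConv (A →ₐ[k] k), (g * h).ofConv p = g.ofConv p + h.ofConv p := by
        intro g h
        show Algebra.TensorProduct.lmul' k (Algebra.TensorProduct.map g.ofConv h.ofConv
          (Coalgebra.comul (R := k) p)) = _
        rw [hp, map_sub, Bialgebra.comul_algebraMap, hΔ, Algebra.TensorProduct.algebraMap_apply]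
        simp [Algebra.algebraMap_eq_smul_one]
        ring
      have hkill : ∀ L : LieHopf.Lie k A, lieOp L p = 0 := fun L => by
        rw [hp, map_sub, ha, lieOp_algebraMap, sub_zero]
      have hzero : ∀ g : A →ₐ[k] k, g p = 0 := by
        intro g
        by_contra hne
        refine Set.infinite_range_of_injective (f := fun m : ℕ => ((toConv g) ^ (m + 1)).ofConv p) ?_
          ((finite_values_of_killed hkill).subset (Set.range_subset_iff.mpr fun m => ⟨_, rfl⟩))
        have hval : ∀ m : ℕ, ((toConv g) ^ (m + 1)).ofConv p = (m + 1 : k) * g p := by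
          intro m
          induction m with
          | zero => simp
          | succ m ihm => rw [pow_succ, hadd, ihm]; push_cast; ring
        intro m m' hmm
        simp only [hval] at hmm
        exact_mod_cast add_right_cancel (mul_right_cancel₀ hne hmm)
      by_contra hne
      obtain ⟨g, hg⟩ := exists_point_ne_zero (k := k) (a := p) (fun hn => hne (sub_eq_zero.mp hn.eq_zero))
      exact hg (hzero g)
  have hmem : a ∈ ⨆ r, uniLevel k A r := (iSup_uniLevel_eq_top hU) ▸ trivial
  obtain ⟨r, hr⟩ := (Submodule.mem_iSup_of_directed _ uniLevel_mono.directed_le).mp hmem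
  exact main r a hr ha

/-- A unipotent group in characteristic zero is connected and integral. -/
theorem isDomain_of_isUnipotent (hU : HopfRep.IsUnipotent k A) : IsDomain A := by
  classical
  haveI : IsNoetherianRing A := Algebra.FiniteType.isNoetherianRing k A
  haveI : Nontrivial A := (Bialgebra.counitAlgHom k A).toRingHom.domain_nontrivial
  have hfinm := minimalPrimes.finite_of_isNoetherianRing A
  have huniq : ∀ (h : A →ₐ[k] k) (P₁ P₂ : Ideal A), P₁ ∈ minimalPrimes A → P₂ ∈ minimalPrimes A →
      P₁ ≤ RingHom.ker h → P₂ ≤ RingHom.ker h → P₁ = P₂ := by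
    intro h P₁ P₂ h₁ h₂ l₁ l₂
    haveI : P₁.IsPrime := h₁.1.1
    let T := hfinm.toFinset.erase P₁
    obtain ⟨s, hsT, hs⟩ : ∃ s, (∀ Q ∈ T, s ∈ Q) ∧ s ∉ P₁ := by
      by_contra hcon
      simp only [not_exists, not_and, not_not] at hcon
      have hle : T.inf id ≤ P₁ := fun s hs => hcon s fun Q hQ => (Submodule.mem_finsetInf.mp hs) Q hQ
      obtain ⟨Q, hQ, hQP⟩ := (Ideal.IsPrime.inf_le' inferInstance).mp hle
      have hQm : Q ∈ minimalPrimes A := hfinm.mem_toFinset.mp (Finset.mem_of_mem_erase hQ)
      exact Finset.ne_of_mem_erase hQ (le_antisymm hQP (h₁.2 ⟨hQm.1.1, bot_le⟩ hQP))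
    obtain ⟨w, hw⟩ := exists_point_ne_zero (k := k) (a := Ideal.Quotient.mk P₁ s)
      (fun hn => hs (Ideal.Quotient.eq_zero_iff_mem.mp hn.eq_zero))
    let h0 : A →ₐ[k] k := w.comp (Ideal.Quotient.mkₐ k P₁)
    have hone : ∀ Q ∈ minimalPrimes A, Q ≤ RingHom.ker h0 → Q = P₁ := fun Q hQ hl => by
      by_contra hne
      exact hw (hl (hsT Q (Finset.mem_erase.mpr ⟨hne, hfinm.mem_toFinset.mpr hQ⟩)))
    let g : WithConv (A →ₐ[k] k) := toConv h0 * (toConv h)⁻¹
    let τ := translatePt g.ofConv
    let τ' := translatePt g⁻¹.ofConv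
    have hττ : τ.comp τ' = AlgHom.id k A := by
      show (translatePt g.ofConv).comp (translatePt g⁻¹.ofConv) = _
      rw [translatePt_comp, show toConv (g⁻¹.ofConv) * toConv g.ofConv = 1 from inv_mul_cancel g]
      exact translatePt_counit
    have hττ' : τ'.comp τ = AlgHom.id k A := by
      show (translatePt g⁻¹.ofConv).comp (translatePt g.ofConv) = _
      rw [translatePt_comp, show toConv g.ofConv * toConv g⁻¹.ofConv = 1 from mul_inv_cancel g]
      exact translatePt_counit
    have hh : h.comp τ = h0 := by
      have := convMul_ofConv g (toConv h)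
      rw [show g * toConv h = toConv h0 from inv_mul_cancel_right _ _] at this
      exact this.symm
    have hmin : ∀ Q ∈ minimalPrimes A, Ideal.comap τ Q ∈ minimalPrimes A := by
      intro Q hQ
      haveI : Q.IsPrime := hQ.1.1
      refine ⟨⟨inferInstance, bot_le⟩, fun Q' hQ' hle x hx => ?_⟩
      haveI : Q'.IsPrime := hQ'.1
      have hle' : Q'.comap τ' ≤ Q := fun z hz => by
        have hz' : τ (τ' z) ∈ Q := hle hz
        rwa [show τ (τ' z) = z from AlgHom.congr_fun hττ z] at hz'
      have := (hQ.2 ⟨Ideal.IsPrime.comap τ', bot_le⟩ hle') hx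
      rw [Ideal.mem_comap, show τ' (τ x) = x from AlgHom.congr_fun hττ' x] at this
      exact this
    have hpull : ∀ Q ∈ minimalPrimes A, Q ≤ RingHom.ker h → Ideal.comap τ Q = P₁ := fun Q hQ hl =>
      hone _ (hmin Q hQ) fun x hx => by
        have hx' : h (τ x) = 0 := hl hx
        rw [RingHom.mem_ker, ← hh]
        exact hx'
    have e := (hpull P₁ h₁ l₁).trans (hpull P₂ h₂ l₂).symm
    ext z
    have := SetLike.ext_iff.mp e (τ' z)
    simpa only [Ideal.mem_comap, show τ (τ' z) = z from AlgHom.congr_fun hττ z] using this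
  haveI : Finite {P : Ideal A // P ∈ minimalPrimes A} := hfinm.to_subtype
  have hsub : ∀ P Q : Ideal A, P ∈ minimalPrimes A → Q ∈ minimalPrimes A → P = Q := by
    intro P Q hP hQ
    by_contra hne
    let f : {P : Ideal A // P ∈ minimalPrimes A} → Ideal A := fun P => P.1
    have hco : Pairwise (Function.onFun IsCoprime f) := by
      intro P Q hPQ
      rw [Function.onFun, Ideal.isCoprime_iff_sup_eq]
      by_contra htop
      obtain ⟨w, hw⟩ := exists_point (k := k) _ htop
      exact hPQ (Subtype.ext (huniq w _ _ P.2 Q.2 (le_sup_left.trans hw) (le_sup_right.trans hw)))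
    obtain ⟨e, he⟩ := Ideal.exists_forall_sub_mem_ideal hco
      (fun R => if R.1 = P then (1 : A) else 0)
    have hidem : e * e - e = 0 := by
      refine (Submodule.mem_bot (R := A)).mp ?_
      rw [show (⊥ : Ideal A) = nilradical A from (nilradical_eq_zero A).symm, nilradical_eq_sInf, Ideal.mem_sInf]
      intro R hR
      haveI : Ideal.IsPrime R := hR
      obtain ⟨R', hR', hle⟩ := Ideal.exists_minimalPrimes_le (I := ⊥) (J := R) bot_le
      apply hle
      have := he ⟨R', hR'⟩
      split_ifs at this with hq
      · rw [show e * e - e = e * (e - 1) by ring]; exact Ideal.mul_mem_left _ _ this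
      · rw [sub_zero] at this
        rw [show e * e - e = (e - 1) * e by ring]
        exact Ideal.mul_mem_left _ _ this
    have hkill : ∀ L : LieHopf.Lie k A, lieOp L e = 0 := by
      intro L
      have h1 := congrArg (lieOp L) (sub_eq_zero.mp hidem)
      rw [lieOp_mul] at h1
      have h2 : (2 * e - 1) * (2 * e - 1) = 1 := by linear_combination 4 * hidem
      linear_combination (lieOp L e) * (- h2) + (2 * e - 1) * h1
    have hc := eq_algebraMap_of_killed hU hkill
    have hQe := he ⟨Q, hQ⟩
    rw [if_neg (Ne.symm hne), sub_zero, hc] at hQe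
    have hPe := he ⟨P, hP⟩
    rw [if_pos rfl, hc] at hPe
    by_cases hε : Bialgebra.counitAlgHom k A e = 0
    · rw [hε, map_zero, zero_sub] at hPe
      haveI : P.IsPrime := hP.1.1
      exact (Ideal.IsPrime.ne_top inferInstance) ((Ideal.eq_top_iff_one P).mpr (neg_mem_iff.mp hPe))
    · haveI : Q.IsPrime := hQ.1.1
      exact (Ideal.IsPrime.ne_top inferInstance)
        (Ideal.eq_top_of_isUnit_mem _ hQe ((IsUnit.mk0 _ hε).map _))
  obtain ⟨P, hP, -⟩ := Ideal.exists_minimalPrimes_le (I := ⊥) (J := aug k A) bot_le
  have hbot : P = ⊥ := by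
    rw [eq_bot_iff, show (⊥ : Ideal A) = nilradical A from (nilradical_eq_zero A).symm, nilradical_eq_sInf]
    refine le_sInf fun R hR => ?_
    haveI : Ideal.IsPrime R := hR
    obtain ⟨R', hR', hle⟩ := Ideal.exists_minimalPrimes_le (I := ⊥) (J := R) bot_le
    rw [hsub P R' hP hR']
    exact hle
  haveI : NoZeroDivisors A := ⟨fun {x y} hxy => by
    have h0 : x * y ∈ P := by rw [hxy]; exact zero_mem _
    rcases hP.1.1.mem_or_mem h0 with h | h
    · rw [hbot] at h; exact Or.inl ((Submodule.mem_bot A).mp h)
    · rw [hbot] at h; exact Or.inr ((Submodule.mem_bot A).mp h)⟩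
  exact NoZeroDivisors.to_isDomain A

theorem eq_zero_of_stable (hU : HopfRep.IsUnipotent k A) (S : Set A) (hS : ∀ a ∈ S, a ∈ aug k A)
    (hst : ∀ (L : LieHopf.Lie k A), ∀ a ∈ S, lieOp L a ∈ S) {a : A} (ha : a ∈ S) : a = 0 := by
  haveI : IsDomain A := isDomain_of_isUnipotent hU
  haveI : IsNoetherianRing A := Algebra.FiniteType.isNoetherianRing k A
  rw [← Ideal.mem_bot, ← Ideal.iInf_pow_eq_bot_of_isDomain (aug k A) (RingHom.ker_ne_top _), Submodule.mem_iInf]
  exact fun n => mem_iInf_pow_of_stable S hS hst n ha

end Groth.Agent.ComodLib
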