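import Groth.Agent.ComodLib.Integral
import Groth.Prelude.Def_CoactBr2
import Mathlib.RingTheory.Flat.Equalizer
import Mathlib.LinearAlgebra.Basis.VectorSpace

/-!
# Fixed points and integrals under base change
-/

universe u v w w'

open TensorProduct

namespace Groth.Agent.ComodLib

section FixedPts

variable (k : Type u) [CommRing k] (K : Type v) [CommRing K] [Algebra k K]
variable {A : Type w} [CommRing A] [Bialgebra k A]
variable {V : Type w'} [AddCommGroup V] [Module k V] [HopfRep.Comod k A V]

theorem baseChange_coact_eq :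
    (CoactBr.Comod.baseChange k K A V).coact =
      (AlgebraTensorModule.distribBaseChange k K V A).toLinearMap ∘ₗ
        (HopfRep.Comod.coact (k := k) (A := A)).baseChange K := by
  refine TensorProduct.AlgebraTensorModule.ext fun s b => ?_
  rw [CoactBr.baseChange_coact_tmul, LinearMap.comp_apply, LinearMap.baseChange_tmul, LinearEquiv.coe_coe]
  induction HopfRep.Comod.coact (k := k) (A := A) b using TensorProduct.induction_on with
  | zero => simp
  | tmul v a =>
    rw [AlgebraTensorModule.tensorTensorTensorComm_tmul, AlgebraTensorModule.distribBaseChange_tmul,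
      show s ⊗ₜ[k] a = s • ((1 : K) ⊗ₜ[k] a) by rw [smul_tmul', smul_eq_mul, mul_one],
      TensorProduct.tmul_smul, TensorProduct.smul_tmul', TensorProduct.smul_tmul', smul_eq_mul, mul_one]
  | add p q hp hq => rw [tmul_add, map_add, hp, hq, tmul_add, map_add]

/-- Fixed vectors commute with flat base change. -/
theorem fixedPts_baseChange [Module.Flat k K] :
    @HopfRep.fixedPts K (K ⊗[k] A) _ _ _ (K ⊗[k] V) _ _ (CoactBr.Comod.baseChange k K A V) =
      (HopfRep.fixedPts k A V).baseChange K := by
  let ι : V →ₗ[k] V ⊗[k] A := (TensorProduct.mk k V A).flip 1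
  have hι : ∀ x : K ⊗[k] V,
      x ⊗ₜ[K] (1 : K ⊗[k] A) = AlgebraTensorModule.distribBaseChange k K V A (ι.baseChange K x) := fun x => by
    induction x using TensorProduct.induction_on with
    | zero => simp
    | tmul s v => simp [ι, Algebra.TensorProduct.one_def]
    | add p q hp hq => rw [add_tmul, map_add, map_add, hp, hq]
  have hker : HopfRep.fixedPts k A V = LinearMap.ker (HopfRep.Comod.coact (k := k) (A := A) - ι) :=
    SetLike.ext fun v => (sub_eq_zero (a := HopfRep.Comod.coact (k := k) (A := A) v) (b := v ⊗ₜ[k] (1 : A))).symm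
  ext x
  rw [hker, Submodule.baseChange]
  refine Iff.trans ?_ (Module.Flat.lTensor_exact (M := K)
    (LinearMap.exact_subtype_ker_map (HopfRep.Comod.coact (k := k) (A := A) - ι)) x)
  show _ ↔ (HopfRep.Comod.coact (k := k) (A := A) - ι).baseChange K x = 0
  rw [LinearMap.baseChange_sub, LinearMap.sub_apply, sub_eq_zero,
    ← (AlgebraTensorModule.distribBaseChange k K V A).injective.eq_iff, ← hι]
  show (CoactBr.Comod.baseChange k K A V).coact x = _ ↔ _
  rw [baseChange_coact_eq]
  rfl

end FixedPts

section Transport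

variable {k : Type u} [CommRing k] {A : Type v} [CommRing A] [Bialgebra k A] {B : Type w} [CommRing B] [Bialgebra k B]

/-- An integral is transported along an isomorphism of bialgebras. -/
theorem IsIntegral.comp_equiv {β : B →ₗ[k] k} (hβ : IsIntegral k β) (e : A ≃ₐc[k] B) :
    IsIntegral k (β ∘ₗ e.toAlgEquiv.toLinearMap) := by
  intro a
  have h1 : Coalgebra.comul (R := k) (e.toAlgEquiv a) =
      TensorProduct.map e.toAlgEquiv.toLinearMap e.toAlgEquiv.toLinearMap (Coalgebra.comul (R := k) a) :=
    (CoalgHomClass.map_comp_comul_apply e a).symm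
  have key : ∀ z : A ⊗[k] A, (β ∘ₗ e.toAlgEquiv.toLinearMap).rTensor A z =
      e.toAlgEquiv.symm.toLinearMap.lTensor k
        (β.rTensor B (TensorProduct.map e.toAlgEquiv.toLinearMap e.toAlgEquiv.toLinearMap z)) := fun z => by
    induction z using TensorProduct.induction_on with
    | zero => simp
    | tmul p q =>
      simp only [TensorProduct.map_tmul, LinearMap.rTensor_tmul, LinearMap.lTensor_tmul, LinearMap.comp_apply,
        AlgEquiv.toLinearMap_apply, AlgEquiv.symm_apply_apply]
    | add p q hp hq => simp only [map_add, hp, hq]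
  rw [key, ← h1, hβ, LinearMap.lTensor_tmul, AlgEquiv.toLinearMap_apply, map_one]
  rfl

end Transport

section Integral

variable {k : Type u} [Field k] (K : Type v) [Field K] [Algebra k K]
variable {A : Type w} [CommRing A] [Bialgebra k A]

theorem exists_integral_baseChange {α : A →ₗ[k] k} (hα : IsIntegral k α) (h1 : α 1 = 1) :
    ∃ β : K ⊗[k] A →ₗ[K] K, IsIntegral K β ∧ β 1 = 1 := by
  refine ⟨(AlgebraTensorModule.rid k K K).toLinearMap ∘ₗ α.baseChange K, fun x => ?_,
    by simp [Algebra.TensorProduct.one_def, h1]⟩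
  induction x using TensorProduct.induction_on with
  | zero => simp
  | add p q hp hq => rw [map_add, map_add, hp, hq, map_add, add_tmul]
  | tmul s a =>
    have key : ∀ z : A ⊗[k] A,
        ((AlgebraTensorModule.rid k K K).toLinearMap ∘ₗ α.baseChange K).rTensor (K ⊗[k] A)
          (AlgebraTensorModule.tensorTensorTensorComm k K k K K K A A ((Coalgebra.comul (R := K) s) ⊗ₜ z)) =
        (1 : K) ⊗ₜ[K] (s ⊗ₜ[k] TensorProduct.lid k A (α.rTensor A z)) := fun z => by
      induction z using TensorProduct.induction_on with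
      | zero => simp
      | tmul p q =>
        rw [show Coalgebra.comul (R := K) s = (1 : K) ⊗ₜ[K] s from rfl,
          AlgebraTensorModule.tensorTensorTensorComm_tmul, LinearMap.rTensor_tmul, LinearMap.rTensor_tmul,
          TensorProduct.lid_tmul]
        simp only [LinearMap.comp_apply, LinearMap.baseChange_tmul, LinearEquiv.coe_coe, AlgebraTensorModule.rid_tmul]
        rw [TensorProduct.tmul_smul (α p) s q, ← TensorProduct.smul_tmul]
      | add p q hp hq => simp only [map_add, tmul_add, hp, hq]
    rw [TensorProduct.comul_tmul, key, hα a, TensorProduct.lid_tmul, Algebra.TensorProduct.one_def]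
    simp only [LinearMap.comp_apply, LinearMap.baseChange_tmul, LinearEquiv.coe_coe, AlgebraTensorModule.rid_tmul]
    rw [TensorProduct.tmul_smul (α a) s (1 : A), show s ⊗ₜ[k] (1 : A) = s • ((1 : K) ⊗ₜ[k] (1 : A)) by
        rw [TensorProduct.smul_tmul', smul_eq_mul, mul_one],
      ← TensorProduct.smul_tmul, ← TensorProduct.smul_tmul, smul_comm, smul_eq_mul s, mul_one]

theorem exists_integral_descent {β : K ⊗[k] A →ₗ[K] K} (hβ : IsIntegral K β) (h1 : β 1 = 1) :
    ∃ α : A →ₗ[k] k, IsIntegral k α ∧ α 1 = 1 := by
  obtain ⟨π, hπ⟩ := LinearMap.exists_leftInverse_of_injective (Algebra.linearMap k K)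
    (LinearMap.ker_eq_bot.mpr (algebraMap k K).injective)
  let γ : A →ₗ[k] K := β.restrictScalars k ∘ₗ TensorProduct.mk k K A 1
  refine ⟨π ∘ₗ γ, fun a => ?_, ?_⟩
  · let Φ : K ⊗[K] (K ⊗[k] A) →ₗ[k] K ⊗[k] A := (TensorProduct.lid K (K ⊗[k] A)).toLinearMap.restrictScalars k
    have key : ∀ z : A ⊗[k] A,
        Φ (β.rTensor (K ⊗[k] A)
          (AlgebraTensorModule.tensorTensorTensorComm k K k K K K A A ((Coalgebra.comul (R := K) (1 : K)) ⊗ₜ z))) =
        γ.rTensor A z := fun z => by
      induction z using TensorProduct.induction_on with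
      | zero => simp
      | tmul p q =>
        rw [show Coalgebra.comul (R := K) (1 : K) = (1 : K) ⊗ₜ[K] 1 from rfl,
          AlgebraTensorModule.tensorTensorTensorComm_tmul, LinearMap.rTensor_tmul, LinearMap.rTensor_tmul]
        simp [Φ, γ, TensorProduct.smul_tmul']
      | add p q hp hq => simp only [map_add, tmul_add, hp, hq]
    have h := congrArg Φ (hβ ((1 : K) ⊗ₜ[k] a))
    rw [TensorProduct.comul_tmul, key] at h
    rw [LinearMap.rTensor_comp, LinearMap.comp_apply, h]
    simp [Φ, γ, Algebra.TensorProduct.one_def, TensorProduct.smul_tmul']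
  · have h : γ 1 = 1 := by
      simpa [γ, Algebra.TensorProduct.one_def] using h1
    rw [LinearMap.comp_apply, h]
    simpa using LinearMap.congr_fun hπ 1

end Integral

end Groth.Agent.ComodLib
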