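import Groth.Agent.ComodLib.MatrixComod
import Mathlib.LinearAlgebra.FiniteDimensional.Lemmas
import Mathlib.LinearAlgebra.Dimension.Free
import Groth.Prelude.Def_ComodSub
import Groth.Prelude.Def_Dyn
import Groth.Prelude.Def_SGA3

/-!
# Chevalley: subgroup schemes as stabilisers of lines
-/

universe u v w

open TensorProduct

namespace Groth.Agent.ComodLib

section Block

variable {R : Type*} [CommRing R] {d e : ℕ}

theorem det_submatrix_inl {k : Type*} [CommRing k] [Algebra k R] (G : Matrix (Fin d ⊕ Fin e) (Fin d ⊕ Fin e) R)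
    (hG : ∀ r m, G (Sum.inr r) (Sum.inl m) = 0) (i : Fin d → Fin d ⊕ Fin e) :
    (G.submatrix i Sum.inl).det = algebraMap k R (minorVec k Sum.inl i) * (G.submatrix Sum.inl Sum.inl).det := by
  rw [minorVec, RingHom.map_det, ← Matrix.det_mul]
  congr 1
  ext l m
  simp only [Matrix.mul_apply, Matrix.submatrix_apply, RingHom.mapMatrix_apply, Matrix.map_apply, Matrix.one_apply,
    apply_ite (algebraMap k R), map_one, map_zero, ite_mul, one_mul, zero_mul]
  rcases h : i l with a | r
  · simp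
  · simp [hG]

theorem eq_zero_of_minors {k : Type*} [CommRing k] [Algebra k R] (G : Matrix (Fin d ⊕ Fin e) (Fin d ⊕ Fin e) R)
    (c : R) (hc : IsUnit c) (h : ∀ i, (G.submatrix i Sum.inl).det = minorVec k Sum.inl i • c) (r : Fin e) (m : Fin d) :
    G (Sum.inr r) (Sum.inl m) = 0 := by
  have hP : (G.submatrix Sum.inl Sum.inl).det = c := by
    rw [h, minorVec_self Sum.inl_injective, one_smul]
  set P := G.submatrix Sum.inl Sum.inl
  set y : Fin d → R := fun m' => G (Sum.inr r) (Sum.inl m') with hy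
  have hPu : IsUnit P.det := hP ▸ hc
  have hcomb : y = ∑ t, (Matrix.vecMul y P⁻¹) t • P t := by
    conv_lhs => rw [show y = Matrix.vecMul (Matrix.vecMul y P⁻¹) P by
      rw [Matrix.vecMul_vecMul, Matrix.nonsing_inv_mul P hPu, Matrix.vecMul_one]]
    funext m'
    simp [Matrix.vecMul, dotProduct, Finset.sum_apply]
  have hzero : ∀ m', (Matrix.vecMul y P⁻¹) m' = 0 := by
    intro m'
    have h1 := Matrix.det_updateRow_sum P m' (Matrix.vecMul y P⁻¹)
    rw [← hcomb] at h1
    have h2 : (P.updateRow m' y) = G.submatrix (Function.update Sum.inl m' (Sum.inr r)) Sum.inl := by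
      ext a b
      obtain rfl | hab := eq_or_ne a m'
      · simp [Matrix.updateRow_self, hy]
      · simp [Matrix.updateRow_ne hab, P, hab]
    have h3 : minorVec k Sum.inl (Function.update Sum.inl m' (Sum.inr r) : Fin d → Fin d ⊕ Fin e) = 0 :=
      Matrix.det_eq_zero_of_row_eq_zero m' fun b => by simp [Matrix.one_apply]
    rw [h2, h, h3, zero_smul, smul_eq_mul] at h1
    exact hPu.mul_left_eq_zero.mp h1.symm
  show y m = 0
  rw [hcomb]
  simp [hzero]

end Block

variable {k : Type u} [Field k] {A : Type u} [CommRing A] [HopfAlgebra k A]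
variable {R : Type*} [CommRing R] [Algebra k R]

theorem exists_sum_mul_orbit_eq_one {X : Type} [Fintype X] [DecidableEq X] {M : X → X → A} (h : IsComodMatrix k M)
    {v : X → k} {t : X} (ht : v t ≠ 0) (g : A →ₐ[k] R) : ∃ α : X → R, ∑ x, α x * g (orbit k M v x) = 1 := by
  refine ⟨fun x => algebraMap k R (v t)⁻¹ * g (HopfAlgebraStruct.antipode (R := k) (M t x)), ?_⟩
  simp only [mul_assoc, ← map_mul, ← Finset.mul_sum, ← map_sum, sum_antipode_mul_orbit h, AlgHom.commutes]
  rw [inv_mul_cancel₀ ht, map_one]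

theorem eq_smul_of_mul_eq {X Y : Type*} [Fintype Y] (y : X → R) (z : Y → R) (v : X → k) (w : Y → k) (c : R)
    (β : Y → R) (hβ : ∑ q, β q * z q = 1) (h : ∀ x q, y x * z q = (v x * w q) • c) :
    ∀ x, y x = v x • (∑ q, β q * (w q • c)) := fun x =>
  calc y x = y x * ∑ q, β q * z q := by rw [hβ, mul_one]
    _ = ∑ q, β q * (y x * z q) := (Finset.mul_sum _ _ _).trans (Finset.sum_congr rfl fun q _ => by ring)
    _ = _ := by
        rw [Finset.smul_sum]
        refine Finset.sum_congr rfl fun q _ => ?_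
        rw [h, mul_smul, mul_smul_comm]

theorem exists_adapted_basis {k : Type*} [Field k] {U : Type*} [AddCommGroup U] [Module k U] [Module.Finite k U]
    {B : Type*} [AddCommGroup B] [Module k B] (f : U →ₗ[k] B) :
    ∃ (d e : ℕ) (b : Module.Basis (Fin d ⊕ Fin e) k U), (∀ m, f (b (Sum.inl m)) = 0) ∧
      (∀ r, ∃ φ : B →ₗ[k] k, ∀ t, φ (f (b (Sum.inr t))) = if t = r then 1 else 0) ∧
      ∀ x, f x = 0 → ∀ r, b.repr x (Sum.inr r) = 0 := by
  obtain ⟨C0, hC0⟩ := Submodule.exists_isCompl (LinearMap.ker f)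
  let bW := Module.finBasis k (LinearMap.ker f)
  let bC := Module.finBasis k C0
  let b := (bW.prod bC).map (Submodule.prodEquivOfIsCompl _ _ hC0)
  refine ⟨_, _, b, fun m => ?_, fun r => ?_, fun x hx r => ?_⟩
  · rw [show b (Sum.inl m) = (bW m : U) by simp [b]]
    exact LinearMap.mem_ker.mp (bW m).2
  · have hinj : LinearMap.ker (f ∘ₗ C0.subtype) = ⊥ := by
      rw [LinearMap.ker_eq_bot, injective_iff_map_eq_zero]
      intro x hx
      have : (x : U) ∈ LinearMap.ker f ⊓ C0 := ⟨hx, x.2⟩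
      rw [hC0.inf_eq_bot, Submodule.mem_bot] at this
      exact Subtype.ext this
    obtain ⟨L, hL⟩ := LinearMap.exists_leftInverse_of_injective (f ∘ₗ C0.subtype) hinj
    refine ⟨bC.coord r ∘ₗ L, fun t => ?_⟩
    rw [show b (Sum.inr t) = (bC t : U) by simp [b]]
    show bC.coord r ((L ∘ₗ f ∘ₗ C0.subtype) (bC t)) = _
    rw [hL]
    simp [Finsupp.single_apply]
  · have hx' : x = Submodule.prodEquivOfIsCompl _ _ hC0 (⟨x, hx⟩, 0) := by simp
    simp only [b, Module.Basis.map_repr, LinearEquiv.trans_apply]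
    rw [hx', LinearEquiv.symm_apply_apply]
    simp [Module.Basis.prod_repr_inr]

theorem exists_block_matrix [Algebra.FiniteType k A] {B : Type u} [CommRing B] [HopfAlgebra k B]
    (π : A →ₐc[k] B) (hπ : Function.Surjective π) :
    ∃ (d e : ℕ) (M : Fin d ⊕ Fin e → Fin d ⊕ Fin e → A), IsComodMatrix k M ∧
      (∀ r m, π (M (Sum.inr r) (Sum.inl m)) = 0) ∧
      ∀ (R : Type u) [CommRing R] [Algebra k R] (g : A →ₐ[k] R),
        (∀ r m, g (M (Sum.inr r) (Sum.inl m)) = 0) → ∀ a ∈ RingHom.ker (π : A →+* B), g a = 0 := by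
  classical
  haveI : IsNoetherianRing A := Algebra.FiniteType.isNoetherianRing k A
  let πa : A →ₐ[k] B := (π : A →ₐ[k] B)
  obtain ⟨gens, hgens⟩ := IsNoetherian.noetherian (RingHom.ker (π : A →+* B))
  obtain ⟨U, hUf, hgU, hU⟩ := exists_finite_subcomod_le (k := k) (C := A) (V := A) gens.finite_toSet
  haveI := hUf
  let cU : HopfRep.Comod k A U := ComodSub.Comod.restr (HopfRep.Comod.regular k A) U hU
  let f : U →ₗ[k] B := πa.toLinearMap ∘ₗ U.subtype
  obtain ⟨d, e, b, hbl, hbr, hker⟩ := exists_adapted_basis f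
  let M := @matrixOf k _ A _ _ _ (Fin d ⊕ Fin e) U _ _ cU b
  have hM : IsComodMatrix k M := @isComodMatrix_matrixOf k _ A _ _ _ (Fin d ⊕ Fin e) _ _ U _ _ cU b
  have hπl : ∀ m, π (b (Sum.inl m) : A) = 0 := hbl
  have hΔ : ∀ j, Coalgebra.comul (R := k) (b j : A) = ∑ i, (b i : A) ⊗ₜ[k] M i j := by
    intro j
    rw [← show _ = Coalgebra.comul (R := k) (b j : A) from
      ComodSub.restr_coact_coe (HopfRep.Comod.regular k A) U hU (b j),
      @coact_matrixOf k _ A _ _ _ (Fin d ⊕ Fin e) _ _ U _ _ cU b j, map_sum]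
    rfl
  have hblock : ∀ r m, π (M (Sum.inr r) (Sum.inl m)) = 0 := by
    intro r m
    obtain ⟨φ, hφ⟩ := hbr r
    have h1 := CoalgHomClass.map_comp_comul_apply π (b (Sum.inl m) : A)
    rw [hπl, map_zero, hΔ, map_sum, Fintype.sum_sum_type] at h1
    simp only [TensorProduct.map_tmul] at h1
    have h2 := congrArg (fun z => TensorProduct.lid k B (φ.rTensor B z)) h1
    simp only [map_add, map_sum, map_zero, LinearMap.rTensor_tmul, TensorProduct.lid_tmul] at h2
    have hl : ∀ t, φ (π (b (Sum.inl t) : A)) = 0 := fun t => by rw [hπl, map_zero]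
    have hr : ∀ t, φ (π (b (Sum.inr t) : A)) = if t = r then 1 else 0 := hφ
    simpa [hl, hr, ite_smul] using h2
  have hkill : ∀ (R : Type u) [CommRing R] [Algebra k R] (g : A →ₐ[k] R),
      (∀ r m, g (M (Sum.inr r) (Sum.inl m)) = 0) → ∀ a ∈ RingHom.ker (π : A →+* B), g a = 0 := by
    intro R _ _ g hg
    have hbase : ∀ m, g (b (Sum.inl m) : A) = 0 := by
      intro m
      have h1 := congrArg (TensorProduct.lid k A) (Coalgebra.rTensor_counit_comul (R := k) (b (Sum.inl m) : A))
      rw [TensorProduct.lid_tmul, one_smul, hΔ] at h1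
      rw [map_sum, map_sum, Fintype.sum_sum_type] at h1
      simp only [LinearMap.rTensor_tmul, TensorProduct.lid_tmul] at h1
      have hε : ∀ t, Coalgebra.counit (R := k) (b (Sum.inl t) : A) = 0 := fun t => by
        rw [← CoalgHomClass.counit_comp_apply π, hπl, map_zero]
      simp only [hε, zero_smul, Finset.sum_const_zero, zero_add] at h1
      rw [← h1, map_sum]
      exact Finset.sum_eq_zero fun t _ => by rw [map_smul, hg, smul_zero]
    intro a ha
    rw [← hgens] at ha
    induction ha using Submodule.span_induction with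
    | mem a ha =>
      have haI : π a = 0 := by
        have : a ∈ RingHom.ker (π : A →+* B) := hgens ▸ Ideal.subset_span ha
        exact this
      let x : U := ⟨a, hgU ha⟩
      have hx : a = ∑ m, b.repr x (Sum.inl m) • (b (Sum.inl m) : A) := by
        have := congrArg Subtype.val (b.sum_repr x)
        rw [Fintype.sum_sum_type] at this
        simp only [hker x haI, zero_smul, Finset.sum_const_zero, add_zero, Submodule.coe_sum, Submodule.coe_smul] at this
        exact this.symm
      rw [hx, map_sum]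
      exact Finset.sum_eq_zero fun t _ => by rw [map_smul, hbase, smul_zero]
    | zero => exact map_zero g
    | add x y _ _ hx hy => rw [map_add, hx, hy, add_zero]
    | smul r x _ hx => rw [smul_eq_mul, map_mul, hx, mul_zero]
  exact ⟨d, e, M, hM, hblock, hkill⟩

theorem map_orbit_minorVec {d e : ℕ} (M : Fin d ⊕ Fin e → Fin d ⊕ Fin e → A) {R : Type u} [CommRing R] [Algebra k R]
    (g : A →ₐ[k] R) (i : Fin d → Fin d ⊕ Fin e) :
    g (orbit k (powMatrix M d) (minorVec k Sum.inl) i) = (((Matrix.of M).map g).submatrix i Sum.inl).det := by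
  rw [orbit_powMatrix_minorVec, AlgHom.map_det]
  rfl

theorem orbit_block {d e : ℕ} {M : Fin d ⊕ Fin e → Fin d ⊕ Fin e → A} (hM : IsComodMatrix k M)
    {B : Type u} [CommRing B] [HopfAlgebra k B] (π : A →ₐc[k] B)
    (hblock : ∀ r m, π (M (Sum.inr r) (Sum.inl m)) = 0) :
    ∃ χ : B, IsGroupLikeElem k χ ∧
      ∀ i, π (orbit k (powMatrix M d) (minorVec k Sum.inl) i) = minorVec k Sum.inl i • χ := by
  classical
  let πa : A →ₐ[k] B := (π : A →ₐ[k] B)
  let ι : Fin d → Fin d ⊕ Fin e := Sum.inl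
  let M₁ := powMatrix M d
  have hM₁ : IsComodMatrix k M₁ := hM.powMatrix d
  let v₁ := minorVec k ι
  have hv₁ : v₁ ι = 1 := minorVec_self Sum.inl_injective
  have horb : ∀ {R : Type u} [CommRing R] [Algebra k R] (g : A →ₐ[k] R) i,
      g (orbit k M₁ v₁ i) = (((Matrix.of M).map g).submatrix i Sum.inl).det := map_orbit_minorVec M
  let P : Matrix (Fin d) (Fin d) B := fun l m => π (M (Sum.inl l) (Sum.inl m))
  let χ : B := P.det
  have heig : ∀ i, π (orbit k M₁ v₁ i) = v₁ i • χ := by
    intro i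
    rw [Algebra.smul_def]
    exact (horb πa i).trans (det_submatrix_inl _ hblock i)
  have hχ : IsGroupLikeElem k χ := by
    constructor
    · show Bialgebra.counitAlgHom k B P.det = 1
      rw [AlgHom.map_det]
      convert Matrix.det_one (n := Fin d) (R := k)
      ext l m
      show Coalgebra.counit (R := k) (π (M (Sum.inl l) (Sum.inl m))) = _
      rw [CoalgHomClass.counit_comp_apply, hM.counit]
      simp [Matrix.one_apply]
    · show Bialgebra.comulAlgHom k B P.det = _
      have hP : (Bialgebra.comulAlgHom k B).mapMatrix P =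
          (Algebra.TensorProduct.includeLeft : B →ₐ[k] B ⊗[k] B).mapMatrix P *
            (Algebra.TensorProduct.includeRight : B →ₐ[k] B ⊗[k] B).mapMatrix P := by
        refine Matrix.ext fun l m => ?_
        show Coalgebra.comul (R := k) (π (M (Sum.inl l) (Sum.inl m))) = _
        rw [← CoalgHomClass.map_comp_comul_apply, hM.comul, map_sum, Fintype.sum_sum_type, Matrix.mul_apply]
        simp only [TensorProduct.map_tmul, hblock, tmul_zero, zero_tmul, Finset.sum_const_zero, add_zero, map_add, map_sum]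
        simp only [LinearMap.coe_coe, hblock, tmul_zero, zero_tmul, Finset.sum_const_zero, add_zero]
        refine Finset.sum_congr rfl fun x _ => ?_
        show π (M (Sum.inl l) (Sum.inl x)) ⊗ₜ[k] π (M (Sum.inl x) (Sum.inl m)) = (P l x ⊗ₜ[k] (1 : B)) * ((1 : B) ⊗ₜ[k] P x m)
        rw [Algebra.TensorProduct.tmul_mul_tmul, one_mul, mul_one]
      rw [AlgHom.map_det, hP, Matrix.det_mul, ← AlgHom.map_det, ← AlgHom.map_det]
      simp [χ, Algebra.TensorProduct.tmul_mul_tmul]
  exact ⟨χ, hχ, heig⟩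

/-- Chevalley's theorem with trivial character. -/
theorem exists_line_stabilizer [Algebra.FiniteType k A] {B : Type u} [CommRing B] [HopfAlgebra k B]
    (π : A →ₐc[k] B) (hπ : Function.Surjective π)
    (hocc : ∀ χ : B, IsGroupLikeElem k χ →
      (∃ (V : Type u) (_ : AddCommGroup V) (_ : Module k V) (_ : HopfRep.Comod k A V) (_ : Module.Finite k V) (v : V),
          v ≠ 0 ∧ LinearMap.lTensor V π.toLinearMap (HopfRep.Comod.coact (k := k) (A := A) v) = v ⊗ₜ[k] χ) →
      ∃ m : ℕ, 0 < m ∧ ∃ ψ : B, IsGroupLikeElem k ψ ∧ ψ * χ ^ m = 1 ∧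
        ∃ (V : Type u) (_ : AddCommGroup V) (_ : Module k V) (_ : HopfRep.Comod k A V) (_ : Module.Finite k V) (v : V),
          v ≠ 0 ∧ LinearMap.lTensor V π.toLinearMap (HopfRep.Comod.coact (k := k) (A := A) v) = v ⊗ₜ[k] ψ) :
    ∃ (V : Type u) (_ : AddCommGroup V) (_ : Module k V) (_ : HopfRep.Comod k A V) (_ : Module.Finite k V) (v : V),
      v ≠ 0 ∧ Dyn.Represents k A (RingHom.ker (π : A →+* B)) (fun R _ _ g => SGA3.StabilizesLine k A v R g) ∧
      LinearMap.lTensor V π.toLinearMap (HopfRep.Comod.coact (k := k) (A := A) v) = v ⊗ₜ[k] (1 : B) := by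
  classical
  let πa : A →ₐ[k] B := (π : A →ₐ[k] B)
  obtain ⟨d, e, M, hM, hblock, hkill⟩ := exists_block_matrix π hπ
  let ι : Fin d → Fin d ⊕ Fin e := Sum.inl
  let M₁ := powMatrix M d
  have hM₁ : IsComodMatrix k M₁ := hM.powMatrix d
  let v₁ := minorVec k ι
  have hv₁ : v₁ ι = 1 := minorVec_self Sum.inl_injective
  have horb : ∀ {R : Type u} [CommRing R] [Algebra k R] (g : A →ₐ[k] R) i,
      g (orbit k M₁ v₁ i) = (((Matrix.of M).map g).submatrix i Sum.inl).det := map_orbit_minorVec M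
  obtain ⟨χ, hχ, heig⟩ := orbit_block hM π hblock
  -- cancel the character
  obtain ⟨m, hm, ψ, hψ, hψχ, V', i1, i2, c', i4, v', hv', hev'⟩ := hocc χ hχ
    ⟨_, inferInstance, inferInstance, ofMatrix M₁ hM₁, inferInstance, v₁,
      fun h => one_ne_zero (hv₁.symm.trans (congrFun h ι)),
      (lTensor_ofMatrix_coact_eq_iff M₁ hM₁ v₁ π.toLinearMap χ).mpr heig⟩
  obtain ⟨m, rfl⟩ := Nat.exists_eq_succ_of_ne_zero hm.ne'
  let b' := Module.finBasis k V'
  let M' := matrixOf (A := A) b'
  have hM' : IsComodMatrix k M' := isComodMatrix_matrixOf b'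
  let w : Fin (Module.finrank k V') → k := fun x => b'.repr v' x
  have horb' : ∀ x, π (orbit k M' w x) = w x • ψ := orbit_matrixOf_eq_of_lTensor b' π.toLinearMap v' ψ hev'
  obtain ⟨q₀, hq₀⟩ : ∃ q, w q ≠ 0 := by
    by_contra hne
    push_neg at hne
    exact hv' (b'.repr.map_eq_zero_iff.mp (Finsupp.ext hne))
  let M₂ := mulMatrix (powMatrix M₁ (m + 1)) M'
  have hM₂ : IsComodMatrix k M₂ := (hM₁.powMatrix _).mulMatrix hM'
  let v₂ : (Fin (m + 1) → Fin d → Fin d ⊕ Fin e) × Fin (Module.finrank k V') → k :=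
    fun p => (∏ l, v₁ (p.1 l)) * w p.2
  have horb₂ : ∀ p, orbit k M₂ v₂ p = (∏ l, orbit k M₁ v₁ (p.1 l)) * orbit k M' w p.2 := fun p => by
    rw [← orbit_powMatrix M₁ v₁ (m + 1) p.1]
    exact orbit_mulMatrix (powMatrix M₁ (m + 1)) M' (fun j => ∏ l, v₁ (j l)) w p
  have htriv : ∀ p, π (orbit k M₂ v₂ p) = v₂ p • (1 : B) := by
    intro p
    rw [horb₂, map_mul, map_prod, horb', Finset.prod_congr rfl fun l _ => heig (p.1 l)]
    simp only [v₂, Algebra.smul_def, map_mul, map_prod, Finset.prod_mul_distrib, Finset.prod_const,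
      Finset.card_univ, Fintype.card_fin, mul_one]
    rw [Nat.succ_eq_add_one, pow_succ] at hψχ
    linear_combination (algebraMap k B (w p.2) * ∏ l, algebraMap k B (v₁ (p.1 l))) * hψχ
  refine ⟨_, inferInstance, inferInstance, ofMatrix M₂ hM₂, inferInstance, v₂, ?_, ?_,
    (lTensor_ofMatrix_coact_eq_iff M₂ hM₂ v₂ π.toLinearMap 1).mpr htriv⟩
  · intro h
    have := congrFun h (fun _ => ι, q₀)
    simp [v₂, hv₁, hq₀] at this
  intro R _ _ g
  show _ ↔ ∃ c : R, _
  constructor
  · refine fun hg => ⟨1, (lTensor_ofMatrix_coact_eq_iff M₂ hM₂ v₂ g.toLinearMap 1).mpr fun p => ?_⟩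
    have h0 := hg (orbit k M₂ v₂ p - v₂ p • 1) (by
      show π _ = 0
      rw [map_sub, htriv, map_smul, map_one, sub_self])
    rwa [map_sub, map_smul, map_one, sub_eq_zero] at h0
  · rintro ⟨c, hc⟩
    replace hc := (lTensor_ofMatrix_coact_eq_iff M₂ hM₂ v₂ g.toLinearMap c).mp hc
    let z : (Fin m → Fin d → Fin d ⊕ Fin e) × Fin (Module.finrank k V') → R :=
      fun q => (∏ l, g (orbit k M₁ v₁ (q.1 l))) * g (orbit k M' w q.2)
    obtain ⟨β, hβ⟩ : ∃ β : (Fin m → Fin d → Fin d ⊕ Fin e) × Fin (Module.finrank k V') → R, ∑ q, β q * z q = 1 := by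
      obtain ⟨α, hα⟩ := exists_sum_mul_orbit_eq_one hM₁ (v := v₁) (t := ι) (by rw [hv₁]; exact one_ne_zero) g
      obtain ⟨α', hα'⟩ := exists_sum_mul_orbit_eq_one hM' (v := w) hq₀ g
      refine ⟨fun q => (∏ l, α (q.1 l)) * α' q.2, ?_⟩
      have h1 : (∏ _l : Fin m, ∑ x, α x * g (orbit k M₁ v₁ x)) = 1 := by simp [hα]
      rw [Fintype.prod_sum] at h1
      rw [Fintype.sum_prod_type]
      simp only [z, mul_mul_mul_comm _ (α' _) _ _, ← Finset.mul_sum, hα', mul_one, ← Finset.prod_mul_distrib]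
      exact h1
    have hy := eq_smul_of_mul_eq (fun i => g (orbit k M₁ v₁ i)) z v₁ (fun q => (∏ l, v₁ (q.1 l)) * w q.2) c β hβ
      fun x q => by
        have := hc (Fin.cons x q.1, q.2)
        rw [AlgHom.toLinearMap_apply, horb₂] at this
        simp only [v₂, Fin.prod_univ_succ, Fin.cons_zero, Fin.cons_succ, map_mul,
          map_prod] at this
        simpa only [z, mul_assoc] using this
    set cc := ∑ q, β q * (((∏ l, v₁ (q.1 l)) * w q.2) • c)
    obtain ⟨α, hα⟩ := exists_sum_mul_orbit_eq_one hM₁ (v := v₁) (t := ι) (by rw [hv₁]; exact one_ne_zero) g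
    have hu : IsUnit cc := by
      refine IsUnit.of_mul_eq_one (∑ x, α x * algebraMap k R (v₁ x)) ?_
      rw [← hα, Finset.mul_sum]
      exact Finset.sum_congr rfl fun x _ => by rw [hy x, Algebra.smul_def]; ring
    exact hkill R g fun r t => eq_zero_of_minors ((Matrix.of M).map g) cc hu
      (fun i => (horb g i).symm.trans (hy i)) r t

end Groth.Agent.ComodLib
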