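import Groth.Agent.ComodLib.Antipode
import Groth.Prelude.Def_ComodSub
import Groth.Prelude.Def_ComodDual
import Mathlib.Algebra.Module.FinitePresentation
import Mathlib.RingTheory.Flat.Basic
import Mathlib.RingTheory.Flat.Stability
import Mathlib.LinearAlgebra.Dual.Lemmas

/-!
# Left and right comodules through the antipode; the dual comodule
-/

universe u v w w'

open TensorProduct

namespace Groth.Agent.ComodLib

section Passage

variable {k : Type u} [CommRing k] {A : Type v} [CommRing A] [HopfAlgebra k A]
variable {V : Type w} [AddCommGroup V] [Module k V]

/-- The right comodule attached to a left comodule through the antipode. -/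
@[reducible] noncomputable def rightOfLeft (l : ComodSub.LComod k A V) : HopfRep.Comod k A V where
  coact := ComodSub.rcoactOfLeft l
  coassoc := by
    let S := HopfAlgebra.antipode k (A := A)
    let T : A ⊗[k] A ⊗[k] V →ₗ[k] V ⊗[k] (A ⊗[k] A) :=
      (TensorProduct.comm k (A ⊗[k] A) V).toLinearMap ∘ₗ
        (TensorProduct.map S S ∘ₗ (TensorProduct.comm k A A).toLinearMap).rTensor V
    ext v
    have h := congrArg ((T ∘ₗ (TensorProduct.assoc k A A V).symm.toLinearMap) : A ⊗[k] (A ⊗[k] V) →ₗ[k] _)
      (LinearMap.congr_fun l.coassoc v)
    simp only [LinearMap.comp_apply, LinearEquiv.coe_coe, LinearEquiv.symm_apply_apply] at h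
    simp only [LinearMap.comp_apply, LinearEquiv.coe_coe, ComodSub.rcoactOfLeft]
    refine Eq.trans ?_ (h.trans ?_)
    · induction l.coact v using TensorProduct.induction_on with
      | zero => simp
      | add p q hp hq => simp only [map_add, hp, hq]
      | tmul a x =>
        simp only [LinearMap.rTensor_tmul, TensorProduct.comm_tmul, LinearMap.lTensor_tmul, LinearMap.comp_apply,
          LinearEquiv.coe_coe]
        induction l.coact x using TensorProduct.induction_on with
        | zero => simp
        | add p q hp hq => simp only [map_add, add_tmul, tmul_add, hp, hq]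
        | tmul b y => simp [T, S]
    · induction l.coact v using TensorProduct.induction_on with
      | zero => simp
      | add p q hp hq => simp only [map_add, hp, hq]
      | tmul a x => simp [T, S, comul_antipode]
  counit_comp := by
    ext v
    have h := congrArg (TensorProduct.comm k k V) (LinearMap.congr_fun l.counit_comp v)
    simp only [LinearMap.comp_apply, TensorProduct.mk_apply, TensorProduct.comm_tmul] at h
    simp only [LinearMap.comp_apply, ComodSub.rcoactOfLeft, LinearMap.flip_apply, TensorProduct.mk_apply,
      LinearEquiv.coe_coe]
    refine Eq.trans ?_ h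
    induction l.coact v using TensorProduct.induction_on with
    | zero => simp
    | add p q hp hq => simp only [map_add, hp, hq]
    | tmul a x => simp

/-- The left comodule attached to a right comodule through the antipode. -/
@[reducible] noncomputable def leftOfRight (c : HopfRep.Comod k A V) : ComodSub.LComod k A V where
  coact := ComodSub.lcoactOfRight c
  coassoc := by
    let S := HopfAlgebra.antipode k (A := A)
    let T : V ⊗[k] (A ⊗[k] A) →ₗ[k] A ⊗[k] (A ⊗[k] V) :=
      (TensorProduct.assoc k A A V).toLinearMap ∘ₗ (TensorProduct.comm k V (A ⊗[k] A)).toLinearMap ∘ₗ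
        (TensorProduct.map S S ∘ₗ (TensorProduct.comm k A A).toLinearMap).lTensor V
    ext v
    have h := congrArg T (LinearMap.congr_fun c.coassoc v)
    simp only [LinearMap.comp_apply, LinearEquiv.coe_coe] at h
    simp only [LinearMap.comp_apply, LinearEquiv.coe_coe, ComodSub.lcoactOfRight]
    refine Eq.trans ?_ (h.trans ?_)
    · induction c.coact v using TensorProduct.induction_on with
      | zero => simp
      | add p q hp hq => simp only [map_add, hp, hq]
      | tmul x a =>
        simp only [LinearMap.rTensor_tmul, TensorProduct.comm_tmul, LinearMap.lTensor_tmul, LinearMap.comp_apply,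
          LinearEquiv.coe_coe]
        induction c.coact x using TensorProduct.induction_on with
        | zero => simp
        | add p q hp hq => simp only [map_add, add_tmul, tmul_add, hp, hq]
        | tmul y b => simp [T, S]
    · induction c.coact v using TensorProduct.induction_on with
      | zero => simp
      | add p q hp hq => simp only [map_add, hp, hq]
      | tmul x a => simp [T, S, comul_antipode]
  counit_comp := by
    ext v
    have h := congrArg (TensorProduct.comm k V k) (LinearMap.congr_fun c.counit_comp v)
    simp only [LinearMap.comp_apply, LinearMap.flip_apply, TensorProduct.mk_apply, TensorProduct.comm_tmul] at h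
    simp only [LinearMap.comp_apply, ComodSub.lcoactOfRight, TensorProduct.mk_apply, LinearEquiv.coe_coe]
    refine Eq.trans ?_ h
    induction c.coact v using TensorProduct.induction_on with
    | zero => simp
    | add p q hp hq => simp only [map_add, hp, hq]
    | tmul x a => simp

end Passage

section DualTensorHom

variable {k : Type u} [CommRing k] {M : Type w} [AddCommGroup M] [Module k M]
variable {N : Type w'} [AddCommGroup N] [Module k N]

/-- For a finitely presented `M` and a flat `N`, `M* ⊗ N → Hom(M, N)` is bijective. -/
theorem dualTensorHom_bijective_of_flat [Module.FinitePresentation k M] [Module.Flat k N] :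
    Function.Bijective (dualTensorHom k M N) := by
  obtain ⟨n, m, f, g, hf, hfg⟩ := Module.FinitePresentation.exists_fin' k M
  have hgf : f ∘ₗ g = 0 := LinearMap.ext fun x => hfg.apply_apply_eq_zero x
  have hex : Function.Exact f.dualMap g.dualMap := by
    intro φ
    constructor
    · intro h
      have hle : LinearMap.ker f ≤ LinearMap.ker φ := fun y hy => by
        obtain ⟨x, rfl⟩ := (hfg y).mp hy
        exact LinearMap.congr_fun h x
      refine ⟨(LinearMap.ker f).liftQ φ hle ∘ₗ (f.quotKerEquivOfSurjective hf).symm.toLinearMap, ?_⟩
      ext y
      simp only [LinearMap.dualMap_apply, LinearMap.comp_apply, LinearEquiv.coe_coe]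
      rw [show (f.quotKerEquivOfSurjective hf).symm (f _) = Submodule.Quotient.mk _ from
        (f.quotKerEquivOfSurjective hf).symm_apply_eq.mpr (f.quotKerEquivOfSurjective_apply_mk hf _).symm]
      rfl
    · rintro ⟨ψ, rfl⟩
      ext x
      simp [show f (g _) = 0 from hfg.apply_apply_eq_zero _]
  have natF : ∀ x, dualTensorHom k (Fin n → k) N (f.dualMap.rTensor N x) = dualTensorHom k M N x ∘ₗ f := fun x => by
    induction x using TensorProduct.induction_on with
    | zero => simp
    | tmul φ a => ext; simp
    | add p q hp hq => simp only [map_add, LinearMap.add_comp, hp, hq]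
  have natG : ∀ x, dualTensorHom k (Fin m → k) N (g.dualMap.rTensor N x) =
      dualTensorHom k (Fin n → k) N x ∘ₗ g := fun x => by
    induction x using TensorProduct.induction_on with
    | zero => simp
    | tmul φ a => ext; simp
    | add p q hp hq => simp only [map_add, LinearMap.add_comp, hp, hq]
  have hn := dualTensorHom_bijective (R := k) (M := Fin n → k) (N := N)
  have hm := dualTensorHom_bijective (R := k) (M := Fin m → k) (N := N)
  constructor
  · intro x y hxy
    refine Module.Flat.rTensor_preserves_injective_linearMap f.dualMap
      (LinearMap.dualMap_injective_of_surjective hf) (hn.1 ?_)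
    rw [natF, natF, hxy]
  · intro φ
    obtain ⟨y, hy⟩ := hn.2 (φ ∘ₗ f)
    have hy0 : g.dualMap.rTensor N y = 0 := hm.1 (by
      rw [natG, hy, map_zero, LinearMap.comp_assoc, hgf, LinearMap.comp_zero])
    obtain ⟨x, rfl⟩ := (Module.Flat.rTensor_exact N hex y).mp hy0
    refine ⟨x, LinearMap.ext fun v => ?_⟩
    obtain ⟨z, rfl⟩ := hf v
    have h := (natF x).symm.trans hy
    exact LinearMap.congr_fun h z

end DualTensorHom

section LDual

variable {k : Type u} [CommRing k] {A : Type v} [AddCommGroup A] [Module k A] [Coalgebra k A] [Module.Flat k A]
variable {M : Type w} [AddCommGroup M] [Module k M] [Module.FinitePresentation k M]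

/-- The left dual coaction. -/
noncomputable def ldualCoact (c : HopfRep.Comod k A M) : Module.Dual k M →ₗ[k] A ⊗[k] Module.Dual k M :=
  (TensorProduct.comm k (Module.Dual k M) A).toLinearMap ∘ₗ
    (LinearEquiv.ofBijective (dualTensorHom k M A) dualTensorHom_bijective_of_flat).symm.toLinearMap ∘ₗ
    { toFun := ComodSub.ldualFun c
      map_add' := fun f g => LinearMap.ext fun m => by
        simp [ComodSub.ldualFun_apply, LinearMap.rTensor_add]
      map_smul' := fun r f => LinearMap.ext fun m => by
        simp [ComodSub.ldualFun_apply, LinearMap.rTensor_smul] }

theorem dualTensorHom_ldualCoact (c : HopfRep.Comod k A M) (g : Module.Dual k M) :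
    dualTensorHom k M A (TensorProduct.comm k A (Module.Dual k M) (ldualCoact c g)) = ComodSub.ldualFun c g := by
  simp only [ldualCoact, LinearMap.comp_apply, LinearEquiv.coe_coe]
  rw [show ∀ z, TensorProduct.comm k A (Module.Dual k M) (TensorProduct.comm k (Module.Dual k M) A z) = z from
    (TensorProduct.comm k (Module.Dual k M) A).symm_apply_apply]
  exact LinearEquiv.apply_symm_apply (LinearEquiv.ofBijective (dualTensorHom k M A) dualTensorHom_bijective_of_flat) _

/-- The left dual of a right comodule on a finitely presented module over a flat coalgebra. -/
@[reducible] noncomputable def ldual (c : HopfRep.Comod k A M) : ComodSub.LComod k A (Module.Dual k M) where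
  coact := ldualCoact c
  coassoc := by
    refine LinearMap.ext fun g => ?_
    let e := (TensorProduct.assoc k A A (Module.Dual k M)).symm ≪≫ₗ TensorProduct.comm k (A ⊗[k] A) (Module.Dual k M)
    refine e.injective ((dualTensorHom_bijective_of_flat (k := k) (M := M) (N := A ⊗[k] A)).1 (LinearMap.ext fun m => ?_))
    simp only [e, LinearMap.comp_apply, LinearEquiv.trans_apply, LinearEquiv.coe_coe, LinearEquiv.symm_apply_apply]
    have hl : ∀ z : A ⊗[k] Module.Dual k M,
        dualTensorHom k M (A ⊗[k] A) (TensorProduct.comm k (A ⊗[k] A) (Module.Dual k M)
          ((TensorProduct.assoc k A A (Module.Dual k M)).symm ((ldualCoact c).lTensor A z))) m =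
        (dualTensorHom k M A (TensorProduct.comm k A (Module.Dual k M) z)).rTensor A (c.coact m) := fun z => by
      induction z using TensorProduct.induction_on with
      | zero => simp
      | add p q hp hq =>
        simp only [map_add, LinearMap.add_apply, LinearMap.rTensor_add, hp, hq]
      | tmul a φ =>
        rw [LinearMap.lTensor_tmul]
        have h2 : ∀ w : A ⊗[k] Module.Dual k M,
            dualTensorHom k M (A ⊗[k] A) (TensorProduct.comm k (A ⊗[k] A) (Module.Dual k M)
              ((TensorProduct.assoc k A A (Module.Dual k M)).symm (a ⊗ₜ[k] w))) m =
            a ⊗ₜ[k] dualTensorHom k M A (TensorProduct.comm k A (Module.Dual k M) w) m := fun w => by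
          induction w using TensorProduct.induction_on with
          | zero => simp
          | add p q hp hq => simp only [tmul_add, map_add, LinearMap.add_apply, hp, hq]
          | tmul b ψ => simp
        rw [h2, dualTensorHom_ldualCoact, ComodSub.ldualFun_apply]
        induction c.coact m using TensorProduct.induction_on with
        | zero => simp
        | add p q hp hq => simp only [map_add, tmul_add, hp, hq]
        | tmul x y => simp [TensorProduct.smul_tmul]
    have hr : ∀ z : A ⊗[k] Module.Dual k M,
        dualTensorHom k M (A ⊗[k] A) (TensorProduct.comm k (A ⊗[k] A) (Module.Dual k M)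
          ((Coalgebra.comul (R := k)).rTensor (Module.Dual k M) z)) m =
        Coalgebra.comul (R := k) (dualTensorHom k M A (TensorProduct.comm k A (Module.Dual k M) z) m) := fun z => by
      induction z using TensorProduct.induction_on with
      | zero => simp
      | add p q hp hq => simp only [map_add, LinearMap.add_apply, hp, hq]
      | tmul a φ => simp
    rw [hl, hr, dualTensorHom_ldualCoact, ComodSub.ldualFun_apply]
    have h := congrArg ((TensorProduct.lid k (A ⊗[k] A)).toLinearMap ∘ₗ g.rTensor (A ⊗[k] A))
      (LinearMap.congr_fun c.coassoc m)
    simp only [LinearMap.comp_apply, LinearEquiv.coe_coe] at h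
    refine Eq.trans ?_ (h.trans ?_)
    · induction c.coact m using TensorProduct.induction_on with
      | zero => simp
      | add p q hp hq => simp only [map_add, hp, hq]
      | tmul x a =>
        rw [LinearMap.rTensor_tmul, LinearMap.rTensor_tmul, ComodSub.ldualFun_apply]
        induction c.coact x using TensorProduct.induction_on with
        | zero => simp
        | add p q hp hq => simp only [map_add, add_tmul, hp, hq]
        | tmul y b => simp [TensorProduct.smul_tmul']
    · induction c.coact m using TensorProduct.induction_on with
      | zero => simp
      | add p q hp hq => simp only [map_add, hp, hq]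
      | tmul x a => simp
  counit_comp := by
    refine LinearMap.ext fun g => (TensorProduct.lid k (Module.Dual k M)).injective (LinearMap.ext fun m => ?_)
    rw [LinearMap.comp_apply, TensorProduct.mk_apply, TensorProduct.lid_tmul, one_smul]
    have key : ∀ z : A ⊗[k] Module.Dual k M,
        TensorProduct.lid k (Module.Dual k M) ((Coalgebra.counit (R := k)).rTensor (Module.Dual k M) z) m =
          Coalgebra.counit (R := k) (dualTensorHom k M A (TensorProduct.comm k A (Module.Dual k M) z) m) := fun z => by
      induction z using TensorProduct.induction_on with
      | zero => simp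
      | add p q hp hq => simp only [map_add, LinearMap.add_apply, hp, hq]
      | tmul a φ => simp [mul_comm]
    rw [key, dualTensorHom_ldualCoact, ComodSub.ldualFun_apply]
    have h := congrArg (fun y => g (TensorProduct.rid k M y)) (LinearMap.congr_fun c.counit_comp m)
    simp only [LinearMap.comp_apply, LinearMap.flip_apply, TensorProduct.mk_apply, TensorProduct.rid_tmul, one_smul] at h
    refine Eq.trans ?_ h
    induction c.coact m using TensorProduct.induction_on with
    | zero => simp
    | add p q hp hq => simp only [map_add, hp, hq]
    | tmul x a => simp [mul_comm]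

theorem isLDual_ldual (c : HopfRep.Comod k A M) : ComodSub.LComod.IsLDual c (ldual c) :=
  dualTensorHom_ldualCoact c

end LDual

section Contragredient

variable {k : Type u} [CommRing k] {A : Type v} [CommRing A] [HopfAlgebra k A] [Module.Flat k A]
variable {M : Type w} [AddCommGroup M] [Module k M] [Module.FinitePresentation k M]

/-- The contragredient comodule. -/
theorem exists_isDual (c : HopfRep.Comod k A M) :
    ∃ d : HopfRep.Comod k A (Module.Dual k M), ComodTens.Comod.IsDual c d := by
  refine ⟨rightOfLeft (ldual c), fun f => LinearMap.ext fun m => ?_⟩
  show dualTensorHom k M A (ComodSub.rcoactOfLeft (ldual c) f) m = _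
  have key : ∀ z : A ⊗[k] Module.Dual k M,
      dualTensorHom k M A (TensorProduct.comm k A (Module.Dual k M) ((HopfAlgebra.antipode k).rTensor _ z)) m =
        HopfAlgebra.antipode k (dualTensorHom k M A (TensorProduct.comm k A (Module.Dual k M) z) m) := fun z => by
    induction z using TensorProduct.induction_on with
    | zero => simp
    | add p q hp hq => simp only [map_add, LinearMap.add_apply, hp, hq]
    | tmul a φ => simp
  rw [ComodSub.rcoactOfLeft_apply, key, show (ldual c).coact f = ldualCoact c f from rfl, dualTensorHom_ldualCoact, ComodSub.ldualFun_apply,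
    ComodTens.dualCoactFun_apply]
  induction c.coact m using TensorProduct.induction_on with
  | zero => simp
  | add p q hp hq => simp only [map_add, hp, hq]
  | tmul x a => simp

end Contragredient

end Groth.Agent.ComodLib
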