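import Groth.Agent.ComodLib.Contraction
import Groth.Agent.ComodLib.Dual
import Mathlib.RingTheory.Flat.Basic

/-!
# Fixed-vector criteria for linear reductivity
-/

universe u v

open TensorProduct

namespace Groth.Agent.ComodLib

variable (k : Type u) [Field k] (A : Type v) [CommRing A] [HopfAlgebra k A]

/-- Every finite comodule with an equivariant surjection onto the trivial line has a fixed vector off its kernel. -/
def HasFixedVectors : Prop :=
  ∀ (V : Type v) [AddCommGroup V] [Module k V] [HopfRep.Comod k A V], Module.Finite k V →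
    ∀ π : V →ₗ[k] k, Function.Surjective π →
      LinearMap.rTensor A π ∘ₗ HopfRep.Comod.coact (k := k) (A := A) (V := V) =
        (TensorProduct.mk k k A).flip (1 : A) ∘ₗ π →
      ∃ v ∈ HopfRep.fixedPts k A V, π v ≠ 0

variable {k A}

theorem hasFixedVectors_of_isLinearlyReductive (hG : HopfRep.IsLinearlyReductive k A) : HasFixedVectors k A := by
  intro V _ _ _ _ π hsurj hπ
  letI : HopfRep.Comod k A k := HopfRep.Comod.trivial k A k
  obtain ⟨v, hv, h1⟩ := exists_fixedPt_lift (isSemisimpleComod_of_isLinearlyReductive hG) (f := π)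
    (show Hoch.IsComodHom A π from hπ.symm) hsurj (w := (1 : k)) rfl
  exact ⟨v, hv, by rw [h1]; exact one_ne_zero⟩

/-- An invariant form, normalised, on each finite subcomodule of the regular comodule containing `1`. -/
theorem exists_local_integral (h : HasFixedVectors k A) (U : Submodule k A)
    (hU : HopfRep.IsSubcomod (k := k) (A := A) U) (hfin : Module.Finite k U) (h1 : (1 : A) ∈ U) :
    ∃ F : A →ₗ[k] k, F 1 = 1 ∧ ∀ x ∈ U, F.rTensor A (Coalgebra.comul (R := k) x) = F x ⊗ₜ[k] (1 : A) := by
  letI c : HopfRep.Comod k A U := ComodSub.Comod.restr (HopfRep.Comod.regular k A) U hU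
  haveI := Module.finitePresentation_of_finite k U
  obtain ⟨d, hd⟩ := exists_isDual c
  letI := d
  let π : Module.Dual k U →ₗ[k] k := LinearMap.applyₗ (⟨1, h1⟩ : U)
  have hcu : c.coact (⟨1, h1⟩ : U) = (⟨1, h1⟩ : U) ⊗ₜ[k] (1 : A) := by
    refine ComodSub.rTensor_subtype_injective (A := A) U ?_
    show _ = U.subtype.rTensor A _
    rw [ComodSub.restr_coact_coe, LinearMap.rTensor_tmul]
    exact (Bialgebra.comul_one (R := k) (A := A)).trans Algebra.TensorProduct.one_def
  have hπ : LinearMap.rTensor A π ∘ₗ d.coact = (TensorProduct.mk k k A).flip (1 : A) ∘ₗ π := by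
    refine LinearMap.ext fun f => ?_
    apply (TensorProduct.lid k A).injective
    have key : ∀ z : Module.Dual k U ⊗[k] A,
        TensorProduct.lid k A (π.rTensor A z) = dualTensorHom k U A z ⟨1, h1⟩ := fun z => by
      induction z using TensorProduct.induction_on with
      | zero => simp
      | tmul φ a => simp [π]
      | add p q hp hq => simp only [map_add, LinearMap.add_apply, hp, hq]
    rw [LinearMap.comp_apply, key, hd f, ComodTens.dualCoactFun_apply, hcu]
    simp [π]
  have hsurj : Function.Surjective π := by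
    obtain ⟨g, hg⟩ := Module.Projective.exists_dual_eq_one k (x := (⟨1, h1⟩ : U)) fun h0 => by
      have := congrArg (Coalgebra.counit (R := k)) (congrArg Subtype.val h0)
      simp [Bialgebra.counit_one] at this
    exact fun r => ⟨r • g, by simp [π, hg]⟩
  obtain ⟨f, hf, hf1⟩ : ∃ f ∈ HopfRep.fixedPts k A (Module.Dual k U), π f ≠ 0 := by
    obtain ⟨D, _, _, cD, e, hDf, he⟩ := exists_copy (k := k) (A := A) d
    letI := cD
    have he' : Hoch.IsComodHom A e.symm.toLinearMap := isComodHom_symm e he
    obtain ⟨g, hg, hg1⟩ := h D hDf (π ∘ₗ e.symm.toLinearMap) (hsurj.comp e.symm.surjective) (by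
      rw [LinearMap.rTensor_comp, LinearMap.comp_assoc, ← he', ← LinearMap.comp_assoc, hπ]
      rfl)
    exact ⟨e.symm g, map_mem_fixedPts he' hg, hg1⟩
  let f' : Module.Dual k U := (π f)⁻¹ • f
  obtain ⟨F, hF⟩ := LinearMap.exists_extend f'
  have hFx : ∀ u : U, F (u : A) = f' u := fun u => LinearMap.congr_fun hF u
  have hf' : f' ∈ HopfRep.fixedPts k A (Module.Dual k U) := Submodule.smul_mem _ _ hf
  refine ⟨F, by rw [hFx ⟨1, h1⟩]; exact inv_mul_cancel₀ hf1, fun x hx => ?_⟩
  have e := LinearMap.congr_fun (hd f') ⟨x, hx⟩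
  rw [show d.coact f' = f' ⊗ₜ[k] (1 : A) from hf', dualTensorHom_apply, ComodTens.dualCoactFun_apply] at e
  have e' := congrArg (HopfAlgebra.antipode k) e
  rw [map_smul, HopfAlgebra.antipode_one] at e'
  apply (TensorProduct.lid k A).injective
  rw [hFx ⟨x, hx⟩, TensorProduct.lid_tmul]
  refine Eq.trans ?_ e'.symm
  rw [show Coalgebra.comul (R := k) x = U.subtype.rTensor A (c.coact ⟨x, hx⟩) from
    (ComodSub.restr_coact_coe (HopfRep.Comod.regular k A) U hU ⟨x, hx⟩).symm]
  induction c.coact ⟨x, hx⟩ using TensorProduct.induction_on with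
  | zero => simp
  | add p q hp hq => simp only [map_add, hp, hq]
  | tmul u a => simp [hFx, antipode_antipode_apply]

/-- Two local integrals agree. -/
theorem local_integral_unique {U U' : Submodule k A} (hU : HopfRep.IsSubcomod (k := k) (A := A) U) {F F' : A →ₗ[k] k}
    (hF1 : F 1 = 1) (hF : ∀ x ∈ U, F.rTensor A (Coalgebra.comul (R := k) x) = F x ⊗ₜ[k] (1 : A))
    (hF'1 : F' 1 = 1) (hF' : ∀ x ∈ U', F'.rTensor A (Coalgebra.comul (R := k) x) = F' x ⊗ₜ[k] (1 : A))
    {v : A} (hv : v ∈ U) (hSv : HopfAlgebra.antipode k v ∈ U') : F v = F' (HopfAlgebra.antipode k v) := by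
  let G : A →ₗ[k] k := F' ∘ₗ HopfAlgebra.antipode k
  have hG : G.lTensor A (Coalgebra.comul (R := k) v) = (1 : A) ⊗ₜ[k] G v := by
    have key : ∀ z : A ⊗[k] A,
        TensorProduct.comm k k A ((HopfAlgebra.antipode k).lTensor k
          (F'.rTensor A (TensorProduct.map (HopfAlgebra.antipode k) (HopfAlgebra.antipode k)
            (TensorProduct.comm k A A z)))) = G.lTensor A z := fun z => by
      induction z using TensorProduct.induction_on with
      | zero => simp
      | tmul p q => simp [G, antipode_antipode_apply]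
      | add p q hp hq => simp only [map_add, hp, hq]
    rw [← key, ← comul_antipode, hF' _ hSv]
    simp [G]
  have e : TensorProduct.lid k k (F.rTensor k (G.lTensor A (Coalgebra.comul (R := k) v))) =
      TensorProduct.lid k k (G.lTensor k (F.rTensor A (Coalgebra.comul (R := k) v))) := by
    rw [← LinearMap.comp_apply, LinearMap.rTensor_comp_lTensor, ← LinearMap.lTensor_comp_rTensor, LinearMap.comp_apply]
  rw [hG, hF v hv] at e
  simp [G, hF1, hF'1] at e
  exact e.symm

/-- The fixed-vector property implies linear reductivity. -/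
theorem isLinearlyReductive_of_hasFixedVectors (h : HasFixedVectors k A) : HopfRep.IsLinearlyReductive k A := by
  classical
  have hex : ∀ s : Finset A, ∃ U : Submodule k A, HopfRep.IsSubcomod (k := k) (A := A) U ∧
      (∀ x ∈ s, x ∈ U) ∧ ∃ F : A →ₗ[k] k, F 1 = 1 ∧
        ∀ x ∈ U, F.rTensor A (Coalgebra.comul (R := k) x) = F x ⊗ₜ[k] (1 : A) := fun s => by
    obtain ⟨U, hfin, hle, hU⟩ := exists_finite_subcomod_le (k := k) (C := A) (V := A)
      (Finset.finite_toSet (insert 1 s))
    exact ⟨U, hU, fun x hx => hle (by simp [hx]),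
      exists_local_integral h U hU hfin (hle (by simp))⟩
  choose U hU hmem F hF1 hF using hex
  let α₀ : A → k := fun a => F {a} a
  have hagree : ∀ (s : Finset A), ∀ a ∈ U s, F s a = α₀ a := fun s a ha => by
    let t : Finset A := {HopfAlgebra.antipode k a}
    have hSa : HopfAlgebra.antipode k a ∈ U t := hmem t _ (Finset.mem_singleton_self _)
    rw [local_integral_unique (hU s) (hF1 s) (hF s) (hF1 t) (hF t) ha hSa]
    exact (local_integral_unique (hU {a}) (hF1 _) (hF _) (hF1 t) (hF t)
      (hmem {a} a (Finset.mem_singleton_self a)) hSa).symm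
  let α : A →ₗ[k] k :=
    { toFun := α₀
      map_add' := fun a b => by
        have ha : a ∈ U {a, b} := hmem _ a (by simp)
        have hb : b ∈ U {a, b} := hmem _ b (by simp)
        rw [← hagree _ a ha, ← hagree _ b hb, ← hagree _ _ ((U {a, b}).add_mem ha hb), map_add]
      map_smul' := fun r a => by
        have ha : a ∈ U {a} := hmem _ a (by simp)
        rw [← hagree _ a ha, ← hagree _ _ ((U {a}).smul_mem r ha), map_smul, RingHom.id_apply] }
  refine isLinearlyReductive_of_integral (α := α) (fun a => ?_) ?_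
  · have ha : a ∈ U {a} := hmem _ a (by simp)
    obtain ⟨z, hz⟩ := hU {a} a ha
    have hcomp : α ∘ₗ (U {a}).subtype = F {a} ∘ₗ (U {a}).subtype :=
      LinearMap.ext fun u => (hagree _ u u.2).symm
    have hα : α a = F {a} a := (hagree _ a ha).symm
    rw [hα, ← hF {a} a ha, show Coalgebra.comul (R := k) a = (U {a}).subtype.rTensor A z from hz.symm,
      ← LinearMap.comp_apply, ← LinearMap.rTensor_comp, hcomp, LinearMap.rTensor_comp, LinearMap.comp_apply]
  · exact (hagree {1} 1 (hmem _ 1 (by simp))).symm.trans (hF1 _)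

section Hochschild

theorem d_one_apply {V : Type v} [AddCommGroup V] [Module k V] [HopfRep.Comod k A V] (w : V ⊗[k] A) :
    Hoch.d k A V 1 w = (HopfRep.Comod.coact (k := k) (A := A)).rTensor A w -
      (TensorProduct.assoc k V A A).symm ((Coalgebra.comul (R := k)).lTensor V w) + w ⊗ₜ[k] (1 : A) := by
  rw [Hoch.d_succ, LinearMap.add_apply, LinearMap.smul_apply]
  induction w using TensorProduct.induction_on with
  | zero => simp
  | tmul x a =>
    rw [show ((-1 : k) ^ (0 + 1)) = -1 by norm_num, neg_one_smul, LinearMap.rTensor_tmul, Hoch.d_zero_apply,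
      Hoch.tail_tmul, LinearMap.rTensor_tmul, LinearMap.lTensor_tmul,
      tmul_sub, tmul_sub, map_sub, map_sub, TensorProduct.assoc_symm_tmul, TensorProduct.assoc_symm_tmul, sub_tmul]
    abel
  | add p q hp hq =>
    simp only [map_add, smul_add, add_tmul]
    rw [add_add_add_comm, hp, hq]
    abel

theorem d_one_d_zero {V : Type v} [AddCommGroup V] [Module k V] [HopfRep.Comod k A V] (v : V) :
    Hoch.d k A V 1 (Hoch.d k A V 0 v) = 0 := by
  have hc := congrArg (TensorProduct.assoc k V A A).symm
    (LinearMap.congr_fun (HopfRep.Comod.coassoc (k := k) (A := A) (V := V)) v)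
  simp only [LinearMap.comp_apply, LinearEquiv.coe_coe, LinearEquiv.symm_apply_apply] at hc
  rw [Hoch.d_zero_apply, d_one_apply, map_sub, map_sub, map_sub, hc, LinearMap.rTensor_tmul, LinearMap.lTensor_tmul,
    Bialgebra.comul_one, Algebra.TensorProduct.one_def, TensorProduct.assoc_symm_tmul, sub_tmul]
  abel

theorem hasFixedVectors_of_H1
    (h : ∀ (V : Type v) [AddCommGroup V] [Module k V] [HopfRep.Comod k A V], Module.Finite k V →
      Hoch.cocycles k A V 1 ≤ Hoch.coboundaries k A V 1) : HasFixedVectors k A := by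
  intro V _ _ cV hfin π hsurj hπ
  let K : Submodule k V := LinearMap.ker π
  have hK : HopfRep.IsSubcomod (k := k) (A := A) K := by
    letI : HopfRep.Comod k A k := HopfRep.Comod.trivial k A k
    exact isSubcomod_ker (C := A) (f := π) hπ.symm
  letI cK : HopfRep.Comod k A K := ComodSub.Comod.restr cV K hK
  obtain ⟨v₀, hv₀⟩ := hsurj 1
  have hwK : Hoch.d k A V 0 v₀ ∈ LinearMap.range (K.subtype.rTensor A) := by
    refine (Module.Flat.rTensor_exact A (LinearMap.exact_subtype_ker_map π) _).mp ?_
    have e := LinearMap.congr_fun hπ v₀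
    simp only [LinearMap.comp_apply] at e
    rw [Hoch.d_zero_apply, map_sub, e, LinearMap.rTensor_tmul]
    simp
  obtain ⟨w, hw⟩ := hwK
  have hcoc : w ∈ Hoch.cocycles k A K 1 := by
    rw [Hoch.cocycles, LinearMap.mem_ker]
    apply Module.Flat.rTensor_preserves_injective_linearMap (M := A) _
      (ComodSub.rTensor_subtype_injective (A := A) K)
    rw [map_zero, ← d_one_d_zero (k := k) (A := A) v₀, ← hw, d_one_apply, d_one_apply]
    clear hw
    induction w using TensorProduct.induction_on with
    | zero => simp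
    | tmul x a =>
      simp only [LinearMap.rTensor_tmul, LinearMap.lTensor_tmul, map_add, map_sub]
      rw [ComodSub.restr_coact_coe]
      congr 1
      congr 1
      induction Coalgebra.comul (R := k) a using TensorProduct.induction_on with
      | zero => simp
      | tmul p q => simp
      | add p q hp hq => simp only [tmul_add, map_add, hp, hq]
    | add p q hp hq =>
      simp only [map_add, map_sub, add_tmul] at hp hq ⊢
      linear_combination (norm := abel) hp + hq
  obtain ⟨κ, hκ⟩ := h K inferInstance hcoc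
  refine ⟨v₀ - κ, ?_, by rw [map_sub, hv₀, LinearMap.mem_ker.mp κ.2, sub_zero]; exact one_ne_zero⟩
  have e : Hoch.d k A V 0 (κ : V) = Hoch.d k A V 0 v₀ := by
    rw [← hw, ← hκ, Hoch.d_zero_apply, Hoch.d_zero_apply, map_sub, LinearMap.rTensor_tmul,
      ComodSub.restr_coact_coe]
    rfl
  show HopfRep.Comod.coact (k := k) (A := A) (v₀ - κ) = (v₀ - κ) ⊗ₜ[k] (1 : A)
  rw [← sub_eq_zero, ← Hoch.d_zero_apply, map_sub, e, sub_self]

end Hochschild

end Groth.Agent.ComodLib
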