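import Groth.Agent.ComodLib.StableLocus
import Mathlib.Topology.Constructible

/-!
# Closed orbits and finite stabilizer schemes, on rational points
-/

universe u

open TensorProduct WithConv

namespace Groth.Agent.ComodLib

open GLin (orbitHom actPt InOrbitClosure)

set_option linter.style.haveILetI false
set_option linter.unusedSectionVars false

attribute [local instance] RingHom.ker_isPrime

variable {k : Type u} [Field k] [IsAlgClosed k] {A : Type u} [CommRing A] [HopfAlgebra k A] [Algebra.FiniteType k A]
variable {R : Type u} [CommRing R] [Algebra k R] [HopfRep.Comod k A R] [GLin.IsCoactAlg k A R]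

omit [IsAlgClosed k] in
theorem exists_closedPoint_of_isConstructible {S : Type u} [CommRing S] [IsJacobsonRing S]
    {s : Set (PrimeSpectrum S)} (hs : Topology.IsConstructible s) (hne : s.Nonempty) :
    (s ∩ closedPoints (PrimeSpectrum S)).Nonempty := by
  revert hne
  induction s, hs using Topology.IsConstructible.induction_of_isTopologicalBasis
    (b := fun f : S => (PrimeSpectrum.basicOpen f : Set (PrimeSpectrum S))) with
  | basis => exact PrimeSpectrum.isTopologicalBasis_basic_opens
  | isCompact_basis i => exact PrimeSpectrum.isCompact_basicOpen i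
  | sdiff i t ht =>
    intro hne
    exact nonempty_inter_closedPoints hne
      (((PrimeSpectrum.basicOpen i).isOpen.isLocallyClosed).inter
        (isOpen_biUnion fun j _ => (PrimeSpectrum.basicOpen j).isOpen).isClosed_compl.isLocallyClosed)
  | union s _ t _ hs ht =>
    intro hne
    rcases hne with ⟨x, hx | hx⟩
    · obtain ⟨y, hy⟩ := hs ⟨x, hx⟩; exact ⟨y, Or.inl hy.1, hy.2⟩
    · obtain ⟨y, hy⟩ := ht ⟨x, hx⟩; exact ⟨y, Or.inr hy.1, hy.2⟩

variable [Algebra.FiniteType k R]

/-- An orbit is closed when every rational point of its closure is a translate. -/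
theorem isClosedOrbit_of_forall_mem {x : R →ₐ[k] k}
    (h : ∀ w, InOrbitClosure k A x w → ∃ g : A →ₐ[k] k, w = actPt k g x) : GLin.IsClosedOrbit k A x := by
  haveI : IsJacobsonRing R := isJacobsonRing_of_finiteType (A := k) (B := R)
  haveI : IsNoetherianRing R := Algebra.FiniteType.isNoetherianRing k R
  show IsClosed _
  set φ := (orbitHom k A x).toRingHom with hφ
  have hfp : φ.FinitePresentation := by
    have : φ.FiniteType :=
      AlgHom.FiniteType.of_comp_finiteType (f := Algebra.ofId k R) (g := orbitHom k A x)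
        (by rw [show (orbitHom k A x).comp (Algebra.ofId k R) = Algebra.ofId k A from Subsingleton.elim _ _]
            exact RingHom.finiteType_algebraMap.mpr inferInstance)
    exact RingHom.FinitePresentation.of_finiteType.mp this
  refine closure_subset_iff_isClosed.mp fun q hq => ?_
  by_contra hqr
  obtain ⟨m, ⟨hm, hmr⟩, hmc⟩ := exists_closedPoint_of_isConstructible
    (s := closure (Set.range (PrimeSpectrum.comap φ)) \ Set.range (PrimeSpectrum.comap φ))
    (by
      refine Topology.IsConstructible.sdiff ?_ (PrimeSpectrum.isConstructible_range_comap hfp)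
      rw [← compl_compl (closure _)]
      exact ((TopologicalSpace.NoetherianSpace.isCompact _).isConstructible isClosed_closure.isOpen_compl).compl)
    ⟨q, hq, hqr⟩
  have hmm : m.asIdeal.IsMaximal := (PrimeSpectrum.isClosed_singleton_iff_isMaximal m).mp hmc
  obtain ⟨w, hw⟩ := exists_point (k := k) m.asIdeal hmm.ne_top
  have hwm : m.asIdeal = RingHom.ker w := hmm.eq_of_le (RingHom.ker_ne_top _) hw
  rw [PrimeSpectrum.closure_range_comap, PrimeSpectrum.mem_zeroLocus] at hm
  obtain ⟨g, rfl⟩ := h w (fun f hf => hwm ▸ hm hf)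
  exact hmr ⟨⟨RingHom.ker g, RingHom.ker_isPrime _⟩, PrimeSpectrum.ext hwm.symm⟩

theorem isClosedOrbit_iff (x : R →ₐ[k] k) :
    GLin.IsClosedOrbit k A x ↔ ∀ w, InOrbitClosure k A x w → ∃ g : A →ₐ[k] k, w = actPt k g x :=
  ⟨fun hx _ hw => mem_orbit_of_isClosedOrbit hx hw, isClosedOrbit_of_forall_mem⟩

theorem hasFiniteStab_iff (x : R →ₐ[k] k) : GLin.HasFiniteStab k A x ↔ (stab (A := A) x).Finite := by
  set I := GLin.stabIdeal k A x with hI
  have hmem : ∀ g : A →ₐ[k] k, (∀ a ∈ I, g a = 0) ↔ actPt k g x = x := fun g => by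
    refine ⟨fun h => (eq_of_ker_le fun f hf => ?_).symm, fun h a ha => ?_⟩
    · exact h _ (Ideal.mem_map_of_mem _ hf)
    · have hle : I ≤ RingHom.ker g := Ideal.map_le_iff_le_comap.mpr fun f hf => by
        show g (orbitHom k A x f) = 0
        rw [show g (orbitHom k A x f) = x f from AlgHom.congr_fun h f]
        exact hf
      exact hle ha
  constructor
  · intro hfin
    haveI : Module.Finite k (A ⧸ I) := hfin
    haveI : Finite (A ⧸ I →ₐ[k] k) := Finite.algHom _ _ _
    refine (Set.finite_range fun w : A ⧸ I →ₐ[k] k => toConv (w.comp (Ideal.Quotient.mkₐ k I))).subset ?_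
    intro g hg
    exact ⟨Ideal.Quotient.liftₐ I g.ofConv ((hmem g.ofConv).mpr hg), congrArg toConv (AlgHom.ext fun a => rfl)⟩
  · intro hfin
    haveI : Algebra.FiniteType k (A ⧸ I) := inferInstance
    show Module.Finite k (A ⧸ I)
    have hp : ∀ a ∈ I, Bialgebra.counitAlgHom k A a = 0 := (hmem _).mpr (actPt_convOne x)
    obtain ⟨h1, -⟩ := finite_fibre_of_finite_pts (T := k) (Ideal.Quotient.liftₐ I _ hp) (by
      refine Set.Finite.of_finite_image (f := fun w : A ⧸ I →ₐ[k] k => toConv (w.comp (Ideal.Quotient.mkₐ k I)))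
        (hfin.subset ?_) ?_
      · rintro _ ⟨w, -, rfl⟩
        exact (hmem _).mp fun a ha => by simp [Ideal.Quotient.eq_zero_iff_mem.mpr ha]
      · intro a _ b _ hab
        exact Ideal.Quotient.algHom_ext k (congrArg WithConv.ofConv hab))
    haveI : Algebra.QuasiFinite k (A ⧸ I) :=
      Algebra.QuasiFinite.iff_finite_comap_preimage_singleton.mpr fun y => h1.subset fun q _ => by
        exact Subsingleton.elim _ _
    exact Module.Finite.of_quasiFinite

theorem isStablePt_iff (x : R →ₐ[k] k) : GLin.IsStablePt k A x ↔ IsStb (A := A) x := by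
  rw [GLin.IsStablePt, isClosedOrbit_iff, hasFiniteStab_iff]
  exact Iff.rfl

end Groth.Agent.ComodLib
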