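import Groth.Agent.ComodLib.Points
import Groth.Agent.ComodLib.Reductive
import Mathlib.RingTheory.Flat.Basic
import Mathlib.RingTheory.Bialgebra.MonoidAlgebra

/-!
# Invariant integrals, equivariant retractions, linear reductivity
-/

universe u v w w'

open TensorProduct

namespace Groth.Agent.ComodLib

open HopfRep (Comod)

section Ring

variable (k : Type u) [CommRing k] {A : Type v} [CommRing A]

/-- An invariant integral on the bialgebra: a form `α` with `(α ⊗ id) Δ a = α a ⊗ 1`. -/
def IsIntegral [Bialgebra k A] (α : A →ₗ[k] k) : Prop :=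
  ∀ a : A, α.rTensor A (Coalgebra.comul (R := k) a) = α a ⊗ₜ[k] (1 : A)

variable {k}

theorem isIntegral_iff_isComodHom [Bialgebra k A] (α : A →ₗ[k] k) :
    IsIntegral k α ↔ @Hoch.IsComodHom k _ A _ _ _ A _ _ _ k _ _ (HopfRep.Comod.trivial k A k) α :=
  ⟨fun h => LinearMap.ext fun a => (h a).symm, fun h a => (LinearMap.congr_fun h a).symm⟩

/-- The complementary projection of a subcomodule cut out by a comodule retraction is a subcomodule. -/
theorem isSubcomod_ker_of_retraction [Bialgebra k A] {V : Type w} [AddCommGroup V] [Module k V]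
    [HopfRep.Comod k A V] {U : Type w'} [AddCommGroup U] [Module k U] [HopfRep.Comod k A U]
    {p : V →ₗ[k] U} {j : U →ₗ[k] V} (hp : Hoch.IsComodHom A p) (hpj : p ∘ₗ j = LinearMap.id) :
    HopfRep.IsSubcomod (k := k) (A := A) (LinearMap.ker p) := by
  intro v hv
  rw [LinearMap.mem_ker] at hv
  let e : V →ₗ[k] LinearMap.ker p := LinearMap.codRestrict _ (LinearMap.id - j ∘ₗ p) fun x => by
    have := LinearMap.congr_fun hpj (p x)
    simp only [LinearMap.comp_apply, LinearMap.id_apply] at this
    simp [this]
  refine ⟨e.rTensor A (Comod.coact (k := k) (A := A) v), ?_⟩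
  have h := LinearMap.congr_fun hp v
  simp only [LinearMap.comp_apply, hv, map_zero] at h
  rw [← LinearMap.comp_apply, ← LinearMap.rTensor_comp]
  show (LinearMap.id - j ∘ₗ p).rTensor A _ = _
  rw [LinearMap.rTensor_sub, LinearMap.rTensor_comp, LinearMap.sub_apply, LinearMap.comp_apply, ← h, map_zero,
    sub_zero, LinearMap.rTensor_id, LinearMap.id_apply]

variable [HopfAlgebra k A]

/-- With an integral, a subcomodule with a linear complement has a subcomodule complement. -/
theorem exists_isCompl_subcomod [Module.Flat k A] {α : A →ₗ[k] k} (hα : IsIntegral k α) (h1 : α 1 = 1)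
    {V : Type w} [AddCommGroup V] [Module k V] [c : HopfRep.Comod k A V] (W : Submodule k V)
    (hW : HopfRep.IsSubcomod (k := k) (A := A) W) (hsplit : ∃ W' : Submodule k V, IsCompl W W') :
    ∃ W'' : Submodule k V, HopfRep.IsSubcomod (k := k) (A := A) W'' ∧ IsCompl W W'' := by
  obtain ⟨W', hc⟩ := hsplit
  letI : HopfRep.Comod k A W := ComodSub.Comod.restr c W hW
  have hj : Hoch.IsComodHom A W.subtype := ComodSub.isComodHom_subtype c W hW
  have hpj : Submodule.projectionOnto W W' hc ∘ₗ W.subtype = LinearMap.id := by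
    ext x
    simp
  have hid := average_comp_of_section h1 hj hpj
  exact ⟨_, isSubcomod_ker_of_retraction (isComodHom_average hα _) hid,
    LinearMap.isCompl_of_proj fun x => LinearMap.congr_fun hid x⟩

end Ring

section Field

variable {k : Type u} [Field k] {A : Type v} [CommRing A]

theorem isSemisimpleComod_of_integral [HopfAlgebra k A] {α : A →ₗ[k] k} (hα : IsIntegral k α) (h1 : α 1 = 1)
    {V : Type w} [AddCommGroup V] [Module k V] [HopfRep.Comod k A V] : HopfRep.IsSemisimpleComod k A V :=
  fun W hW => exists_isCompl_subcomod hα h1 W hW W.exists_isCompl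

theorem isLinearlyReductive_of_integral [HopfAlgebra k A] {α : A →ₗ[k] k} (hα : IsIntegral k α) (h1 : α 1 = 1) :
    HopfRep.IsLinearlyReductive k A :=
  fun _ _ _ _ _ => isSemisimpleComod_of_integral hα h1

end Field

section Complement

variable {k : Type u} [CommRing k] {A : Type v} [CommRing A] [Bialgebra k A]

/-- A subcomodule complementary to the constants gives an integral. -/
theorem exists_integral_of_isCompl (H : Submodule k A) (hH : HopfRep.IsSubcomod (k := k) (A := A) H)
    (hc : IsCompl (Submodule.span k {(1 : A)}) H) : ∃ α : A →ₗ[k] k, IsIntegral k α ∧ α 1 = 1 := by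
  let α : A →ₗ[k] k := Coalgebra.counit (R := k) (A := A) ∘ₗ
    (Submodule.span k {(1 : A)}).subtype ∘ₗ Submodule.projectionOnto _ H hc
  have hαH : ∀ h ∈ H, α h = 0 := fun h hh => by
    simp [α, Submodule.projectionOnto_apply_right hc ⟨h, hh⟩]
  have hα1 : ∀ r : k, α (r • (1 : A)) = r := fun r => by
    have h := Submodule.projectionOnto_apply_left hc
      ⟨r • (1 : A), Submodule.smul_mem _ _ (Submodule.mem_span_singleton_self 1)⟩
    simp only [α, LinearMap.comp_apply]
    rw [h]
    simp [Bialgebra.counit_one]
  refine ⟨α, fun a => ?_, by simpa using hα1 1⟩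
  obtain ⟨x, hx, y, hy, rfl⟩ := Submodule.mem_sup.mp (hc.codisjoint.eq_top ▸ Submodule.mem_top (x := a))
  obtain ⟨r, rfl⟩ := Submodule.mem_span_singleton.mp hx
  obtain ⟨z, hz⟩ := hH y hy
  have hzero : α.rTensor A (Coalgebra.comul (R := k) y) = 0 := by
    rw [show Coalgebra.comul (R := k) y = Comod.coact (k := k) (A := A) y from rfl, ← hz,
      ← LinearMap.comp_apply, ← LinearMap.rTensor_comp,
      show α ∘ₗ H.subtype = 0 from LinearMap.ext fun w => hαH w w.2, LinearMap.rTensor_zero, LinearMap.zero_apply]
  have h11 : α 1 = 1 := by simpa using hα1 1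
  rw [map_add, map_add, map_smul, map_smul, Bialgebra.comul_one, hzero, Algebra.TensorProduct.one_def,
    LinearMap.rTensor_tmul, h11, map_add, hα1, hαH y hy]
  simp [TensorProduct.smul_tmul']

end Complement

section FieldReductive

variable {k : Type u} [Field k] {A : Type v} [CommRing A]

theorem exists_integral_of_isLinearlyReductive [Bialgebra k A] (hG : HopfRep.IsLinearlyReductive k A) :
    ∃ α : A →ₗ[k] k, IsIntegral k α ∧ α 1 = 1 := by
  have h1 : HopfRep.IsSubcomod (k := k) (A := A) (Submodule.span k {(1 : A)}) := by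
    intro x hx
    obtain ⟨r, rfl⟩ := Submodule.mem_span_singleton.mp hx
    refine ⟨r • ((⟨1, Submodule.mem_span_singleton_self 1⟩ : Submodule.span k {(1 : A)}) ⊗ₜ[k] (1 : A)), ?_⟩
    rw [map_smul, LinearMap.rTensor_tmul, map_smul]
    show _ = r • Coalgebra.comul (R := k) (1 : A)
    rw [Bialgebra.comul_one, Algebra.TensorProduct.one_def]
    rfl
  obtain ⟨H, hH, hc⟩ := isSemisimpleComod_of_isLinearlyReductive hG _ h1
  exact exists_integral_of_isCompl H hH hc

theorem isLinearlyReductive_iff_exists_integral [HopfAlgebra k A] :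
    HopfRep.IsLinearlyReductive k A ↔ ∃ α : A →ₗ[k] k, IsIntegral k α ∧ α 1 = 1 :=
  ⟨exists_integral_of_isLinearlyReductive, fun ⟨_, hα, h1⟩ => isLinearlyReductive_of_integral hα h1⟩

end FieldReductive

section MonoidAlg

variable (k : Type u) [CommRing k]

theorem isIntegral_coeff_one (M : Type w) [CommMonoid M] :
    ∃ α : MonoidAlgebra k M →ₗ[k] k, IsIntegral k α ∧ α 1 = 1 := by
  classical
  refine ⟨Finsupp.lapply 1 ∘ₗ (MonoidAlgebra.coeffLinearEquiv k).toLinearMap, fun a => ?_, by simp⟩
  induction a using MonoidAlgebra.induction_linear with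
  | zero => simp
  | add p q hp hq => rw [map_add, map_add, hp, hq, map_add, TensorProduct.add_tmul]
  | single m r =>
    rw [MonoidAlgebra.comul_single]
    simp only [CommSemiring.comul_apply, TensorProduct.map_tmul, LinearMap.rTensor_tmul]
    by_cases h : m = 1
    · subst h
      simp [MonoidAlgebra.one_def]
      rw [show MonoidAlgebra.single (1 : M) r = r • MonoidAlgebra.single (1 : M) (1 : k) by simp,
        TensorProduct.tmul_smul, TensorProduct.smul_tmul', smul_eq_mul, mul_one]
    · simp [h]

theorem isIntegral_coeff_zero (M : Type w) [AddCommMonoid M] :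
    ∃ α : AddMonoidAlgebra k M →ₗ[k] k, IsIntegral k α ∧ α 1 = 1 := by
  classical
  refine ⟨Finsupp.lapply 0 ∘ₗ (AddMonoidAlgebra.coeffLinearEquiv k).toLinearMap, fun a => ?_, by simp⟩
  induction a using AddMonoidAlgebra.induction_linear with
  | zero => simp
  | add p q hp hq => rw [map_add, map_add, hp, hq, map_add, TensorProduct.add_tmul]
  | single m r =>
    rw [AddMonoidAlgebra.comul_single]
    simp only [CommSemiring.comul_apply, TensorProduct.map_tmul, LinearMap.rTensor_tmul]
    by_cases h : m = 0
    · subst h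
      simp [AddMonoidAlgebra.one_def]
      rw [show AddMonoidAlgebra.single (0 : M) r = r • AddMonoidAlgebra.single (0 : M) (1 : k) by simp,
        TensorProduct.tmul_smul, TensorProduct.smul_tmul', smul_eq_mul, mul_one]
    · simp [h]

end MonoidAlg

end Groth.Agent.ComodLib
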