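import Groth.Agent.ComodLib.PrimDiag
import Groth.Agent.ComodLib.Simple
import Groth.Agent.S3272
import Mathlib.LinearAlgebra.Eigenspace.Triangularizable
import Mathlib.RingTheory.Coalgebra.TensorProduct
import Mathlib.RingTheory.HopfAlgebra.TensorProduct
import Mathlib.RingTheory.Flat.Basic
import Mathlib.RingTheory.SimpleModule.Basic

/-!
# Primitive elements, diagonalizability and linear reductivity
-/

universe u v w

open TensorProduct WithConv

namespace Groth.Agent.ComodLib.PrimDiag

variable (k : Type u) [Field k] (A : Type v) [CommRing A] [HopfAlgebra k A]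

/-- `a ↦ Δ a - a ⊗ 1 - 1 ⊗ a`. -/
noncomputable def defect : A →ₗ[k] A ⊗[k] A :=
  CoalgebraStruct.comul (R := k) (A := A) - (TensorProduct.mk k A A).flip 1 - TensorProduct.mk k A A 1

theorem noPrim_iff : NoPrim k A ↔ Function.Injective (defect k A) := by
  rw [injective_iff_map_eq_zero]
  refine forall_congr' fun f => imp_congr ?_ Iff.rfl
  show _ ↔ CoalgebraStruct.comul (R := k) f - f ⊗ₜ[k] (1 : A) - (1 : A) ⊗ₜ[k] f = 0
  rw [sub_sub, sub_eq_zero]

variable {k A}

theorem noPrim_of_span (hB : Submodule.span k {g : A | IsGroupLikeElem k g} = ⊤) : NoPrim k A := by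
  classical
  intro z hz
  let b : Module.Basis {g : A | IsGroupLikeElem k g} k A :=
    Module.Basis.mk linearIndepOn_isGroupLikeElem (by simp [hB])
  have hb : ∀ g, b g = g.1 := fun g => Module.Basis.mk_apply _ _ g
  refine b.ext_elem fun g => ?_
  rw [map_zero, Finsupp.zero_apply]
  let one' : {g : A | IsGroupLikeElem k g} := ⟨1, IsGroupLikeElem.one⟩
  let Φ : A ⊗[k] A →ₗ[k] k := LinearMap.mul' k k ∘ₗ TensorProduct.map (b.coord g) (b.coord g)
  have key : Φ ∘ₗ CoalgebraStruct.comul (R := k) (A := A) = b.coord g := by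
    refine b.ext fun h => ?_
    rw [LinearMap.comp_apply, hb, h.2.comul_eq_tmul_self, ← hb h]
    simp only [Φ, LinearMap.comp_apply, TensorProduct.map_tmul, LinearMap.mul'_apply, Module.Basis.coord_apply,
      Module.Basis.repr_self, Finsupp.single_apply]
    split <;> simp
  have h2 := LinearMap.congr_fun key z
  rw [LinearMap.comp_apply, hz] at h2
  have h1 : (1 : A) = b one' := (hb one').symm
  rw [h1] at h2
  simp only [Φ, map_add, LinearMap.comp_apply, TensorProduct.map_tmul, LinearMap.mul'_apply,
    Module.Basis.coord_apply, Module.Basis.repr_self, Finsupp.single_apply] at h2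
  by_cases hg : one' = g
  · rw [if_pos hg, _root_.mul_one, _root_.one_mul] at h2
    simpa using h2
  · rw [if_neg hg, mul_zero, zero_mul, add_zero] at h2
    exact h2.symm

section BaseChange

variable {R : Type w} [CommRing R] [Algebra k R]

theorem comul_one_tmul (a : A) :
    CoalgebraStruct.comul (R := R) ((1 : R) ⊗ₜ[k] a) =
      AlgebraTensorModule.distribBaseChange k R A A ((1 : R) ⊗ₜ[k] CoalgebraStruct.comul (R := k) a) := by
  rw [TensorProduct.comul_tmul, show CoalgebraStruct.comul (R := R) (1 : R) = (1 : R) ⊗ₜ[R] (1 : R) from Bialgebra.comul_one]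
  induction CoalgebraStruct.comul (R := k) a using TensorProduct.induction_on with
  | zero => simp
  | tmul u w => simp [AlgebraTensorModule.distribBaseChange]
  | add u w hu hw => simp only [TensorProduct.tmul_add, map_add, hu, hw]

theorem defect_one_tmul (a : A) : CoalgebraStruct.comul (R := R) ((1 : R) ⊗ₜ[k] a) -
      ((1 : R) ⊗ₜ[k] a) ⊗ₜ[R] (1 : R ⊗[k] A) - (1 : R ⊗[k] A) ⊗ₜ[R] ((1 : R) ⊗ₜ[k] a) =
    AlgebraTensorModule.distribBaseChange k R A A ((1 : R) ⊗ₜ[k] defect k A a) := by
  rw [comul_one_tmul]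
  simp [defect, TensorProduct.tmul_sub, AlgebraTensorModule.distribBaseChange, Algebra.TensorProduct.one_def]

variable {K : Type w} [Field K] [Algebra k K]

theorem defect_baseChange (z : K ⊗[k] A) : defect K (K ⊗[k] A) z =
    AlgebraTensorModule.distribBaseChange k K A A ((defect k A).baseChange K z) := by
  induction z using TensorProduct.induction_on with
  | zero => simp
  | add u w hu hw => simp only [map_add, hu, hw]
  | tmul r a =>
    rw [show r ⊗ₜ[k] a = r • ((1 : K) ⊗ₜ[k] a) by rw [TensorProduct.smul_tmul', smul_eq_mul, _root_.mul_one], map_smul,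
      map_smul, map_smul]
    congr 1
    rw [LinearMap.baseChange_tmul, ← defect_one_tmul]
    rfl

theorem noPrim_baseChange (hA : NoPrim k A) : NoPrim K (K ⊗[k] A) := by
  rw [noPrim_iff] at hA ⊢
  intro x y h
  rw [defect_baseChange, defect_baseChange] at h
  exact (Module.Flat.lTensor_preserves_injective_linearMap (M := K) (defect k A) hA) ((LinearEquiv.injective _) h)

theorem noPrim_of_baseChange (hA : NoPrim K (K ⊗[k] A)) : NoPrim k A := by
  rw [noPrim_iff] at hA ⊢
  intro x y h
  refine Algebra.TensorProduct.includeRight_injective (R := k) (A := K) (algebraMap k K).injective (hA ?_)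
  simp only [Algebra.TensorProduct.includeRight_apply]
  rw [defect_baseChange, defect_baseChange, LinearMap.baseChange_tmul, LinearMap.baseChange_tmul, h]

theorem isCocomm_of_span (hB : Submodule.span k {g : A | IsGroupLikeElem k g} = ⊤) : Coalgebra.IsCocomm k A := by
  refine ⟨LinearMap.ext_on hB fun g (hg : IsGroupLikeElem k g) => ?_⟩
  simp [hg.comul_eq_tmul_self]

theorem isCocomm_of_baseChange (hA : Coalgebra.IsCocomm K (K ⊗[k] A)) : Coalgebra.IsCocomm k A := by
  refine ⟨LinearMap.ext fun a => ?_⟩
  have h := LinearMap.congr_fun hA.comm_comp_comul ((1 : K) ⊗ₜ[k] a)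
  have e : ∀ z : A ⊗[k] A, TensorProduct.comm K (K ⊗[k] A) (K ⊗[k] A)
      (AlgebraTensorModule.distribBaseChange k K A A ((1 : K) ⊗ₜ[k] z)) =
      AlgebraTensorModule.distribBaseChange k K A A ((1 : K) ⊗ₜ[k] TensorProduct.comm k A A z) := fun z => by
    induction z using TensorProduct.induction_on with
    | zero => simp
    | tmul u w => simp [AlgebraTensorModule.distribBaseChange]
    | add u w hu hw => simp only [TensorProduct.tmul_add, map_add, hu, hw]
  simp only [LinearMap.comp_apply, LinearEquiv.coe_coe] at h ⊢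
  rw [comul_one_tmul, e] at h
  exact Algebra.TensorProduct.includeRight_injective (R := k) (A := K) (algebraMap k K).injective
    ((LinearEquiv.injective _) h)

end BaseChange

/-- A linearly reductive group has no nonzero additive characters. -/
theorem noPrim_of_isLinearlyReductive (h : HopfRep.IsLinearlyReductive k A) : NoPrim k A := by
  classical
  intro f hf
  let W : Submodule k A := Submodule.span k {1, f}
  have h1W : (1 : A) ∈ W := Submodule.subset_span (by simp)
  have hfW : f ∈ W := Submodule.subset_span (by simp)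
  have hWc : HopfRep.IsSubcomod (k := k) (A := A) W := by
    have : W ≤ (LinearMap.range (W.subtype.rTensor A)).comap (CoalgebraStruct.comul (R := k) (A := A)) := by
      refine Submodule.span_le.mpr ?_
      rintro x (rfl | rfl)
      · exact ⟨⟨1, h1W⟩ ⊗ₜ[k] 1, by simp [Algebra.TensorProduct.one_def]⟩
      · exact ⟨⟨x, hfW⟩ ⊗ₜ[k] 1 + ⟨1, h1W⟩ ⊗ₜ[k] x, by simp [hf]⟩
    exact this
  haveI : Module.Finite k W := Module.Finite.span_of_finite k (Set.toFinite _)
  letI : HopfRep.Comod k A W := ComodSub.Comod.restr (HopfRep.Comod.regular k A) W hWc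
  have hi : Hoch.IsComodHom A W.subtype := ComodSub.isComodHom_subtype _ W hWc
  let U : Submodule k W := (Submodule.span k {(1 : A)}).comap W.subtype
  have h1c : HopfRep.IsSubcomod (k := k) (A := A) (Submodule.span k {(1 : A)}) := by
    intro x hx
    obtain ⟨c, rfl⟩ := Submodule.mem_span_singleton.mp hx
    exact ⟨⟨c • 1, hx⟩ ⊗ₜ[k] 1, by
      show (c • (1 : A)) ⊗ₜ[k] (1 : A) = CoalgebraStruct.comul (R := k) (c • (1 : A))
      rw [map_smul, Bialgebra.comul_one, Algebra.TensorProduct.one_def, TensorProduct.smul_tmul']⟩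
  obtain ⟨U', hU', hc⟩ := h W inferInstance U (isSubcomod_comap hi h1c)
  obtain ⟨y, hy, z, hz, hyz⟩ := Submodule.mem_sup.mp (hc.sup_eq_top ▸ Submodule.mem_top : (⟨f, hfW⟩ : W) ∈ U ⊔ U')
  obtain ⟨c, hc'⟩ := Submodule.mem_span_singleton.mp (show (y : A) ∈ Submodule.span k {1} from hy)
  have hzv : (z : A) = f - c • 1 := by
    rw [hc', eq_sub_iff_add_eq']
    exact congrArg Subtype.val hyz
  have hact : ∀ ψ : A →ₗ[k] k, actF ψ (z : A) = ψ 1 • (z : A) + ψ f • (1 : A) := fun ψ => by
    rw [actF_apply, show HopfRep.Comod.coact (k := k) (A := A) (z : A) = CoalgebraStruct.comul (R := k) (z : A) from rfl,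
      hzv, map_sub, map_smul, hf, Bialgebra.comul_one, Algebra.TensorProduct.one_def]
    simp only [map_sub, map_add, map_smul, slice_tmul]
    module
  refine (Module.forall_dual_apply_eq_zero_iff k f).mp fun ψ => ?_
  let w : W := actF ψ z - ψ 1 • z
  have hwU' : w ∈ U' := sub_mem (subcomod_actF_mem hU' ψ hz) (U'.smul_mem _ hz)
  have hwv : (w : A) = ψ f • (1 : A) := by
    show ((actF ψ z : W) : A) - ψ 1 • (z : A) = _
    rw [show ((actF ψ z : W) : A) = actF ψ (z : A) from comodHom_actF hi ψ z, hact, add_sub_cancel_left]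
  have hwU : w ∈ U := by
    show (w : A) ∈ Submodule.span k {(1 : A)}
    rw [hwv]
    exact Submodule.smul_mem _ _ (Submodule.mem_span_singleton_self 1)
  have hw0 : w = 0 := Submodule.disjoint_def.mp hc.disjoint w hwU hwU'
  have h0 := congrArg (fun x : W => Coalgebra.counit (R := k) (x : A)) hw0
  simp only [hwv, map_smul, Bialgebra.counit_one, smul_eq_mul, _root_.mul_one, Submodule.coe_zero, map_zero] at h0
  exact h0

/-- Diagonalizable groups are linearly reductive. -/
theorem isLinearlyReductive_of_isDiagonalizable (hA : HopfRep.IsDiagonalizable k A) :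
    HopfRep.IsLinearlyReductive k A := by
  classical
  intro V _ _ _ hV U hU
  let E : Set V := {v : V | ∃ a : A, HopfRep.Comod.coact (k := k) (A := A) v = v ⊗ₜ[k] a}
  have hE : Submodule.span k E = ⊤ := (S3272.result k A).1 hA V hV
  obtain ⟨t, ht, hsp, hli⟩ := exists_linearIndependent k (U.mkQ '' E)
  choose g hgE hg using fun x : t => ht x.2
  let W := Submodule.span k (Set.range g)
  have hW : HopfRep.IsSubcomod (k := k) (A := A) W := by
    have : W ≤ (LinearMap.range (W.subtype.rTensor A)).comap (HopfRep.Comod.coact (k := k) (A := A) (V := V)) := by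
      refine Submodule.span_le.mpr ?_
      rintro _ ⟨x, rfl⟩
      obtain ⟨a, ha⟩ := hgE x
      exact ⟨⟨g x, Submodule.subset_span ⟨x, rfl⟩⟩ ⊗ₜ[k] a, by rw [LinearMap.rTensor_tmul, Submodule.subtype_apply, ha]⟩
    exact this
  have hcomp : U.mkQ ∘ g = ((↑) : t → V ⧸ U) := funext hg
  refine ⟨W, hW, ?_, ?_⟩
  · have := Submodule.range_ker_disjoint (f := U.mkQ) (v := g) (hcomp ▸ hli)
    rwa [Submodule.ker_mkQ, disjoint_comm] at this
  · rw [codisjoint_iff, ← Submodule.comap_map_mkQ, Submodule.map_span, ← Set.range_comp, hcomp, Subtype.range_coe,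
      hsp, ← Submodule.map_span, hE, Submodule.map_top, Submodule.range_mkQ, Submodule.comap_top]

/-- Over an algebraically closed field a commutative affine group is trigonalizable. -/
theorem isTrigonalizable_of_isCocomm [IsAlgClosed k] [Coalgebra.IsCocomm k A] : HopfRep.IsTrigonalizable k A := by
  intro V _ _ _ hV hS
  haveI := hS.1
  have hscal : ∀ φ : A →ₗ[k] k, ∃ c : k, ∀ v : V, actF φ v = c • v := by
    intro φ
    obtain ⟨c, hc⟩ := Module.End.exists_eigenvalue (actF φ : Module.End k V)
    have hcomm : Hoch.IsComodHom A ((actF φ : V →ₗ[k] V) - c • LinearMap.id) :=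
      isComodHom_iff_actF.mpr fun ψ v => by
        simp only [LinearMap.sub_apply, LinearMap.smul_apply, LinearMap.id_apply, map_sub, map_smul]
        have h1 := actF_convMul (toConv φ) (toConv ψ) v
        have h2 := actF_convMul (toConv ψ) (toConv φ) v
        rw [mul_comm (toConv φ) (toConv ψ)] at h1
        rw [show actF φ (actF ψ v) = actF ψ (actF φ v) from h1.symm.trans h2]
    obtain ⟨v, hv, hv0⟩ := hc.exists_hasEigenvector
    rcases hS.2 _ (isSubcomod_ker hcomm) with h | h
    · refine absurd ((Submodule.mem_bot k).mp (h ▸ ?_ : v ∈ (⊥ : Submodule k V))) hv0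
      simpa [sub_eq_zero] using Module.End.mem_eigenspace_iff.mp hv
    · refine ⟨c, fun x => ?_⟩
      have hx : x ∈ LinearMap.ker ((actF φ : V →ₗ[k] V) - c • LinearMap.id) := h ▸ Submodule.mem_top
      simpa [sub_eq_zero] using hx
  obtain ⟨v, hv⟩ := exists_ne (0 : V)
  have hsub : HopfRep.IsSubcomod (k := k) (A := A) (Submodule.span k {v}) := isSubcomod_iff_actF.mpr fun φ x hx => by
    obtain ⟨c, hc⟩ := hscal φ
    rw [hc]
    exact Submodule.smul_mem _ _ hx
  rcases hS.2 _ hsub with h | h
  · exact absurd (Submodule.span_singleton_eq_bot.mp h) hv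
  · rw [← finrank_top, ← h, finrank_span_singleton hv]

end Groth.Agent.ComodLib.PrimDiag
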