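import Groth.Agent.ComodLib.StableLocus
import Mathlib.RingTheory.Filtration
import Mathlib.RingTheory.Jacobson.Ring
import Mathlib.RingTheory.Smooth.Field
import Mathlib.RingTheory.Smooth.Locus
import Mathlib.RingTheory.KrullDimension.Zero
import Mathlib.RingTheory.Ideal.MinimalPrime.Localization
import Mathlib.RingTheory.MvPolynomial.Basic

/-!
# Reduced homogeneous algebras are smooth, and the truncations of a smooth algebra at a rational point
-/

universe u v

open WithConv

namespace Groth.Agent.ComodLib.RedSm

set_option linter.style.haveILetI false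
set_option linter.unusedSectionVars false

attribute [local instance] RingHom.ker_isPrime

variable {k : Type u} [Field k] {B : Type v} [CommRing B] [Algebra k B]

theorem isSmoothAt_of_algEquiv (σ : B ≃ₐ[k] B) (p : Ideal B) [p.IsPrime] (q : Ideal B) [q.IsPrime]
    (h : p = q.comap (σ : B →ₐ[k] B)) (hq : Algebra.IsSmoothAt k q) : Algebra.IsSmoothAt k p := by
  haveI := hq
  have hm : p.primeCompl.map (σ.toMulEquiv.toMonoidHom) = q.primeCompl := by
    ext y
    constructor
    · rintro ⟨x, hx, rfl⟩
      exact fun hy => hx (h ▸ hy)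
    · exact fun hy => ⟨σ.symm y, fun hx => hy (by rw [h] at hx; simpa using hx), σ.apply_symm_apply y⟩
  exact Algebra.FormallySmooth.of_equiv
    (IsLocalization.algEquivOfAlgEquiv (Localization.AtPrime p) (Localization.AtPrime q) σ hm).symm

variable [Algebra.FiniteType k B] [IsAlgClosed k]

/-- An element vanishing to infinite order at every rational point is zero. -/
theorem eq_zero_of_forall_mem_pow {x : B} (hpt : ∀ (g : B →ₐ[k] k) (n : ℕ), x ∈ RingHom.ker g ^ n) : x = 0 := by
  haveI : IsNoetherianRing B := Algebra.FiniteType.isNoetherianRing k B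
  by_contra hne
  obtain ⟨m, hm, hle⟩ := Ideal.exists_le_maximal ((Submodule.span B {x}).annihilator) fun h => hne (by
    have h1 := (Submodule.mem_annihilator_span_singleton (R := B) x 1).mp ((Ideal.eq_top_iff_one _).mp h)
    simpa using h1)
  obtain ⟨g, hg⟩ := exists_point (k := k) m hm.ne_top
  have hmg : m = RingHom.ker g := hm.eq_of_le (RingHom.ker_ne_top _) hg
  have hmem : x ∈ (⨅ i : ℕ, RingHom.ker g ^ i • (⊤ : Submodule B B)) :=
    (Submodule.mem_iInf _).mpr fun i => by simpa using hpt g i
  obtain ⟨r, hr⟩ := (Ideal.mem_iInf_smul_pow_eq_bot_iff (RingHom.ker g) x).mp hmem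
  have hann : 1 - (r : B) ∈ m := hle ((Submodule.mem_annihilator_span_singleton (R := B) x _).mpr (by
    rw [smul_eq_mul, sub_mul, one_mul, sub_eq_zero]; exact hr.symm))
  have hone : (1 : B) ∈ RingHom.ker g := by
    have := Ideal.add_mem _ (hmg ▸ hann) r.2
    rwa [sub_add_cancel] at this
  exact RingHom.ker_ne_top g ((Ideal.eq_top_iff_one _).mpr hone)

/-- A reduced algebra of finite type whose automorphisms are transitive on rational points is smooth. -/
theorem formallySmooth_of_transitive [_root_.IsReduced B]
    (htr : ∀ g h : B →ₐ[k] k, ∃ σ : B ≃ₐ[k] B, h = g.comp (σ : B →ₐ[k] B)) : Algebra.FormallySmooth k B := by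
  haveI : Algebra.FinitePresentation k B := Algebra.FinitePresentation.of_finiteType.1 inferInstance
  refine (Algebra.smoothLocus_eq_univ_iff (R := k) (A := B)).mp (Set.eq_univ_of_forall fun q => ?_)
  obtain ⟨p, hp, hpq⟩ := Ideal.exists_minimalPrimes_le (bot_le : (⊥ : Ideal B) ≤ q.asIdeal)
  haveI := Ideal.minimalPrimes_isPrime hp
  have hps : (⟨p, inferInstance⟩ : PrimeSpectrum B) ∈ Algebra.smoothLocus k B := by
    show Algebra.FormallySmooth k (Localization.AtPrime p)
    haveI : Algebra.EssFiniteType B (Localization.AtPrime p) := .of_isLocalization _ p.primeCompl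
    haveI : Algebra.EssFiniteType k (Localization.AtPrime p) := .comp _ B _
    haveI : Ring.KrullDimLE 0 (Localization.AtPrime p) := by
      rw [Ring.krullDimLE_zero_iff]
      intro I hI
      haveI := hI
      have h1 : I.comap (algebraMap B (Localization.AtPrime p)) ≤ p := by
        have h := IsLocalRing.le_maximalIdeal hI.ne_top
        calc I.comap (algebraMap B (Localization.AtPrime p))
            ≤ (IsLocalRing.maximalIdeal _).comap (algebraMap B (Localization.AtPrime p)) := Ideal.comap_mono h
          _ = p := IsLocalization.AtPrime.comap_maximalIdeal (Localization.AtPrime p) p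
      have h2 : p ≤ I.comap (algebraMap B (Localization.AtPrime p)) :=
        hp.2 ⟨Ideal.IsPrime.comap _, bot_le⟩ h1
      have h3 : I = IsLocalRing.maximalIdeal (Localization.AtPrime p) := by
        rw [← IsLocalization.map_under p.primeCompl (Localization.AtPrime p) I]
        show (I.comap (algebraMap B (Localization.AtPrime p))).map _ = _
        rw [le_antisymm h1 h2, Localization.AtPrime.map_eq_maximalIdeal]
      rw [h3]
      exact IsLocalRing.maximalIdeal.isMaximal _
    letI : Field (Localization.AtPrime p) := Ring.KrullDimLE.isField_of_isReduced.toField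
    infer_instance
  obtain ⟨_, ⟨_, ⟨f, rfl⟩, rfl⟩, hf, hfs⟩ := PrimeSpectrum.isBasis_basic_opens.exists_subset_of_mem_open hps
    (Algebra.isOpen_smoothLocus (R := k) (A := B))
  obtain ⟨g, hg⟩ := exists_point_ne_zero (k := k) (a := f) fun hn => by
    rw [hn.eq_zero] at hf
    exact hf (zero_mem _)
  have hgs : Algebra.IsSmoothAt k (RingHom.ker g) :=
    hfs (a := ⟨RingHom.ker g, inferInstance⟩) (show f ∉ RingHom.ker g from hg)
  obtain ⟨h, hh⟩ := exists_point (k := k) q.asIdeal q.2.ne_top
  obtain ⟨σ, hσ⟩ := htr g h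
  have hhs : Algebra.IsSmoothAt k (RingHom.ker h) :=
    isSmoothAt_of_algEquiv σ _ (RingHom.ker g) (by rw [hσ]; rfl) hgs
  exact (Algebra.isOpen_smoothLocus (R := k) (A := B)).stableUnderGeneralization
    ((PrimeSpectrum.le_iff_specializes q ⟨RingHom.ker h, inferInstance⟩).1 hh) hhs

end Groth.Agent.ComodLib.RedSm

namespace Groth.Agent.ComodLib.RedSm

open MvPolynomial

variable {k : Type u} [Field k] {B : Type v} [CommRing B] [Algebra k B] {d : ℕ}

/-- The ideal of polynomials without constant term. -/
noncomputable abbrev irr (k : Type u) [Field k] (d : ℕ) : Ideal (MvPolynomial (Fin d) k) :=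
  Ideal.span (Set.range X)

theorem sub_C_mem_irr (f : MvPolynomial (Fin d) k) : f - C (constantCoeff f) ∈ irr k d := by
  induction f using MvPolynomial.induction_on with
  | C a => simp
  | add p q hp hq => rw [map_add, map_add, add_sub_add_comm]; exact add_mem hp hq
  | mul_X p i _ =>
    rw [map_mul, constantCoeff_X, mul_zero, map_zero, sub_zero]
    exact Ideal.mul_mem_left _ _ (Ideal.subset_span ⟨i, rfl⟩)

theorem exists_linear_of_mem_irr {f : MvPolynomial (Fin d) k} (hf : f ∈ irr k d) :
    ∃ c : Fin d → k, f - ∑ i, c i • X i ∈ irr k d ^ 2 := by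
  induction hf using Submodule.span_induction with
  | mem x hx =>
    obtain ⟨i, rfl⟩ := hx
    exact ⟨Pi.single i 1, by simp [Pi.single_apply, ite_smul]⟩
  | zero => exact ⟨0, by simp⟩
  | add p q _ _ hp hq =>
    obtain ⟨c, hc⟩ := hp
    obtain ⟨c', hc'⟩ := hq
    exact ⟨c + c', by simp only [Pi.add_apply, add_smul, Finset.sum_add_distrib, add_sub_add_comm]; exact add_mem hc hc'⟩
  | smul r p hp0 hp =>
    obtain ⟨c, hc⟩ := hp
    refine ⟨constantCoeff r • c, ?_⟩
    have h1 : (r - C (constantCoeff r)) * p ∈ irr k d ^ 2 := by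
      rw [pow_two]; exact Ideal.mul_mem_mul (sub_C_mem_irr r) hp0
    have h2 := add_mem h1 (Ideal.mul_mem_left _ (C (constantCoeff r)) hc)
    convert h2 using 1
    simp only [Pi.smul_apply, smul_eq_mul, smul_eq_C_mul, map_mul, mul_sub, Finset.mul_sum, mul_assoc]
    ring

variable (g : B →ₐ[k] k) (x : Fin d → B) (hx : ∀ i, x i ∈ RingHom.ker g)
  (hspan : ∀ y ∈ RingHom.ker g, ∃ c : Fin d → k, y - ∑ i, c i • x i ∈ RingHom.ker g ^ 2)

include hx in
theorem aeval_mem_pow (n : ℕ) {f : MvPolynomial (Fin d) k} (hf : f ∈ irr k d ^ n) :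
    aeval x f ∈ RingHom.ker g ^ n := by
  have h1 : (irr k d).map (aeval (R := k) x) ≤ RingHom.ker g := by
    rw [Ideal.map_le_iff_le_comap, Ideal.span_le]
    rintro _ ⟨i, rfl⟩
    simpa using hx i
  have h2 := Ideal.mem_map_of_mem (aeval (R := k) x) hf
  rw [Ideal.map_pow] at h2
  exact Ideal.pow_right_mono h1 n h2

include hx hspan in
/-- The coordinates generate every truncation. -/
theorem exists_poly (n : ℕ) (b : B) : ∃ f : MvPolynomial (Fin d) k, b - aeval x f ∈ RingHom.ker g ^ n := by
  have key : ∀ j, ∀ u ∈ RingHom.ker g ^ j, ∃ f : MvPolynomial (Fin d) k, u - aeval x f ∈ RingHom.ker g ^ (j + 1) := by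
    intro j
    induction j with
    | zero =>
      intro u _
      exact ⟨C (g u), by simp [RingHom.mem_ker]⟩
    | succ j ih =>
      intro u hu
      rw [pow_succ] at hu
      induction hu using Submodule.mul_induction_on' with
      | mem_mul_mem p hp q hq =>
        obtain ⟨f, hf⟩ := ih p hp
        obtain ⟨c, hc⟩ := hspan q hq
        refine ⟨f * ∑ i, c i • X i, ?_⟩
        have he : aeval x (∑ i, c i • (X i : MvPolynomial (Fin d) k)) = ∑ i, c i • x i := by simp
        rw [map_mul, he]
        have hf' : aeval x f ∈ RingHom.ker g ^ j := by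
          have := Ideal.sub_mem _ hp (Ideal.pow_le_pow_right j.le_succ hf)
          rwa [sub_sub_cancel] at this
        rw [show p * q - aeval x f * ∑ i, c i • x i =
          (p - aeval x f) * q + aeval x f * (q - ∑ i, c i • x i) by ring]
        refine add_mem ?_ ?_
        · rw [pow_succ]; exact Ideal.mul_mem_mul hf hq
        · rw [show j + 1 + 1 = j + 2 by omega, pow_add]; exact Ideal.mul_mem_mul hf' hc
      | add p _ q _ hp hq =>
        obtain ⟨f, hf⟩ := hp
        obtain ⟨f', hf'⟩ := hq
        exact ⟨f + f', by rw [map_add, add_sub_add_comm]; exact add_mem hf hf'⟩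
  induction n with
  | zero => exact ⟨0, by simp⟩
  | succ n ih =>
    obtain ⟨f, hf⟩ := ih
    obtain ⟨f', hf'⟩ := key n _ hf
    exact ⟨f + f', by rwa [map_add, ← sub_sub]⟩

variable (hli : ∀ c : Fin d → k, ∑ i, c i • x i ∈ RingHom.ker g ^ 2 → c = 0)

include hx hspan hli in
/-- **The truncations of a smooth algebra at a rational point are truncated polynomial algebras.** -/
theorem mem_irr_pow [Algebra.FormallySmooth k B] (n : ℕ) {f : MvPolynomial (Fin d) k}
    (hf : aeval x f ∈ RingHom.ker g ^ n) : f ∈ irr k d ^ n := by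
  rcases Nat.lt_or_ge n 2 with hn | hn
  · rcases n with _ | _ | n
    · simp
    · rw [pow_one] at hf ⊢
      have h0 : constantCoeff f = 0 := by
        have h1 : g (aeval x f) = constantCoeff f := by
          have h2 := aeval_mem_pow g x hx 1 (f := f - C (constantCoeff f)) (by rw [pow_one]; exact sub_C_mem_irr f)
          rw [pow_one, RingHom.mem_ker, map_sub, map_sub, aeval_C, AlgHom.commutes,
            Algebra.algebraMap_self_apply, sub_eq_zero] at h2
          exact h2
        rw [← h1]; exact hf
      simpa [h0] using sub_C_mem_irr f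
    · omega
  let π : (MvPolynomial (Fin d) k ⧸ irr k d ^ 2) →ₐ[k] B ⧸ RingHom.ker g ^ 2 :=
    Ideal.Quotient.liftₐ _ ((Ideal.Quotient.mkₐ k _).comp (aeval x)) fun a ha =>
      Ideal.Quotient.eq_zero_iff_mem.mpr (aeval_mem_pow g x hx 2 ha)
  have hπ : Function.Bijective π := by
    constructor
    · rw [injective_iff_map_eq_zero]
      intro a ha
      obtain ⟨a, rfl⟩ := Ideal.Quotient.mk_surjective a
      have ha' : aeval x a ∈ RingHom.ker g ^ 2 := Ideal.Quotient.eq_zero_iff_mem.mp ha
      refine Ideal.Quotient.eq_zero_iff_mem.mpr ?_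
      have h0 : constantCoeff a = 0 := by
        have h2 := aeval_mem_pow g x hx 1 (f := a - C (constantCoeff a)) (by rw [pow_one]; exact sub_C_mem_irr a)
        have h3 : g (aeval x a) = 0 := Ideal.pow_le_self two_ne_zero ha'
        rw [pow_one, RingHom.mem_ker, map_sub, map_sub, aeval_C, AlgHom.commutes,
          Algebra.algebraMap_self_apply, h3, zero_sub, neg_eq_zero] at h2
        exact h2
      have ha1 : a ∈ irr k d := by simpa [h0] using sub_C_mem_irr a
      obtain ⟨c, hc⟩ := exists_linear_of_mem_irr ha1
      have h4 := Ideal.sub_mem _ ha' (aeval_mem_pow g x hx 2 hc)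
      have hc0 : c = 0 := hli c (by
        have : aeval x a - aeval x (a - ∑ i, c i • (X i : MvPolynomial (Fin d) k)) = ∑ i, c i • x i := by simp
        rwa [this] at h4)
      simpa [hc0] using hc
    · intro b
      obtain ⟨b, rfl⟩ := Ideal.Quotient.mk_surjective b
      obtain ⟨f, hf⟩ := exists_poly g x hx hspan 2 b
      exact ⟨Ideal.Quotient.mk _ f, (Ideal.Quotient.eq.mpr hf).symm⟩
  let e := AlgEquiv.ofBijective π hπ
  let q : (MvPolynomial (Fin d) k ⧸ irr k d ^ n) →ₐ[k] MvPolynomial (Fin d) k ⧸ irr k d ^ 2 :=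
    Ideal.Quotient.factorₐ k (Ideal.pow_le_pow_right hn)
  have hq : Function.Surjective q := Ideal.Quotient.factor_surjective (Ideal.pow_le_pow_right hn)
  have hqn : IsNilpotent (RingHom.ker (q : (MvPolynomial (Fin d) k ⧸ irr k d ^ n) →+* MvPolynomial (Fin d) k ⧸ irr k d ^ 2)) := by
    refine ⟨n, ?_⟩
    have hk : RingHom.ker (q : (MvPolynomial (Fin d) k ⧸ irr k d ^ n) →+* MvPolynomial (Fin d) k ⧸ irr k d ^ 2) ≤ (irr k d ^ 2).map (Ideal.Quotient.mk (irr k d ^ n)) := by
      intro z hz
      obtain ⟨z, rfl⟩ := Ideal.Quotient.mk_surjective z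
      exact Ideal.mem_map_of_mem _ (Ideal.Quotient.eq_zero_iff_mem.mp hz)
    rw [Ideal.zero_eq_bot, eq_bot_iff]
    refine (Ideal.pow_right_mono hk n).trans ?_
    rw [← Ideal.map_pow, ← pow_mul]
    exact ((Ideal.map_mono (Ideal.pow_le_pow_right (by omega))).trans (Ideal.map_quotient_self _).le)
  let s : B →ₐ[k] MvPolynomial (Fin d) k ⧸ irr k d ^ n :=
    Algebra.FormallySmooth.liftOfSurjective (e.symm.toAlgHom.comp (Ideal.Quotient.mkₐ k (RingHom.ker g ^ 2))) q hq hqn
  have hs : ∀ b, e (q (s b)) = Ideal.Quotient.mk _ b := fun b => by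
    exact (congrArg e (Algebra.FormallySmooth.liftOfSurjective_apply _ q hq hqn b)).trans (e.apply_symm_apply _)
  have hsm : ∀ b ∈ RingHom.ker g, s b ∈ (irr k d).map (Ideal.Quotient.mk (irr k d ^ n)) := by
    intro b hb
    obtain ⟨z, hz⟩ := Ideal.Quotient.mk_surjective (s b)
    have h1 : Ideal.Quotient.mk (RingHom.ker g ^ 2) (aeval x z) = Ideal.Quotient.mk _ b := by
      rw [← hs b, ← hz]; rfl
    have h2 : g (aeval x z) = 0 := by
      have := Ideal.pow_le_self two_ne_zero (Ideal.Quotient.eq.mp h1)
      rw [RingHom.mem_ker, map_sub, show g b = 0 from hb, sub_zero] at this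
      exact this
    have h3 : constantCoeff z = 0 := by
      have h4 := aeval_mem_pow g x hx 1 (f := z - C (constantCoeff z)) (by rw [pow_one]; exact sub_C_mem_irr z)
      rw [pow_one, RingHom.mem_ker, map_sub, map_sub, aeval_C, AlgHom.commutes,
        Algebra.algebraMap_self_apply, h2, zero_sub, neg_eq_zero] at h4
      exact h4
    rw [← hz]
    exact Ideal.mem_map_of_mem _ (by simpa [h3] using sub_C_mem_irr z)
  have hzero : s (aeval x f) = 0 := by
    have h1 : (RingHom.ker g).map s ≤ (irr k d).map (Ideal.Quotient.mk (irr k d ^ n)) :=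
      Ideal.map_le_iff_le_comap.mpr hsm
    have h2 := Ideal.pow_right_mono h1 n (Ideal.map_pow s _ n ▸ Ideal.mem_map_of_mem s hf)
    rwa [← Ideal.map_pow, Ideal.map_quotient_self, Ideal.mem_bot] at h2
  -- `s ∘ aeval x` is the identity to first order
  choose z hz using fun i => Ideal.Quotient.mk_surjective (s (x i))
  have hz2 : ∀ i, z i - X i ∈ irr k d ^ 2 := by
    intro i
    refine Ideal.Quotient.eq.mp (e.injective ?_)
    have h1 := hs (x i)
    rw [← hz i] at h1
    refine h1.trans ?_
    show _ = Ideal.Quotient.mk _ (aeval x (X i))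
    rw [aeval_X]
  have hcomp : ∀ p, Ideal.Quotient.mk (irr k d ^ n) (aeval (R := k) z p) = s (aeval x p) := by
    intro p
    have : (Ideal.Quotient.mkₐ k (irr k d ^ n)).comp (aeval (R := k) z) = s.comp (aeval x) :=
      MvPolynomial.algHom_ext fun i => by simp [hz]
    exact AlgHom.congr_fun this p
  have hfirst : ∀ j, ∀ p ∈ irr k d ^ j, aeval (R := k) z p - p ∈ irr k d ^ (j + 1) := by
    intro j
    induction j with
    | zero =>
      intro p hp
      clear hp
      induction p using MvPolynomial.induction_on with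
      | C a => simp
      | add a b ha hb => rw [map_add, add_sub_add_comm]; exact add_mem ha hb
      | mul_X a i _ =>
        rw [map_mul, aeval_X, pow_one]
        refine Ideal.sub_mem _ (Ideal.mul_mem_left _ _ ?_) (Ideal.mul_mem_left _ _ (Ideal.subset_span ⟨i, rfl⟩))
        have := add_mem (Ideal.pow_le_self two_ne_zero (hz2 i)) (Ideal.subset_span (Set.mem_range_self i) :
          X i ∈ irr k d)
        rwa [sub_add_cancel] at this
    | succ j ih =>
      intro p hp
      rw [pow_succ] at hp
      induction hp using Submodule.mul_induction_on' with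
      | mem_mul_mem a ha b hb =>
        have hb1 : aeval (R := k) z b - b ∈ irr k d ^ 2 := by
          induction hb using Submodule.span_induction with
          | mem _ h => obtain ⟨i, rfl⟩ := h; simpa using hz2 i
          | zero => simp
          | add p q _ _ hp hq => rw [map_add, add_sub_add_comm]; exact add_mem hp hq
          | smul r p hp0 hp =>
            rw [smul_eq_mul, map_mul, show aeval (R := k) z r * aeval (R := k) z p - r * p =
              aeval (R := k) z r * (aeval (R := k) z p - p) + (aeval (R := k) z r - r) * p by ring]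
            refine add_mem (Ideal.mul_mem_left _ _ hp) ?_
            rw [pow_two]
            refine Ideal.mul_mem_mul ?_ hp0
            induction r using MvPolynomial.induction_on with
            | C a => simp
            | add a b ha hb => rw [map_add, add_sub_add_comm]; exact add_mem ha hb
            | mul_X a i _ =>
              rw [map_mul, aeval_X]
              refine Ideal.sub_mem _ (Ideal.mul_mem_left _ _ ?_) (Ideal.mul_mem_left _ _ (Ideal.subset_span ⟨i, rfl⟩))
              have := add_mem (Ideal.pow_le_self two_ne_zero (hz2 i)) (Ideal.subset_span (Set.mem_range_self i) :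
                X i ∈ irr k d)
              rwa [sub_add_cancel] at this
        have hb' : aeval (R := k) z b ∈ irr k d := by
          have := add_mem (Ideal.pow_le_self two_ne_zero hb1) hb
          rwa [sub_add_cancel] at this
        rw [map_mul, show aeval (R := k) z a * aeval (R := k) z b - a * b =
          (aeval (R := k) z a - a) * aeval (R := k) z b + a * (aeval (R := k) z b - b) by ring]
        refine add_mem ?_ ?_
        · rw [pow_succ]; exact Ideal.mul_mem_mul (ih a ha) hb'
        · rw [show j + 1 + 1 = j + 2 by omega, pow_add]; exact Ideal.mul_mem_mul ha hb1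
      | add a _ b _ ha hb => rw [map_add, add_sub_add_comm]; exact add_mem ha hb
  have main : ∀ j, j ≤ n → f ∈ irr k d ^ j := by
    intro j
    induction j with
    | zero => intro _; simp
    | succ j ih =>
      intro hj
      have h1 : aeval (R := k) z f ∈ irr k d ^ n := Ideal.Quotient.eq_zero_iff_mem.mp ((hcomp f).trans hzero)
      have h2 := Ideal.sub_mem _ (Ideal.pow_le_pow_right hj h1) (hfirst j f (ih (by omega)))
      rwa [sub_sub_cancel] at h2
  exact main n le_rfl

omit hx hspan hli in
/-- A basis of the cotangent space at a rational point. -/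
theorem exists_coords [IsNoetherianRing B] :
    ∃ (d : ℕ) (x : Fin d → B), (∀ i, x i ∈ RingHom.ker g) ∧
      (∀ y ∈ RingHom.ker g, ∃ c : Fin d → k, y - ∑ i, c i • x i ∈ RingHom.ker g ^ 2) ∧
      (∀ c : Fin d → k, ∑ i, c i • x i ∈ RingHom.ker g ^ 2 → c = 0) := by
  classical
  let W : Submodule k B := (RingHom.ker g ^ 2).restrictScalars k
  let M : Submodule k (B ⧸ W) := ((RingHom.ker g).restrictScalars k).map W.mkQ
  haveI : Module.Finite k M := by
    obtain ⟨s, hs⟩ := (IsNoetherian.noetherian (RingHom.ker g) : (RingHom.ker g).FG)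
    rw [Module.Finite.iff_fg]
    refine ⟨s.image W.mkQ, le_antisymm ?_ ?_⟩
    · rw [Submodule.span_le, Finset.coe_image]
      rintro _ ⟨y, hy, rfl⟩
      exact ⟨y, hs ▸ Ideal.subset_span hy, rfl⟩
    · rintro _ ⟨y, hy, rfl⟩
      have hy' : y ∈ Submodule.span B (↑s : Set B) := hs.symm ▸ hy
      induction hy' using Submodule.span_induction with
      | mem z hz => exact Submodule.subset_span (Finset.mem_image_of_mem _ hz)
      | zero => simp
      | add a b ha hb iha ihb =>
        rw [map_add]
        exact add_mem (iha (hs ▸ ha)) (ihb (hs ▸ hb))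
      | smul r a ha iha =>
        have h1 : W.mkQ (r • a) = g r • W.mkQ a := by
          rw [← map_smul, ← sub_eq_zero, ← map_sub]
          refine (Submodule.Quotient.mk_eq_zero W).mpr ?_
          show r • a - g r • a ∈ RingHom.ker g ^ 2
          rw [smul_eq_mul, Algebra.smul_def, ← sub_mul, pow_two]
          exact Ideal.mul_mem_mul (by simp [RingHom.mem_ker]) (hs ▸ ha)
        rw [h1]
        exact Submodule.smul_mem _ _ (iha (hs ▸ ha))
  let b := Module.finBasis k M
  choose x hx hxb using fun i => Submodule.mem_map.mp (b i).2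
  refine ⟨_, x, hx, fun y hy => ⟨fun i => b.repr ⟨W.mkQ y, y, hy, rfl⟩ i, ?_⟩, fun c hc => ?_⟩
  · show y - _ ∈ W
    rw [← Submodule.Quotient.mk_eq_zero]
    show W.mkQ _ = 0
    have h1 := congrArg Subtype.val (b.sum_repr ⟨W.mkQ y, y, hy, rfl⟩)
    simp only [Submodule.coe_sum, Submodule.coe_smul] at h1
    simp only [map_sub, map_sum, map_smul, hxb, h1, sub_self]
  · have h1 : ∑ i, c i • b i = 0 := Subtype.ext (by
      simp only [Submodule.coe_sum, Submodule.coe_smul, ← hxb, ← map_smul, ← map_sum, Submodule.coe_zero]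
      exact (Submodule.Quotient.mk_eq_zero W).mpr hc)
    funext i
    exact Fintype.linearIndependent_iff.mp b.linearIndependent c h1 i

end Groth.Agent.ComodLib.RedSm
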