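import Groth.Agent.ComodLib.CartierChar0
import Groth.Agent.ComodLib.ReducedSmooth
import Mathlib.RingTheory.MvPolynomial.EulerIdentity
import Mathlib.Algebra.Order.Antidiag.FinsuppEquiv
import Mathlib.RingTheory.Ideal.Cotangent

/-!
# The graded ring of an affine group at the identity in low degree
-/

universe u v

open TensorProduct MvPolynomial

namespace Groth.Agent.ComodLib.GradedAug

set_option linter.style.haveILetI false
set_option linter.unusedSectionVars false

variable {k : Type u} [Field k] {A : Type v} [CommRing A] [HopfAlgebra k A]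

open Cartier0

local notation "ε" => Bialgebra.counitAlgHom k A

theorem tan_eq_zero_of_mem_sq (L : Tan k A) {a : A} (ha : a ∈ aug k A ^ 2) : L.1 a = 0 := by
  rw [pow_two] at ha
  induction ha using Submodule.mul_induction_on' with
  | mem_mul_mem p hp q hq => rw [L.2, show ε p = 0 from hp, show ε q = 0 from hq, zero_mul, zero_mul, add_zero]
  | add p _ q _ hp hq => rw [map_add, hp, hq, add_zero]

theorem counit_lieOp (L : Tan k A) (v : A) : ε (lieOp L v) = L.1 v := by
  have : ∀ y : A ⊗[k] A, ε (slice L.1 y) =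
      L.1 (TensorProduct.lid k A ((Coalgebra.counit (R := k)).rTensor A y)) := fun y => by
    induction y using TensorProduct.induction_on with
    | zero => simp
    | tmul p q => simp [mul_comm]
    | add p q hp hq => simp only [map_add, hp, hq]
  refine (this _).trans ?_
  rw [show HopfRep.Comod.coact (k := k) (A := A) v = Coalgebra.comul (R := k) v from rfl,
    Coalgebra.rTensor_counit_comul]
  simp

theorem lieOp_mem_pow (L : Tan k A) (j : ℕ) : ∀ u ∈ aug k A ^ (j + 1), lieOp L u ∈ aug k A ^ j := by
  induction j with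
  | zero => simp
  | succ j ih =>
    intro u hu
    rw [pow_succ] at hu
    induction hu using Submodule.mul_induction_on' with
    | mem_mul_mem p hp q hq =>
      rw [lieOp_mul]
      refine add_mem (Ideal.mul_mem_right _ _ hp) ?_
      rw [pow_succ']
      exact Ideal.mul_mem_mul hq (ih p hp)
    | add p _ q _ hp hq => rw [map_add]; exact add_mem hp hq

theorem lieOp_aeval (L : Tan k A) {d : ℕ} (x : Fin d → A) (f : MvPolynomial (Fin d) k) :
    lieOp L (aeval x f) = ∑ l, aeval x (pderiv l f) * lieOp L (x l) := by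
  induction f using MvPolynomial.induction_on with
  | C a =>
    rw [aeval_C, Algebra.algebraMap_eq_smul_one, map_smul, lieOp_one, smul_zero]
    simp
  | add p q hp hq => simp only [map_add, hp, hq, add_mul, Finset.sum_add_distrib]
  | mul_X p i hp =>
    rw [map_mul, aeval_X, lieOp_mul, hp]
    simp only [pderiv_mul, pderiv_X, map_add, map_mul, aeval_X, add_mul, Finset.sum_add_distrib, Finset.mul_sum]
    rw [add_comm]
    refine congrArg₂ (· + ·) (Finset.sum_congr rfl fun l _ => by ring) ?_
    simp [Pi.single_apply, apply_ite (aeval x), ite_mul, mul_comm]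

variable [Algebra.FiniteType k A]

/-- Coordinates at the identity and the dual tangent vectors. -/
theorem exists_dual_coords :
    ∃ (d : ℕ) (x : Fin d → A) (L : Fin d → Tan k A), (∀ i, x i ∈ aug k A) ∧
      (∀ i j, (L i).1 (x j) = if i = j then 1 else 0) ∧
      (∀ y ∈ aug k A, y - ∑ i, (L i).1 y • x i ∈ aug k A ^ 2) := by
  classical
  haveI : IsNoetherianRing A := Algebra.FiniteType.isNoetherianRing k A
  obtain ⟨d, x, hx, hspan, hli⟩ := RedSm.exists_coords (Bialgebra.counitAlgHom k A)
  choose c hc using fun a : A => hspan (a - algebraMap k A (ε a)) (Cartier0.sub_counit_mem a)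
  have huniq : ∀ (a : A) (e : Fin d → k), a - algebraMap k A (ε a) - ∑ i, e i • x i ∈ aug k A ^ 2 → c a = e := by
    intro a e he
    refine sub_eq_zero.mp (hli _ ?_)
    have h1 := Ideal.sub_mem _ he (hc a)
    rw [sub_sub_sub_cancel_left] at h1
    simpa [Pi.sub_apply, sub_smul, Finset.sum_sub_distrib] using h1
  have hadd : ∀ a b, c (a + b) = c a + c b := fun a b => huniq _ _ (by
    have h1 := add_mem (hc a) (hc b)
    simp only [Pi.add_apply, add_smul, Finset.sum_add_distrib, map_add]
    rwa [← add_sub_add_comm, ← add_sub_add_comm] at h1)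
  have hsmul : ∀ (r : k) a, c (r • a) = r • c a := fun r a => huniq _ _ (by
    have h1 : r • (a - algebraMap k A (ε a) - ∑ i, c a i • x i) ∈ aug k A ^ 2 :=
      ((aug k A ^ 2).restrictScalars k).smul_mem r (hc a)
    simp only [Pi.smul_apply, smul_eq_mul, mul_smul, map_smul]
    rw [smul_sub, smul_sub, Finset.smul_sum] at h1
    simpa [Algebra.smul_def, map_mul] using h1)
  have hmul : ∀ a b, c (a * b) = ε a • c b + ε b • c a := fun a b => huniq _ _ (by
    have h1 : (a - algebraMap k A (ε a)) * (b - algebraMap k A (ε b)) ∈ aug k A ^ 2 := by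
      rw [pow_two]; exact Ideal.mul_mem_mul (Cartier0.sub_counit_mem a) (Cartier0.sub_counit_mem b)
    have h2 := add_mem (add_mem h1 ((Ideal.mul_mem_left _ (algebraMap k A (ε a))) (hc b)))
      ((Ideal.mul_mem_left _ (algebraMap k A (ε b))) (hc a))
    convert h2 using 1
    simp only [Pi.add_apply, Pi.smul_apply, smul_eq_mul]
    simp only [Algebra.smul_def, map_add, map_mul, add_mul, mul_sub, Finset.mul_sum, Finset.sum_add_distrib, mul_assoc]
    ring)
  let L : Fin d → Tan k A := fun i => ⟨{ toFun := fun a => c a i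
                                         map_add' := fun a b => by rw [hadd]; rfl
                                         map_smul' := fun r a => by rw [hsmul]; rfl },
    fun a b => by
      show c (a * b) i = _
      rw [hmul]; rfl⟩
  refine ⟨d, x, L, hx, fun i j => ?_, fun y hy => ?_⟩
  · show c (x j) i = _
    rw [huniq (x j) (Pi.single j 1) (by
      rw [show ε (x j) = 0 from hx j, map_zero, sub_zero]
      simp [Pi.single_apply, ite_smul]), Pi.single_apply]
  · have := hc y
    rw [show ε y = 0 from hy, map_zero, sub_zero] at this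
    exact this

variable {d : ℕ} {x : Fin d → A} {L : Fin d → Tan k A} (hx : ∀ i, x i ∈ aug k A)
  (hdual : ∀ i j, (L i).1 (x j) = if i = j then 1 else 0)
  (hexp : ∀ y ∈ aug k A, y - ∑ i, (L i).1 y • x i ∈ aug k A ^ 2)

include hx in
theorem aeval_mem_of_isHomogeneous {n : ℕ} {f : MvPolynomial (Fin d) k} (hf : f.IsHomogeneous n) :
    aeval x f ∈ aug k A ^ n := by
  refine RedSm.aeval_mem_pow _ x hx n ?_
  have hle : ∀ n, homogeneousSubmodule (Fin d) k n ≤ (RedSm.irr k d ^ n).restrictScalars k := by
    intro n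
    induction n with
    | zero => intro p _; simp
    | succ n ih =>
      rw [homogeneousSubmodule_eq_finsupp_supported, AddMonoidAlgebra.supported_eq_span_single, Submodule.span_le]
      rintro _ ⟨e, he, rfl⟩
      obtain ⟨i, hi⟩ : ∃ i, e i ≠ 0 := by
        by_contra hall
        push Not at hall
        have : e = 0 := Finsupp.ext hall
        rw [this] at he
        simp at he
      have hsplit : Finsupp.single i 1 + (e - Finsupp.single i 1) = e :=
        add_tsub_cancel_of_le (Finsupp.single_le_iff.mpr (Nat.one_le_iff_ne_zero.mpr hi))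
      have hd : (e - Finsupp.single i 1).degree = n := by
        have h1 := congrArg Finsupp.degree hsplit
        simp only [map_add, Finsupp.degree_single] at h1
        have h2 : e.degree = n + 1 := he
        omega
      show (AddMonoidAlgebra.single e 1 : MvPolynomial (Fin d) k) ∈ RedSm.irr k d ^ (n + 1)
      rw [single_eq_monomial, ← hsplit, show (1 : k) = 1 * 1 by simp, ← monomial_mul, pow_succ']
      exact Ideal.mul_mem_mul (Ideal.subset_span ⟨i, rfl⟩) (ih (isHomogeneous_monomial _ hd))
  exact hle n hf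

include hx hdual in
theorem eq_zero_of_mem {n : ℕ} (hn : (n.factorial : k) ≠ 0) {f : MvPolynomial (Fin d) k} (hf : f.IsHomogeneous n)
    (hmem : aeval x f ∈ aug k A ^ (n + 1)) : f = 0 := by
  induction n generalizing f with
  | zero =>
    rw [← totalDegree_zero_iff_isHomogeneous, totalDegree_eq_zero_iff_eq_C] at hf
    rw [hf, aeval_C, pow_one, RingHom.mem_ker, AlgHom.commutes, Algebra.algebraMap_self_apply] at hmem
    rw [hf, hmem, map_zero]
  | succ n ih =>
    have hn' : (n.factorial : k) ≠ 0 := fun h => hn (by rw [Nat.factorial_succ, Nat.cast_mul, h, mul_zero])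
    have hn1 : ((n + 1 : ℕ) : k) ≠ 0 := fun h => hn (by rw [Nat.factorial_succ, Nat.cast_mul, h, zero_mul])
    have hp : ∀ i, pderiv i f = 0 := by
      intro i
      refine ih hn' hf.pderiv ?_
      have h1 := lieOp_mem_pow (L i) (n + 1) _ hmem
      rw [lieOp_aeval] at h1
      have h2 : ∑ l, aeval x (pderiv l f) * (lieOp (L i) (x l) - if i = l then 1 else 0) ∈ aug k A ^ (n + 1) := by
        refine Ideal.sum_mem _ fun l _ => ?_
        rw [pow_succ]
        refine Ideal.mul_mem_mul (aeval_mem_of_isHomogeneous hx hf.pderiv) ?_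
        rw [RingHom.mem_ker, map_sub, counit_lieOp, hdual]
        split <;> simp
      have h3 := Ideal.sub_mem _ h1 h2
      simpa [mul_sub, Finset.sum_sub_distrib] using h3
    have h1 := hf.sum_X_mul_pderiv
    simp only [hp, mul_zero, Finset.sum_const_zero] at h1
    rw [eq_comm, nsmul_eq_mul, ← map_natCast (C (R := k) (σ := Fin d))] at h1
    rcases mul_eq_zero.mp h1 with h | h
    · exact absurd (C_eq_zero.mp h) hn1
    · exact h

include hx hexp in
theorem exists_homogeneous (n : ℕ) : ∀ u ∈ aug k A ^ n, ∃ f : MvPolynomial (Fin d) k, f.IsHomogeneous n ∧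
    u - aeval x f ∈ aug k A ^ (n + 1) := by
  induction n with
  | zero =>
    intro u _
    exact ⟨C (ε u), isHomogeneous_C _ _, by simpa using Cartier0.sub_counit_mem u⟩
  | succ n ih =>
    intro u hu
    rw [pow_succ] at hu
    induction hu using Submodule.mul_induction_on' with
    | mem_mul_mem p hp q hq =>
      obtain ⟨f, hf, hpf⟩ := ih p hp
      refine ⟨f * ∑ i, (L i).1 q • X i, hf.mul (IsHomogeneous.sum _ _ _ fun i _ =>
        (homogeneousSubmodule (Fin d) k 1).smul_mem _ (isHomogeneous_X k i)), ?_⟩
      have he : aeval x (∑ i, (L i).1 q • (X i : MvPolynomial (Fin d) k)) = ∑ i, (L i).1 q • x i := by simp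
      rw [map_mul, he, show p * q - aeval x f * ∑ i, (L i).1 q • x i =
          (p - aeval x f) * q + aeval x f * (q - ∑ i, (L i).1 q • x i) by ring]
      refine add_mem ?_ ?_
      · rw [pow_succ]; exact Ideal.mul_mem_mul hpf hq
      · rw [show n + 1 + 1 = n + 2 by omega, pow_add]
        exact Ideal.mul_mem_mul (aeval_mem_of_isHomogeneous hx hf) (hexp q hq)
    | add p _ q _ hp hq =>
      obtain ⟨f, hf, hp⟩ := hp
      obtain ⟨f', hf', hq⟩ := hq
      exact ⟨f + f', hf.add hf', by rw [map_add, add_sub_add_comm]; exact add_mem hp hq⟩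

theorem finrank_homogeneous (d n : ℕ) :
    Module.Finite k (homogeneousSubmodule (Fin d) k n) ∧
      Module.finrank k (homogeneousSubmodule (Fin d) k n) = (d + n - 1).choose n := by
  classical
  let S : Set (Fin d →₀ ℕ) := {e | e.degree = n}
  let e : {a // a ∈ (Finset.univ : Finset (Fin d)).finsuppAntidiag n} ≃ S :=
    Equiv.subtypeEquivRight fun a => by
      simp [S, Finset.mem_finsuppAntidiag, Finsupp.degree_eq_sum]
  haveI : Fintype S := Fintype.ofEquiv _ e
  let φ : homogeneousSubmodule (Fin d) k n ≃ₗ[k] (S →₀ k) :=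
    (LinearEquiv.ofEq _ _ (homogeneousSubmodule_eq_finsupp_supported (σ := Fin d) (R := k) n)).trans
      (AddMonoidAlgebra.supportedEquivFinsupp S)
  refine ⟨Module.Finite.equiv φ.symm, ?_⟩
  rw [φ.finrank_eq, Module.finrank_finsupp_self, ← Fintype.card_congr e, Fintype.card_coe,
    Finset.card_finsuppAntidiag_nat_eq_choose, Finset.card_univ, Fintype.card_fin]

include hx hdual hexp in
theorem finrank_step {n : ℕ} (hn : (n.factorial : k) ≠ 0) [Module.Finite k (A ⧸ aug k A ^ n)] :
    Module.Finite k (A ⧸ aug k A ^ (n + 1)) ∧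
      Module.finrank k (A ⧸ aug k A ^ (n + 1)) = Module.finrank k (A ⧸ aug k A ^ n) + (d + n - 1).choose n := by
  obtain ⟨hfin, hH⟩ := finrank_homogeneous (k := k) d n
  let Φ : homogeneousSubmodule (Fin d) k n →ₗ[k] A ⧸ aug k A ^ (n + 1) :=
    (Ideal.Quotient.mkₐ k _).toLinearMap ∘ₗ (aeval x).toLinearMap ∘ₗ (homogeneousSubmodule (Fin d) k n).subtype
  let Ψ : (A ⧸ aug k A ^ (n + 1)) →ₗ[k] A ⧸ aug k A ^ n :=
    (Ideal.Quotient.factorₐ k (Ideal.pow_le_pow_right n.le_succ)).toLinearMap
  have hΨ : Function.Surjective Ψ := Ideal.Quotient.factor_surjective (Ideal.pow_le_pow_right n.le_succ)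
  have hΦ : Function.Injective Φ := by
    rw [injective_iff_map_eq_zero]
    intro f hf
    exact Subtype.ext (eq_zero_of_mem hx hdual hn f.2 (Ideal.Quotient.eq_zero_iff_mem.mp hf))
  have hker : LinearMap.ker Ψ = LinearMap.range Φ := by
    ext z
    obtain ⟨z, rfl⟩ := Ideal.Quotient.mk_surjective z
    constructor
    · intro hz
      obtain ⟨f, hf, hzf⟩ := exists_homogeneous hx hexp n z (Ideal.Quotient.eq_zero_iff_mem.mp hz)
      exact ⟨⟨f, hf⟩, (Ideal.Quotient.eq.mpr hzf).symm⟩
    · rintro ⟨f, hf⟩
      rw [← hf]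
      exact Ideal.Quotient.eq_zero_iff_mem.mpr (aeval_mem_of_isHomogeneous hx f.2)
  haveI := hfin
  haveI h1 : Module.Finite k (LinearMap.ker Ψ) := by rw [hker]; infer_instance
  haveI h2 : Module.Finite k ((A ⧸ aug k A ^ (n + 1)) ⧸ LinearMap.ker Ψ) :=
    Module.Finite.equiv (Ψ.quotKerEquivOfSurjective hΨ).symm
  haveI : Module.Finite k (A ⧸ aug k A ^ (n + 1)) := Module.Finite.of_submodule_quotient (LinearMap.ker Ψ)
  refine ⟨this, ?_⟩
  rw [← LinearMap.finrank_range_add_finrank_ker Ψ, LinearMap.range_eq_top.mpr hΨ, finrank_top, hker,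
    LinearMap.finrank_range_of_inj hΦ, hH]

include hx hdual hexp in
theorem finrank_cotangent : Module.finrank k (aug k A).Cotangent = d := by
  let Φ : (Fin d → k) →ₗ[k] (aug k A).Cotangent :=
    ∑ i, (LinearMap.proj i : (Fin d → k) →ₗ[k] k).smulRight ((aug k A).toCotangent ⟨x i, hx i⟩)
  have hΦ : ∀ c, Φ c = ∑ i, c i • (aug k A).toCotangent ⟨x i, hx i⟩ := fun c => by simp [Φ]
  have hval : ∀ c, Φ c = (aug k A).toCotangent (∑ i, c i • ⟨x i, hx i⟩) := fun c => by
    rw [hΦ, map_sum]
    exact Finset.sum_congr rfl fun i _ => (LinearMap.map_smul_of_tower _ _ _).symm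
  have hbij : Function.Bijective Φ := by
    constructor
    · rw [injective_iff_map_eq_zero]
      intro c hc
      rw [hval, Ideal.toCotangent_eq_zero] at hc
      funext i
      have h1 := tan_eq_zero_of_mem_sq (L i) hc
      simpa [hdual, Submodule.coe_sum] using h1
    · intro z
      obtain ⟨⟨y, hy⟩, rfl⟩ := (aug k A).toCotangent_surjective z
      refine ⟨fun i => (L i).1 y, ?_⟩
      rw [hval, Ideal.toCotangent_eq]
      have := neg_mem (hexp y hy)
      rw [neg_sub] at this
      simpa [Submodule.coe_sum] using this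
  rw [← (LinearEquiv.ofBijective Φ hbij).finrank_eq, Module.finrank_pi, Fintype.card_fin]

end Groth.Agent.ComodLib.GradedAug
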