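import Groth.Agent.ComodLib.MatrixComod
import Mathlib.LinearAlgebra.Matrix.Charpoly.Eigs
import Mathlib.LinearAlgebra.Matrix.Charpoly.Coeff
import Mathlib.LinearAlgebra.Matrix.ToLinearEquiv
import Mathlib.RingTheory.TensorProduct.Maps
import Mathlib.LinearAlgebra.Eigenspace.Minpoly

/-!
# Eigenvalues of a point acting in all representations are monomials in those of a faithful one
-/

universe u v w

open TensorProduct Polynomial

namespace Groth.Agent.ComodLib

section Operator

variable {K : Type*} [Field K] {R : Type*} [CommRing R] [Algebra K R]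

/-- The split polynomial with the given roots. -/
noncomputable def splitPoly (s : Multiset K) : K[X] := (s.map fun a => X - C a).prod

theorem splitPoly_cons (a : K) (s : Multiset K) : splitPoly (a ::ₘ s) = (X - C a) * splitPoly s := by
  simp [splitPoly]

theorem splitPoly_add (s t : Multiset K) : splitPoly (s + t) = splitPoly s * splitPoly t := by
  simp [splitPoly]

theorem aeval_splitPoly_cons (T : Module.End K R) (a : K) (s : Multiset K) (x : R) :
    aeval T (splitPoly (a ::ₘ s)) x = aeval T (splitPoly s) (T x - a • x) := by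
  rw [splitPoly_cons, mul_comm, map_mul, Module.End.mul_apply, map_sub, aeval_X, aeval_C, LinearMap.sub_apply,
    Module.algebraMap_end_apply]

theorem aeval_apply_of_mul (T : Module.End K R) {p q : K[X]} {x : R} (h : aeval T p x = 0) (h' : p ∣ q) :
    aeval T q x = 0 := by
  obtain ⟨c, rfl⟩ := h'
  rw [mul_comm, map_mul, Module.End.mul_apply, h, map_zero]

/-- The pairwise products. -/
def mulRoots (s t : Multiset K) : Multiset K := s.bind fun a => t.map (a * ·)

theorem mulRoots_le_cons (s t : Multiset K) (b : K) : mulRoots s t ≤ mulRoots s (b ::ₘ t) := by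
  induction s using Multiset.induction with
  | empty => simp [mulRoots]
  | cons c s ih =>
    simp only [mulRoots, Multiset.cons_bind]
    exact add_le_add (Multiset.map_le_map (Multiset.le_cons_self _ _)) ih

theorem aeval_splitPoly_mul (T : R →ₐ[K] R) : ∀ (s t : Multiset K) (x y : R),
    aeval (T.toLinearMap : Module.End K R) (splitPoly s) x = 0 →
    aeval (T.toLinearMap : Module.End K R) (splitPoly t) y = 0 →
    aeval (T.toLinearMap : Module.End K R) (splitPoly (mulRoots s t)) (x * y) = 0 := by
  intro s
  induction s using Multiset.induction with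
  | empty =>
    intro t x y hx _
    simp [mulRoots, splitPoly] at hx ⊢
    simp [hx]
  | cons a s ihs =>
    intro t
    induction t using Multiset.induction with
    | empty =>
      intro x y _ hy
      simp [mulRoots, splitPoly] at hy ⊢
      simp [hy]
    | cons b t iht =>
      intro x y hx hy
      rw [aeval_splitPoly_cons] at hx
      have hTy : aeval (T.toLinearMap : Module.End K R) (splitPoly (b ::ₘ t)) (T y) = 0 := by
        have := congrArg T.toLinearMap hy
        rw [map_zero, ← Module.End.mul_apply] at this
        rw [show T.toLinearMap * aeval (T.toLinearMap : Module.End K R) (splitPoly (b ::ₘ t)) =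
          aeval (T.toLinearMap : Module.End K R) (X * splitPoly (b ::ₘ t)) by rw [map_mul, aeval_X],
          mul_comm, map_mul, aeval_X, Module.End.mul_apply] at this
        exact this
      have h1 : aeval (T.toLinearMap : Module.End K R) (splitPoly (mulRoots s (b ::ₘ t)))
          ((T x - a • x) * T y) = 0 := ihs _ _ _ hx hTy
      rw [aeval_splitPoly_cons] at hy
      have h2 : aeval (T.toLinearMap : Module.End K R) (splitPoly (mulRoots (a ::ₘ s) t))
          ((a • x) * (T y - b • y)) = 0 := by
        refine iht (a • x) (T y - b • y) ?_ hy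
        rw [map_smul, aeval_splitPoly_cons, hx, smul_zero]
      have hmr : mulRoots (a ::ₘ s) (b ::ₘ t) = a * b ::ₘ (t.map (a * ·) + mulRoots s (b ::ₘ t)) := by
        simp [mulRoots, Multiset.cons_bind]
        abel
      rw [hmr, aeval_splitPoly_cons]
      have e : T.toLinearMap (x * y) - (a * b) • (x * y) = (T x - a • x) * T y + (a • x) * (T y - b • y) := by
        simp only [AlgHom.toLinearMap_apply, map_mul, Algebra.smul_def]
        ring
      rw [e, map_add, aeval_apply_of_mul _ h1, aeval_apply_of_mul _ h2, add_zero]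
      · refine Multiset.prod_dvd_prod_of_le (Multiset.map_le_map ?_)
        rw [show mulRoots (a ::ₘ s) t = t.map (a * ·) + mulRoots s t by simp [mulRoots, Multiset.cons_bind]]
        exact add_le_add le_rfl (mulRoots_le_cons s t b)
      · rw [splitPoly_add]
        exact dvd_mul_left _ _

/-- Elements killed by a split polynomial with roots in `L` form a subalgebra. -/
def rootSubalgebra {L : Type*} [SetLike L K] [SubsemiringClass L K] (Ls : L) (T : R →ₐ[K] R) : Subalgebra K R where
  carrier := {x | ∃ s : Multiset K, (∀ a ∈ s, a ∈ Ls) ∧ aeval (T.toLinearMap : Module.End K R) (splitPoly s) x = 0}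
  mul_mem' := by
    rintro x y ⟨s, hs, hx⟩ ⟨t, ht, hy⟩
    refine ⟨mulRoots s t, fun c hc => ?_, aeval_splitPoly_mul T s t x y hx hy⟩
    simp only [mulRoots, Multiset.mem_bind, Multiset.mem_map] at hc
    obtain ⟨a, ha, b, hb, rfl⟩ := hc
    exact mul_mem (hs a ha) (ht b hb)
  add_mem' := by
    rintro x y ⟨s, hs, hx⟩ ⟨t, ht, hy⟩
    refine ⟨s + t, fun c hc => (Multiset.mem_add.mp hc).elim (hs c) (ht c), ?_⟩
    rw [map_add, splitPoly_add, aeval_apply_of_mul _ hx (dvd_mul_right _ _),
      aeval_apply_of_mul _ hy (dvd_mul_left _ _), add_zero]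
  algebraMap_mem' r := by
    refine ⟨{1}, fun c hc => by rw [Multiset.mem_singleton.mp hc]; exact one_mem _, ?_⟩
    simp [splitPoly, Module.algebraMap_end_apply, T.commutes]

theorem aeval_comp_of_comp {V : Type*} [AddCommGroup V] [Module K V] {T : Module.End K R} {F : Module.End K V}
    {φ : V →ₗ[K] R} (h : ∀ v, T (φ v) = φ (F v)) (p : K[X]) : ∀ v, aeval T p (φ v) = φ (aeval F p v) := by
  induction p using Polynomial.induction_on' with
  | add p q hp hq => intro v; simp [hp, hq]
  | monomial n c =>
    intro v
    simp only [aeval_monomial, Module.End.mul_apply, Module.algebraMap_end_apply, map_smul]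
    congr 1
    induction n generalizing v with
    | zero => simp
    | succ n ih => rw [pow_succ, pow_succ, Module.End.mul_apply, Module.End.mul_apply, h, ih]

end Operator

section Translate

variable {k : Type u} [Field k] {B : Type v} [CommRing B] [Bialgebra k B]
variable {K : Type w} [Field K] [Algebra k K]

/-- Translation by a `K`-point on functions with values in `K`. -/
noncomputable def translate (g : B →ₐ[k] K) : K ⊗[k] B →ₐ[K] K ⊗[k] B :=
  Algebra.TensorProduct.lift (Algebra.ofId K (K ⊗[k] B))
    ((Algebra.TensorProduct.comm k B K).toAlgHom.comp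
      ((Algebra.TensorProduct.map (AlgHom.id k B) g).comp (Bialgebra.comulAlgHom k B)))
    (fun _ _ => Commute.all _ _)

theorem translate_matrix (g : B →ₐ[k] K) {n : ℕ} {M : Fin n → Fin n → B} (hM : IsComodMatrix k M) (i : Fin n)
    (v : Fin n → K) :
    translate g (∑ j, v j ⊗ₜ[k] M i j) = ∑ j, ((Matrix.of fun a b => g (M a b)).mulVec v) j ⊗ₜ[k] M i j := by
  have h : ∀ j, translate g (v j ⊗ₜ[k] M i j) = ∑ l, (g (M l j) * v j) ⊗ₜ[k] M i l := fun j => by
    simp only [translate, Algebra.TensorProduct.lift_tmul, AlgHom.comp_apply, Bialgebra.comulAlgHom_apply, hM.comul,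
      map_sum, Algebra.TensorProduct.map_tmul, AlgEquiv.coe_toAlgHom, Algebra.TensorProduct.comm_tmul,
      AlgHom.id_apply, Finset.mul_sum]
    refine Finset.sum_congr rfl fun l _ => ?_
    rw [Algebra.ofId_apply, Algebra.TensorProduct.algebraMap_apply, Algebra.algebraMap_self_apply,
      Algebra.TensorProduct.tmul_mul_tmul, one_mul, mul_comm]
  simp only [map_sum, h, Matrix.mulVec, dotProduct, Matrix.of_apply, TensorProduct.sum_tmul]
  exact Finset.sum_comm

/-- The map sending a vector to the corresponding combination of the `i`-th row. -/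
noncomputable def rowMap {n : ℕ} (M : Fin n → Fin n → B) (i : Fin n) : (Fin n → K) →ₗ[K] K ⊗[k] B where
  toFun v := ∑ j, v j ⊗ₜ[k] M i j
  map_add' v w := by simp [TensorProduct.add_tmul, Finset.sum_add_distrib]
  map_smul' c v := by simp [TensorProduct.smul_tmul', Finset.smul_sum]

variable [IsAlgClosed K]

theorem aeval_charpoly_translate (g : B →ₐ[k] K) {n : ℕ} {M : Fin n → Fin n → B} (hM : IsComodMatrix k M)
    (i j : Fin n) :
    aeval ((translate g).toLinearMap : Module.End K (K ⊗[k] B))
      (splitPoly (Matrix.of fun a b => g (M a b)).charpoly.roots) ((1 : K) ⊗ₜ[k] M i j) = 0 := by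
  set G := Matrix.of fun a b => g (M a b)
  have hs : splitPoly G.charpoly.roots = G.charpoly :=
    ((IsAlgClosed.splits G.charpoly).eq_prod_roots_of_monic G.charpoly_monic).symm
  have e : (1 : K) ⊗ₜ[k] M i j = rowMap M i (Pi.single j 1) := by
    show _ = ∑ l, (Pi.single j (1 : K) : Fin n → K) l ⊗ₜ[k] M i l
    rw [Finset.sum_eq_single j] <;> simp +contextual [Pi.single_apply]
  rw [hs, e, aeval_comp_of_comp (T := ((translate g).toLinearMap : Module.End K (K ⊗[k] B)))
    (F := Matrix.toLinAlgEquiv' G) (φ := rowMap M i) (fun v => translate_matrix g hM i v),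
    Polynomial.aeval_algHom_apply (Matrix.toLinAlgEquiv' (R := K) (n := Fin n)) G, Matrix.aeval_self_charpoly, map_zero,
    LinearMap.zero_apply, map_zero]

/-- If the entries of `M` generate and the eigenvalues of `g(M)` lie in `Ls`, so do traces in every representation. -/
theorem trace_mem {L : Type*} [SetLike L K] [SubsemiringClass L K] (Ls : L) (g : B →ₐ[k] K) {n : ℕ}
    {M : Fin n → Fin n → B} (hM : IsComodMatrix k M)
    (hgen : Algebra.adjoin k (Set.range fun p : Fin n × Fin n => M p.1 p.2) = ⊤)
    (hroots : ∀ a ∈ (Matrix.of fun a b => g (M a b)).charpoly.roots, a ∈ Ls) {d : ℕ} {N : Fin d → Fin d → B}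
    (hN : IsComodMatrix k N) : ∑ i, g (N i i) ∈ Ls := by
  have hQ : ∀ b : B, (1 : K) ⊗ₜ[k] b ∈ rootSubalgebra Ls (translate g) := fun b => by
    have : Algebra.adjoin k (Set.range fun p : Fin n × Fin n => M p.1 p.2) ≤
        ((rootSubalgebra Ls (translate g)).restrictScalars k).comap Algebra.TensorProduct.includeRight := by
      refine Algebra.adjoin_le ?_
      rintro _ ⟨p, rfl⟩
      exact ⟨_, hroots, aeval_charpoly_translate g hM p.1 p.2⟩
    rw [hgen] at this
    exact this Algebra.mem_top
  set G := Matrix.of fun a b => g (N a b) with hG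
  have key : ∀ μ ∈ G.charpoly.roots, μ ∈ Ls := by
    intro μ hμ
    have hdet : (Matrix.scalar (Fin d) μ - G).det = 0 := by
      rw [← Matrix.eval_charpoly]
      exact (Polynomial.mem_roots G.charpoly_monic.ne_zero).mp hμ
    obtain ⟨v, hv, hGv⟩ := Matrix.exists_mulVec_eq_zero_iff.mpr hdet
    rw [Matrix.sub_mulVec, sub_eq_zero, Matrix.scalar_apply, Matrix.diagonal_const_mulVec] at hGv
    obtain ⟨i, hi⟩ := Function.ne_iff.mp hv
    have heig : (translate g).toLinearMap (rowMap (k := k) N i v) = μ • rowMap (k := k) N i v := by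
      rw [← map_smul]
      exact (translate_matrix g hN i v).trans (by rw [← hG, ← hGv]; rfl)
    have hb : rowMap (k := k) N i v ≠ 0 := by
      intro h0
      have h1 := congrArg (Algebra.TensorProduct.lift (R := k) (S := K) (A := K) (B := B) (C := K) (AlgHom.id K K)
        ((Algebra.ofId k K).comp (Bialgebra.counitAlgHom k B)) (fun _ _ => Commute.all _ _)) h0
      rw [map_zero] at h1
      refine hi ?_
      simp only [rowMap, LinearMap.coe_mk, AddHom.coe_mk, map_sum, Algebra.TensorProduct.lift_tmul,
        AlgHom.comp_apply, Bialgebra.counitAlgHom_apply, hN.counit] at h1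
      simpa [Algebra.ofId_apply] using h1
    have hmem : rowMap (k := k) N i v ∈ rootSubalgebra Ls (translate g) :=
      Subalgebra.sum_mem _ (t := Finset.univ) (f := fun j => v j ⊗ₜ[k] N i j) fun j _ => by
        show v j ⊗ₜ[k] N i j ∈ _
        rw [show v j ⊗ₜ[k] N i j = v j • ((1 : K) ⊗ₜ[k] N i j) by rw [TensorProduct.smul_tmul', smul_eq_mul, mul_one]]
        exact Subalgebra.smul_mem _ (hQ _) _
    obtain ⟨s, hs, hkill⟩ := hmem
    have hev : Module.End.HasEigenvector ((translate g).toLinearMap : Module.End K (K ⊗[k] B)) μ (rowMap (k := k) N i v) :=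
      ⟨Module.End.mem_eigenspace_iff.mpr heig, hb⟩
    rw [Module.End.aeval_apply_of_hasEigenvector hev, smul_eq_zero, or_iff_left hb, splitPoly, eval_multiset_prod,
      Multiset.prod_eq_zero_iff] at hkill
    simp only [Multiset.map_map, Multiset.mem_map, Function.comp_apply, eval_sub, eval_X, eval_C] at hkill
    obtain ⟨a, ha, hμa⟩ := hkill
    rw [sub_eq_zero.mp hμa]
    exact hs a ha
  have htr := Matrix.trace_eq_sum_roots_charpoly G
  rw [Matrix.trace] at htr
  simp only [Matrix.diag_apply, hG, Matrix.of_apply] at htr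
  rw [htr]
  exact multiset_sum_mem _ key

end Translate

end Groth.Agent.ComodLib
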