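import Groth.Agent.ComodLib.Minors
import Groth.Agent.ComodLib.Eigen
import Groth.Agent.GrpSchLib.Cartier
import Groth.Prelude.Def_ComodSub
import Mathlib.RingTheory.Ideal.MinimalPrime.Noetherian
import Mathlib.RingTheory.Noetherian.Basic
import Mathlib.FieldTheory.IsAlgClosed.AlgebraicClosure
import Mathlib.AlgebraicGeometry.Group.Affine

/-!
# Characters of a closed subgroup form a finite module over restricted characters
-/

universe u

open TensorProduct Polynomial CategoryTheory AlgebraicGeometry

namespace Groth.Agent.ComodLib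

section Char

variable {k : Type u} [Field k] {A : Type u} [CommRing A] [Bialgebra k A]

variable (k A) in
/-- The set of characters of comodules on coordinate spaces. -/
def charSet : Set A :=
  Set.range fun p : (Σ d : ℕ, HopfRep.Comod k A (Fin d → k)) =>
    ∑ i : Fin p.1, TensorProduct.lid k A (LinearMap.rTensor A (LinearMap.proj i)
      (@HopfRep.Comod.coact k A _ _ _ _ (Fin p.1 → k) _ _ p.2 (Pi.single i 1)))

theorem mem_charSet_iff {a : A} :
    a ∈ charSet k A ↔ ∃ (d : ℕ) (N : Fin d → Fin d → A), IsComodMatrix k N ∧ a = ∑ i, N i i := by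
  constructor
  · rintro ⟨⟨d, c⟩, rfl⟩
    let := c
    exact ⟨d, matrixOf (Pi.basisFun k (Fin d)), isComodMatrix_matrixOf _,
      Finset.sum_congr rfl fun i _ => by simp [matrixOf]; rfl⟩
  · rintro ⟨d, N, hN, rfl⟩
    refine ⟨⟨d, ofMatrix N hN⟩, Finset.sum_congr rfl fun i _ => ?_⟩
    rw [ofMatrix_coact N hN, map_sum, map_sum, Finset.sum_eq_single i]
    · simp [orbit, Pi.single_apply]
    · intro j _ hj; simp [Pi.single_eq_of_ne hj.symm]
    · simp

theorem sum_diag_mem_charSet {X : Type} [Fintype X] [DecidableEq X] {D : X → X → A} (hD : IsComodMatrix k D) :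
    ∑ x, D x x ∈ charSet k A := by
  let e := (Fintype.equivFin X).symm
  refine mem_charSet_iff.mpr ⟨_, fun a b => D (e a) (e b), ⟨fun a b => ?_, fun a b => ?_⟩,
    (e.sum_comp fun x => D x x).symm⟩
  · rw [hD.comul]
    exact (e.sum_comp fun l => D (e a) l ⊗ₜ[k] D l (e b)).symm
  · simp [hD.counit]

/-- A finitely generated commutative bialgebra is generated by the entries of one matrix. -/
theorem exists_generating_matrix [Algebra.FiniteType k A] :
    ∃ (n : ℕ) (M : Fin n → Fin n → A), IsComodMatrix k M ∧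
      Algebra.adjoin k (Set.range fun p : Fin n × Fin n => M p.1 p.2) = ⊤ := by
  obtain ⟨gens, hgens⟩ := (Algebra.FiniteType.out : (⊤ : Subalgebra k A).FG)
  obtain ⟨U, hUf, hgU, hU⟩ := exists_finite_subcomod_le (k := k) (C := A) (V := A) gens.finite_toSet
  let cU : HopfRep.Comod k A U := ComodSub.Comod.restr (HopfRep.Comod.regular k A) U hU
  obtain ⟨n, ⟨b⟩⟩ : ∃ n, Nonempty (Module.Basis (Fin n) k U) := ⟨_, ⟨Module.finBasis k U⟩⟩
  let M := @matrixOf k _ A _ _ _ (Fin n) U _ _ cU b
  refine ⟨n, M, @isComodMatrix_matrixOf k _ A _ _ _ (Fin n) _ _ U _ _ cU b, eq_top_iff.mpr ?_⟩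
  set S := Algebra.adjoin k (Set.range fun p : Fin n × Fin n => M p.1 p.2)
  rw [← hgens]
  refine Algebra.adjoin_le fun a ha => ?_
  have hb : ∀ j, (b j : A) ∈ S := by
    intro j
    have h1 : Coalgebra.comul (R := k) (b j : A) = ∑ i, (b i : A) ⊗ₜ[k] M i j := by
      rw [← show _ = Coalgebra.comul (R := k) (b j : A) from
        ComodSub.restr_coact_coe (HopfRep.Comod.regular k A) U hU (b j),
        @coact_matrixOf k _ A _ _ _ (Fin n) _ _ U _ _ cU b j, map_sum]
      rfl
    have h2 := congrArg (TensorProduct.lid k A) (Coalgebra.rTensor_counit_comul (R := k) (b j : A))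
    rw [TensorProduct.lid_tmul, one_smul, h1, map_sum, map_sum] at h2
    rw [← h2]
    exact Subalgebra.sum_mem _ fun i _ => by
      rw [LinearMap.rTensor_tmul, TensorProduct.lid_tmul]
      exact Subalgebra.smul_mem _ (show M i j ∈ S from Algebra.subset_adjoin ⟨(i, j), rfl⟩) _
  have hx : a = ∑ i, b.repr (⟨a, hgU ha⟩ : U) i • (b i : A) := by
    have := congrArg Subtype.val (b.sum_repr (⟨a, hgU ha⟩ : U))
    simp only [Submodule.coe_sum, Submodule.coe_smul] at this
    exact this.symm
  rw [hx]
  exact Subalgebra.sum_mem _ fun i _ => Subalgebra.smul_mem _ (hb i) _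

end Char

section Main

variable {k : Type u} [Field k] {B : Type u} [CommRing B] [HopfAlgebra k B] [Algebra.FiniteType k B]

theorem isReduced_of_charZero [IsAlgClosed k] [CharZero k] : _root_.IsReduced B := by
  let G := (Spec (CommRingCat.of B)).asOver (Spec (CommRingCat.of k))
  have : LocallyOfFiniteType G.hom :=
    (HasRingHomProperty.Spec_iff (P := @LocallyOfFiniteType)).mpr
      (RingHom.finiteType_algebraMap.mpr (inferInstance : Algebra.FiniteType k B))
  have : AlgebraicGeometry.IsReduced (Spec (CommRingCat.of B)) := GrpSchLib.isReduced_of_isAlgClosed G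
  exact (affine_isReduced_iff (CommRingCat.of B)).mp this

theorem span_charSet_fg [IsAlgClosed k] [CharZero k] {A : Type u} [CommRing A] [HopfAlgebra k A]
    [Algebra.FiniteType k A] (π : A →ₐc[k] B) (hπ : Function.Surjective π) :
    ∃ F : Finset B, (↑F : Set B) ⊆ charSet k B ∧
      (Submodule.span k (charSet k B) : Set B) ⊆
        (Submodule.span (Algebra.adjoin k (π '' charSet k A)) (↑F : Set B) : Set B) := by
  classical
  have : IsNoetherianRing B := Algebra.FiniteType.isNoetherianRing k B
  have : _root_.IsReduced B := isReduced_of_charZero (k := k)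
  obtain ⟨n, MA, hMA, hgenA⟩ := exists_generating_matrix (k := k) (A := A)
  let M : Fin n → Fin n → B := fun i j => π (MA i j)
  have hM : IsComodMatrix k M :=
    ⟨fun i j => by
      show Coalgebra.comul (R := k) (π (MA i j)) = _
      rw [← CoalgHomClass.map_comp_comul_apply, hMA.comul, map_sum]
      simp [M],
     fun i j => (CoalgHomClass.counit_comp_apply π _).trans (hMA.counit i j)⟩
  let πa : A →ₐ[k] B := (π : A →ₐ[k] B)
  have hgen : Algebra.adjoin k (Set.range fun p : Fin n × Fin n => M p.1 p.2) = ⊤ := by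
    rw [show (Set.range fun p : Fin n × Fin n => M p.1 p.2) = πa '' (Set.range fun p : Fin n × Fin n => MA p.1 p.2) from
      Set.range_comp πa _, Algebra.adjoin_image, hgenA, Algebra.map_top, AlgHom.range_eq_top]
    exact hπ
  let t : Fin (n + 1) → B := fun r => ∑ s, minorMatrix M r s s
  let R0 : Subalgebra k B := Algebra.adjoin k (Set.range t)
  have hR0 : R0 ≤ Algebra.adjoin k (π '' charSet k A) := by
    refine Algebra.adjoin_mono ?_
    rintro _ ⟨r, rfl⟩
    refine ⟨∑ s, minorMatrix MA r s s, sum_diag_mem_charSet (hMA.minorMatrix r), ?_⟩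
    show πa _ = _
    rw [map_sum]
    exact Finset.sum_congr rfl fun s _ => AlgHom.map_det πa _
  have : Algebra.FiniteType k R0 :=
    (Subalgebra.fg_iff_finiteType R0).mp (Subalgebra.fg_def.mpr ⟨_, Set.finite_range t, rfl⟩)
  have : IsNoetherianRing R0 := Algebra.FiniteType.isNoetherianRing k R0
  let P := {p : Ideal B // p ∈ minimalPrimes B}
  have : Finite P := (minimalPrimes.finite_of_isNoetherianRing B).to_subtype
  have : ∀ p : P, p.1.IsPrime := fun p => Ideal.minimalPrimes_isPrime p.2
  let Kf : P → Type u := fun p => AlgebraicClosure (FractionRing (B ⧸ p.1))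
  let h : ∀ p : P, B →ₐ[k] Kf p := fun p =>
    (IsScalarTower.toAlgHom k (B ⧸ p.1) (AlgebraicClosure (FractionRing (B ⧸ p.1)))).comp (Ideal.Quotient.mkₐ k p.1)
  let Φ : B →ₐ[k] ∀ p, Kf p := AlgHom.pi h
  have hker : ∀ (p : P) (x : B), h p x = 0 → x ∈ p.1 := fun p x hx => by
    have h1 : algebraMap (FractionRing (B ⧸ p.1)) (AlgebraicClosure (FractionRing (B ⧸ p.1)))
        (algebraMap (B ⧸ p.1) (FractionRing (B ⧸ p.1)) (Ideal.Quotient.mk p.1 x)) = 0 := by
      rw [← IsScalarTower.algebraMap_apply]; exact hx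
    rw [map_eq_zero_iff _ (FaithfulSMul.algebraMap_injective _ _),
      map_eq_zero_iff _ (IsFractionRing.injective (B ⧸ p.1) (FractionRing (B ⧸ p.1)))] at h1
    exact Ideal.Quotient.eq_zero_iff_mem.mp h1
  have hΦ : Function.Injective Φ := by
    rw [injective_iff_map_eq_zero]
    intro x hx
    have h2 : x ∈ nilradical B := by
      rw [nilradical, ← Ideal.sInf_minimalPrimes, Submodule.mem_sInf]
      exact fun q hq => hker ⟨q, hq⟩ x (congrFun hx ⟨q, hq⟩)
    rwa [nilradical_eq_zero B] at h2
  let Gp : ∀ p, Matrix (Fin n) (Fin n) (Kf p) := fun p => Matrix.of fun a b => h p (M a b)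
  have hint : ∀ p, ∀ a ∈ (Gp p).charpoly.roots, IsIntegral R0 a := by
    intro p a ha
    have hl : (Gp p).charpoly ∈ lifts (algebraMap R0 (Kf p)) := by
      rw [lifts_iff_coeff_lifts]
      intro m
      by_cases hm : m ≤ n
      · have hr : n - m < n + 1 := by omega
        refine ⟨(-1) ^ (n - m) * ⟨t ⟨n - m, hr⟩, Algebra.subset_adjoin ⟨_, rfl⟩⟩, ?_⟩
        rw [map_mul, map_pow, map_neg, map_one]
        show _ * h p (∑ s, minorMatrix M (n - m) s s) = _
        rw [trace_minorMatrix _ _ (by rw [Fintype.card_fin]; omega), map_mul, map_pow, map_neg, map_one, ← mul_assoc,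
          ← mul_pow, neg_one_mul, neg_neg, one_pow, one_mul, Fintype.card_fin, show n - (n - m) = m by omega]
        have e := Matrix.charpoly_map (Matrix.of M) (h p).toRingHom
        exact ((congrArg (fun q => Polynomial.coeff q m) e).trans (Polynomial.coeff_map _ _)).symm
      · refine ⟨0, ?_⟩
        rw [map_zero, Polynomial.coeff_eq_zero_of_natDegree_lt]
        rw [Matrix.charpoly_natDegree_eq_dim, Fintype.card_fin]; omega
    obtain ⟨q, hq, -, hqm⟩ := Polynomial.lifts_and_natDegree_eq_and_monic hl (Gp p).charpoly_monic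
    refine ⟨q, hqm, ?_⟩
    rw [← Polynomial.eval_map, hq]
    exact (Polynomial.mem_roots (Gp p).charpoly_monic.ne_zero).mp ha
  let T : ∀ p, Subalgebra R0 (Kf p) := fun p => Algebra.adjoin R0 {a | a ∈ (Gp p).charpoly.roots}
  have hTfin : ∀ p, Module.Finite R0 (T p) := fun p =>
    Module.Finite.iff_fg.mpr (fg_adjoin_of_finite ((Gp p).charpoly.roots.finite_toSet) (hint p))
  let ΦR : B →ₗ[R0] ∀ p, Kf p :=
    { toFun := Φ
      map_add' := map_add Φ
      map_smul' := fun c x => funext fun p => by
        show h p ((c : B) * x) = c • h p x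
        rw [map_mul, Algebra.smul_def]
        rfl }
  let N : Submodule R0 B := Submodule.span R0 (charSet k B)
  have hmem : ∀ x : N, ∀ p, ΦR x p ∈ T p := by
    intro x p
    have : N ≤ (T p).toSubmodule.comap (LinearMap.proj p ∘ₗ ΦR) := by
      refine Submodule.span_le.mpr fun c hc => ?_
      obtain ⟨d, D, hD, rfl⟩ := mem_charSet_iff.mp hc
      show h p (∑ i, D i i) ∈ T p
      rw [map_sum]
      exact trace_mem (T p) (h p) hM hgen (fun a ha => Algebra.subset_adjoin ha) hD
    exact this x.2
  let ΦN : N →ₗ[R0] ∀ p, T p := LinearMap.pi fun p =>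
    LinearMap.codRestrict (T p).toSubmodule (LinearMap.proj p ∘ₗ ΦR ∘ₗ N.subtype) fun x => hmem x p
  have hΦN : Function.Injective ΦN := fun x y hxy =>
    Subtype.ext (hΦ (funext fun p => congrArg Subtype.val (congrFun hxy p)))
  have := Fintype.ofFinite P
  have : IsNoetherian R0 (∀ p, T p) := isNoetherian_of_isNoetherianRing_of_finite R0 _
  have hNfg : N.FG := Module.Finite.iff_fg.mp (Module.Finite.of_injective ΦN hΦN)
  obtain ⟨F, hF, hFN⟩ := (Submodule.fg_span_iff_fg_span_finset_subset _).mp hNfg
  refine ⟨F, hF, fun x hx => ?_⟩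
  have hx' : x ∈ N := by
    refine Submodule.span_le_restrictScalars k R0 _ hx
  rw [show N = Submodule.span R0 (↑F : Set B) from hFN] at hx'
  clear hx
  induction hx' using Submodule.span_induction with
  | mem a ha => exact Submodule.subset_span ha
  | zero => exact Submodule.zero_mem _
  | add a b _ _ ha hb => exact Submodule.add_mem _ ha hb
  | smul c a _ ha => exact Submodule.smul_mem _ (⟨c, hR0 c.2⟩ : Algebra.adjoin k (π '' charSet k A)) ha

end Main

end Groth.Agent.ComodLib
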