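import Mathlib.Order.CompactlyGenerated.Basic
import Mathlib.Order.Hom.CompleteLattice

/-!
# Complements spanned by a prescribed family of atoms, and independence under lattice maps
-/

universe u v w

namespace Groth.Agent.ComodLib

variable {α : Type u} [CompleteLattice α] [IsModularLattice α] [IsCompactlyGenerated α]

/-- If a set of atoms spans, every element has a complement spanned by an independent subset of it. -/
theorem exists_subset_isCompl {A : Set α} (hA : ∀ a ∈ A, IsAtom a) (h : sSup A = ⊤) (b : α) :
    ∃ s ⊆ A, sSupIndep s ∧ IsCompl b (sSup s) := by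
  have zorn := zorn_subset
    (S := {s : Set α | sSupIndep s ∧ Disjoint b (sSup s) ∧ s ⊆ A})
    fun c hc1 hc2 =>
      ⟨⋃₀ c,
        ⟨iSupIndep_sUnion_of_directed hc2.directedOn fun s hs => (hc1 hs).1, ?_,
          Set.sUnion_subset fun s sc => (hc1 sc).2.2⟩,
        fun _ => Set.subset_sUnion_of_mem⟩
  swap
  · rw [sSup_sUnion, ← sSup_image, DirectedOn.disjoint_sSup_right]
    · rintro _ ⟨s, hs, rfl⟩
      exact (hc1 hs).2.1
    · rw [directedOn_image]
      exact hc2.directedOn.mono @fun s t => sSup_le_sSup
  simp_rw [maximal_subset_iff] at zorn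
  obtain ⟨s, ⟨s_ind, b_inf_Sup_s, s_atoms⟩, s_max⟩ := zorn
  refine ⟨s, s_atoms, s_ind, b_inf_Sup_s, codisjoint_iff.mpr (le_antisymm le_top ?_)⟩
  rw [← h, sSup_le_iff]
  intro a ha
  rw [← inf_eq_left]
  refine ((hA a ha).le_iff.mp inf_le_left).resolve_left fun con => (hA a ha).1 ?_
  rw [← con, eq_comm, inf_eq_left]
  refine (le_sSup ?_).trans le_sup_right
  rw [← disjoint_iff] at con
  have a_dis_Sup_s : Disjoint a (sSup s) := con.mono_right le_sup_right
  rw [s_max ⟨fun x hx => ?_, ?_, Set.union_subset s_atoms (Set.singleton_subset_iff.mpr ha)⟩ Set.subset_union_left]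
  · exact Set.mem_union_right _ (Set.mem_singleton _)
  · rw [sSup_union, sSup_singleton]
    exact b_inf_Sup_s.disjoint_sup_right_of_disjoint_sup_left con.symm
  · rw [Set.mem_union, Set.mem_singleton_iff] at hx
    obtain rfl | xa := eq_or_ne x a
    · simp only [Set.mem_singleton, Set.insert_sdiff_of_mem, Set.union_singleton]
      exact con.mono_right ((sSup_le_sSup Set.sdiff_subset).trans le_sup_right)
    · have h : (s ∪ {a}) \ {x} = s \ {x} ∪ {a} := by
        simp only [Set.union_singleton]
        rw [Set.insert_sdiff_of_notMem]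
        rw [Set.mem_singleton_iff]
        exact Ne.symm xa
      rw [h, sSup_union, sSup_singleton]
      apply
        (s_ind (hx.resolve_right xa)).disjoint_sup_right_of_disjoint_sup_left
          (a_dis_Sup_s.mono_right _).symm
      rw [← sSup_insert, Set.insert_sdiff_singleton, Set.insert_eq_of_mem (hx.resolve_right xa)]

omit [IsModularLattice α] [IsCompactlyGenerated α] in
/-- Independence is preserved by maps of complete lattices. -/
theorem iSupIndep_map {β : Type v} [CompleteLattice β] {ι : Sort w} (f : CompleteLatticeHom α β)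
    {t : ι → α} (ht : iSupIndep t) : iSupIndep (fun i => f (t i)) := by
  intro i
  have h := (ht i).eq_bot
  rw [disjoint_iff]
  have key : (⨆ (j) (_ : j ≠ i), f (t j)) = f (⨆ (j) (_ : j ≠ i), t j) := by
    simp only [map_iSup]
  rw [key, ← map_inf, h, map_bot]

end Groth.Agent.ComodLib
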