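import Groth.Agent.ComodLib.Simple
import Groth.Agent.ComodLib.Lattice

/-!
# Minimal subcomodules, sums of simple subcomodules and semisimplicity
-/

universe u v w w'

open TensorProduct WithConv

namespace Groth.Agent.ComodLib

variable {k : Type u} [CommRing k] {C : Type v} [AddCommGroup C] [Module k C] [Coalgebra k C]
variable {V : Type w} [AddCommGroup V] [Module k V] [HopfRep.Comod k C V]

variable (k C) in
/-- A minimal nonzero subcomodule. -/
def IsMinSubcomod (U : Submodule k V) : Prop :=
  HopfRep.IsSubcomod (k := k) (A := C) U ∧ U ≠ ⊥ ∧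
    ∀ U' : Submodule k V, HopfRep.IsSubcomod (k := k) (A := C) U' → U' ≤ U → U' = ⊥ ∨ U' = U

variable [Module.Free k C]

theorem isAtom_iff_isMinSubcomod (N : Submodule (WithConv (C →ₗ[k] k)) V) :
    IsAtom N ↔ IsMinSubcomod k C (N.restrictScalars k) := by
  constructor
  · intro h
    refine ⟨isSubcomod_restrictScalars N,
      fun hb => h.1 ((Submodule.restrictScalars_eq_bot_iff k _ _).mp hb), fun U' hU' hle => ?_⟩
    rcases h.le_iff.mp (show toConvSub U' hU' ≤ N from fun x hx => hle hx) with h' | h'
    · exact Or.inl (by rw [← restrictScalars_toConvSub U' hU', h']; rfl)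
    · exact Or.inr (by rw [← restrictScalars_toConvSub U' hU', h'])
  · rintro ⟨-, hne, h⟩
    refine ⟨fun hb => hne (by rw [hb]; rfl), fun N' hN' => ?_⟩
    rcases h _ (isSubcomod_restrictScalars N') (fun x hx => hN'.le hx) with h' | h'
    · exact (Submodule.restrictScalars_eq_bot_iff k _ _).mp h'
    · exact absurd (Submodule.restrictScalars_injective k _ _ h') hN'.ne

theorem iSupIndep_of_isInternal_conv {ι : Sort*} {t : ι → Submodule (WithConv (C →ₗ[k] k)) V}
    (ht : iSupIndep t) : iSupIndep (fun i => (t i).restrictScalars k) :=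
  iSupIndep_map (Submodule.restrictScalarsLatticeHom k (WithConv (C →ₗ[k] k)) V) ht

/-- If minimal subcomodules span, every subcomodule has a complement which is an independent sum of some of
them. -/
theorem exists_isCompl_iSup_of_minimal {ι : Type*} (S : ι → Submodule k V)
    (hS : ∀ i, IsMinSubcomod k C (S i)) (hsum : ⨆ i, S i = ⊤) (U : Submodule k V)
    (hU : HopfRep.IsSubcomod (k := k) (A := C) U) :
    ∃ J : Set ι, iSupIndep (fun j : J => S j) ∧ IsCompl U (⨆ j : J, S j) := by
  classical
  let T : ι → Submodule (WithConv (C →ₗ[k] k)) V := fun i => toConvSub (S i) (hS i).1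
  have hT : ∀ a ∈ Set.range T, IsAtom a := by
    rintro _ ⟨i, rfl⟩
    exact (isAtom_iff_isMinSubcomod _).mpr (hS i)
  have htop : sSup (Set.range T) = ⊤ := by
    apply Submodule.restrictScalars_injective k
    rw [sSup_range, Submodule.restrictScalars_iSup, Submodule.restrictScalars_top]
    exact hsum
  obtain ⟨s, hsA, hind, hc⟩ := exists_subset_isCompl hT htop (toConvSub U hU)
  choose f hf using fun a : s => hsA a.2
  have hfinj : Function.Injective f := fun a b h => Subtype.ext (by rw [← hf a, h, hf b])
  refine ⟨Set.range f, ?_, ?_⟩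
  · let e : Set.range f ≃ s := (Equiv.ofInjective f hfinj).symm
    have he : ∀ j : Set.range f, S j = ((e j : Submodule (WithConv (C →ₗ[k] k)) V)).restrictScalars k := by
      rintro ⟨_, a, rfl⟩
      simp only [e, Equiv.ofInjective_symm_apply]
      rw [← hf a]
      rfl
    simp only [he]
    exact (iSupIndep_of_isInternal_conv ((sSupIndep_iff _).mp hind)).comp e.injective
  · have h1 : (⨆ j : Set.range f, S j) = (sSup s).restrictScalars k := by
      rw [iSup_range' (fun i => S i) f, sSup_eq_iSup', Submodule.restrictScalars_iSup]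
      refine iSup_congr fun a => ?_
      rw [← hf a]
      rfl
    rw [h1]
    exact (Submodule.isCompl_restrictScalars_iff k).mpr hc

theorem isSemisimpleComod_of_iSup_minimal {ι : Type*} (S : ι → Submodule k V)
    (hS : ∀ i, IsMinSubcomod k C (S i)) (hsum : ⨆ i, S i = ⊤) :
    HopfRep.IsSemisimpleComod k C V := fun U hU => by
  obtain ⟨J, -, hc⟩ := exists_isCompl_iSup_of_minimal S hS hsum U hU
  exact ⟨_, isSubcomod_iSup fun j : J => (hS j).1, hc⟩

theorem exists_minimal_decomposition (hV : HopfRep.IsSemisimpleComod k C V) :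
    ∃ s : Set (Submodule k V), (∀ U ∈ s, IsMinSubcomod k C U) ∧
      iSupIndep (fun U : s => (U : Submodule k V)) ∧ (⨆ U : s, (U : Submodule k V)) = ⊤ := by
  haveI := isSemisimpleComod_iff_isSemisimpleModule.mp hV
  obtain ⟨s, hind, htop, hsimp⟩ :=
    IsSemisimpleModule.exists_sSupIndep_sSup_simples_eq_top (WithConv (C →ₗ[k] k)) V
  refine ⟨(Submodule.restrictScalars k) '' s, ?_, ?_, ?_⟩
  · rintro _ ⟨N, hN, rfl⟩
    exact (isAtom_iff_isMinSubcomod N).mp (isSimpleModule_iff_isAtom.mp (hsimp N hN))
  · let e := Equiv.Set.image _ s (Submodule.restrictScalars_injective k (WithConv (C →ₗ[k] k)) V)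
    have h := (iSupIndep_of_isInternal_conv ((sSupIndep_iff _).mp hind)).comp e.symm.injective
    refine cast (congrArg iSupIndep (funext fun U => ?_)) h
    obtain ⟨a, rfl⟩ := e.surjective U
    simp [e]
  · rw [iSup_subtype (p := fun U => U ∈ Submodule.restrictScalars k '' s) (f := fun U => (U.1 : Submodule k V)),
      iSup_image, ← Submodule.restrictScalars_top k (R := WithConv (C →ₗ[k] k)), ← htop, sSup_eq_iSup]
    simp only [Submodule.restrictScalars_iSup]

end Groth.Agent.ComodLib
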