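import Groth.Agent.ComodLib.Coalg
import Groth.Agent.ComodLib.MatrixComod
import Groth.Agent.ComodLib.Reductive
import Groth.Agent.ComodLib.Simple
import Groth.Agent.ComodLib.Semisimple
import Groth.Agent.ComodLib.Trig
import Mathlib.FieldTheory.IsAlgClosed.Basic
import Mathlib.LinearAlgebra.Eigenspace.Triangularizable

/-!
# Matrix coefficients of pairwise non-isomorphic simple comodules; characters and cocommutative elements
-/

universe u

open TensorProduct WithConv

namespace Groth.Agent.ComodLib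

variable {k : Type u} [Field k] {A : Type u} [CommRing A] [Bialgebra k A]

/-- The matrix coefficients of a comodule structure on `k^d`. -/
noncomputable def mc {d : ℕ} (c : HopfRep.Comod k A (Fin d → k)) (p q : Fin d) : A :=
  letI := c
  matrixOf (A := A) (Pi.basisFun k (Fin d)) p q

theorem mc_eq {d : ℕ} (c : HopfRep.Comod k A (Fin d → k)) (p q : Fin d) :
    mc c p q = TensorProduct.lid k A (LinearMap.rTensor A (LinearMap.proj p)
      (@HopfRep.Comod.coact k A _ _ _ _ (Fin d → k) _ _ c (Pi.single q 1))) := by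
  unfold mc matrixOf
  rw [show (Pi.basisFun k (Fin d)).coord p = LinearMap.proj p from LinearMap.ext fun v => rfl, Pi.basisFun_apply]

theorem mc_eq_coefFun {d : ℕ} (c : HopfRep.Comod k A (Fin d → k)) (p q : Fin d) :
    mc c p q = (letI := c; coefFun (C := A) (LinearMap.proj (R := k) (φ := fun _ : Fin d => k) p) (Pi.single q 1)) := mc_eq c p q

theorem coefFun_mem_span_mc {d : ℕ} (c : HopfRep.Comod k A (Fin d → k)) (g : (Fin d → k) →ₗ[k] k)
    (v : Fin d → k) :
    (letI := c; coefFun (C := A) g v) ∈ Submodule.span k (Set.range fun pq : Fin d × Fin d => mc c pq.1 pq.2) := by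
  letI := c
  show coefFun (C := A) g v ∈ _
  have e : coefFun (C := A) g v = ∑ p, ∑ q, (g (Pi.basisFun k (Fin d) p) * v q) • mc c p q := by
    rw [coefFun_apply, coact_eq_orbit (A := A) (Pi.basisFun k (Fin d)), map_sum, map_sum]
    refine Finset.sum_congr rfl fun p _ => ?_
    rw [LinearMap.rTensor_tmul, TensorProduct.lid_tmul, orbit, Finset.smul_sum]
    refine Finset.sum_congr rfl fun q _ => ?_
    rw [smul_smul, Pi.basisFun_repr]
    rfl
  rw [e]
  exact Submodule.sum_mem _ fun p _ => Submodule.sum_mem _ fun q _ =>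
    Submodule.smul_mem _ _ (Submodule.subset_span ⟨(p, q), rfl⟩)

/-- A copy of `k^(d j)` indexed by `j`, to carry one structure per index. -/
def Blk (k : Type u) {n : ℕ} (d : Fin n → ℕ) (j : Fin n) : Type u := Fin (d j) → k

section
variable {n : ℕ} (d : Fin n → ℕ)

instance (j : Fin n) : AddCommGroup (Blk k d j) := inferInstanceAs (AddCommGroup (Fin (d j) → k))
instance (j : Fin n) : Module k (Blk k d j) := inferInstanceAs (Module k (Fin (d j) → k))
instance (j : Fin n) : Module.Finite k (Blk k d j) := inferInstanceAs (Module.Finite k (Fin (d j) → k))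

end

open scoped Groth.Agent.ComodLib in
/-- Matrix coefficients of pairwise non-isomorphic simple comodules have a dual system of forms. -/
theorem exists_mc_dual [IsAlgClosed k] {n : ℕ} (d : Fin n → ℕ) (c : ∀ i, HopfRep.Comod k A (Fin (d i) → k))
    (hs : ∀ i, @HopfRep.IsSimpleComod k A _ _ _ _ (Fin (d i) → k) _ _ (c i))
    (hni : ∀ i j, i ≠ j → ∀ P : (Fin (d i) → k) ≃ₗ[k] (Fin (d j) → k),
      LinearMap.rTensor A P.toLinearMap ∘ₗ @HopfRep.Comod.coact k A _ _ _ _ (Fin (d i) → k) _ _ (c i) ≠
        (@HopfRep.Comod.coact k A _ _ _ _ (Fin (d j) → k) _ _ (c j)) ∘ₗ P.toLinearMap)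
    (i : Fin n) (p q : Fin (d i)) :
    ∃ φ : A →ₗ[k] k, φ (mc (c i) p q) = 1 ∧ (∀ r s, (r, s) ≠ (p, q) → φ (mc (c i) r s) = 0) ∧
      ∀ j, j ≠ i → ∀ r s, φ (mc (c j) r s) = 0 := by
  classical
  letI cB : ∀ j, HopfRep.Comod k A (Blk k d j) := c
  haveI hS : ∀ j, IsSimpleModule (WithConv (A →ₗ[k] k)) (Blk k d j) := fun j =>
    (isSimpleComod_iff_isSimpleModule (C := A) (V := Blk k d j)).mp (hs j)
  haveI : IsSemisimpleModule (WithConv (A →ₗ[k] k)) (∀ j, Blk k d j) := inferInstance
  have hend : ∀ (g : Module.End (WithConv (A →ₗ[k] k)) (∀ j, Blk k d j)), ∃ μ : Fin n → k,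
      ∀ m j, g m j = μ j • m j := by
    intro g
    let gij : ∀ a b, Blk k d a →ₗ[WithConv (A →ₗ[k] k)] Blk k d b := fun a b =>
      LinearMap.proj b ∘ₗ g ∘ₗ LinearMap.single _ (Blk k d) a
    have hoff : ∀ a b, a ≠ b → gij a b = 0 := by
      intro a b hab
      rcases LinearMap.bijective_or_eq_zero (gij a b) with h | h
      · exfalso
        let P : (Fin (d a) → k) ≃ₗ[k] (Fin (d b) → k) :=
          LinearEquiv.ofBijective ((gij a b).restrictScalars k) h
        exact hni a b hab P (isComodHom_of_convLinear (C := A) (V := Blk k d a) (W := Blk k d b) (gij a b)).symm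
      · exact h
    have hdiag : ∀ a, ∃ μ : k, ∀ v, gij a a v = μ • v := by
      intro a
      haveI : Nontrivial (Blk k d a) := IsSimpleModule.nontrivial (WithConv (A →ₗ[k] k)) _
      obtain ⟨μ, hμ⟩ := Module.End.exists_eigenvalue ((gij a a).restrictScalars k)
      refine ⟨μ, fun v => ?_⟩
      rcases LinearMap.bijective_or_eq_zero (gij a a - μ • LinearMap.id) with h | h
      · exfalso
        obtain ⟨w, hw, hw0⟩ := hμ.exists_hasEigenvector
        refine hw0 (h.1 ?_)
        have := Module.End.mem_eigenspace_iff.mp hw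
        simp only [LinearMap.sub_apply, LinearMap.smul_apply, LinearMap.id_apply, map_zero]
        exact sub_eq_zero.mpr this
      · exact sub_eq_zero.mp (LinearMap.congr_fun h v)
    choose μ hμ using hdiag
    refine ⟨μ, fun m j => ?_⟩
    conv_lhs => rw [← Finset.univ_sum_single m, map_sum, Finset.sum_apply]
    rw [Finset.sum_eq_single j]
    · exact hμ j (m j)
    · intro a _ ha
      exact LinearMap.congr_fun (hoff a j ha) (m a)
    · simp
  let F : ∀ j, Blk k d j →ₗ[k] Blk k d j := fun j =>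
    if h : j = i then h ▸ (LinearMap.single k (fun _ => k) p ∘ₗ LinearMap.proj q :
      (Fin (d i) → k) →ₗ[k] (Fin (d i) → k)) else 0
  let f : Module.End (Module.End (WithConv (A →ₗ[k] k)) (∀ j, Blk k d j)) (∀ j, Blk k d j) :=
    { toFun := fun m j => F j (m j)
      map_add' := fun a b => funext fun j => map_add (F j) _ _
      map_smul' := fun g m => funext fun j => by
        obtain ⟨μ, hμ⟩ := hend g
        simp only [RingHom.id_apply, Module.End.smul_def, hμ, map_smul] }
  obtain ⟨φ, hφ⟩ := jacobson_density f (Finset.univ.image fun js : Σ j, Fin (d j) =>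
    Pi.single (M := Blk k d) js.1 (Pi.single js.2 (1 : k) : Fin (d js.1) → k))
  have key : ∀ j r s, φ.ofConv (mc (c j) r s) =
      (F j (Pi.single s (1 : k) : Fin (d j) → k) : Fin (d j) → k) r := by
    intro j r s
    have h := congrFun (hφ _ (Finset.mem_image.mpr ⟨⟨j, s⟩, Finset.mem_univ _, rfl⟩)) j
    have h' : (F j (Pi.single s (1 : k) : Fin (d j) → k) : Fin (d j) → k) =
        @actF k _ A _ _ (Fin (d j) → k) _ _ _ (c j) φ.ofConv (Pi.single s 1) := by
      simp [f, conv_smul_def] at h
      exact h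
    rw [h', mc_eq, actF_apply]
    have e : ∀ z : (Fin (d j) → k) ⊗[k] A, φ.ofConv (TensorProduct.lid k A
        (LinearMap.rTensor A (LinearMap.proj r) z)) = slice φ.ofConv z r := by
      intro z
      induction z using TensorProduct.induction_on with
      | zero => simp
      | tmul v b => simp [mul_comm]
      | add v b hv hb => simp only [map_add, Pi.add_apply, hv, hb]
    exact e _
  refine ⟨φ.ofConv, ?_, fun r s hrs => ?_, fun j hj r s => ?_⟩
  · rw [key]
    simp only [F, dif_pos]
    show (Pi.single p ((Pi.single q (1 : k) : Fin (d i) → k) q) : Fin (d i) → k) p = 1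
    simp
  · rw [key]
    simp only [F, dif_pos]
    show (Pi.single p ((Pi.single s (1 : k) : Fin (d i) → k) q) : Fin (d i) → k) r = 0
    rcases eq_or_ne s q with rfl | hsq
    · simp [Pi.single_apply, show r ≠ p from fun h => hrs (by rw [h])]
    · simp [Pi.single_apply, Ne.symm hsq]
  · rw [key]
    simp only [F, dif_neg hj]
    rfl

/-- Characters of pairwise non-isomorphic simple comodules are linearly independent. -/
theorem linearIndependent_characters [IsAlgClosed k] {n : ℕ} (d : Fin n → ℕ)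
    (c : ∀ i, HopfRep.Comod k A (Fin (d i) → k))
    (hs : ∀ i, @HopfRep.IsSimpleComod k A _ _ _ _ (Fin (d i) → k) _ _ (c i))
    (hni : ∀ i j, i ≠ j → ∀ P : (Fin (d i) → k) ≃ₗ[k] (Fin (d j) → k),
      LinearMap.rTensor A P.toLinearMap ∘ₗ @HopfRep.Comod.coact k A _ _ _ _ (Fin (d i) → k) _ _ (c i) ≠
        (@HopfRep.Comod.coact k A _ _ _ _ (Fin (d j) → k) _ _ (c j)) ∘ₗ P.toLinearMap) :
    LinearIndependent k fun i => ∑ t, mc (c i) t t := by
  classical
  rw [Fintype.linearIndependent_iff]
  intro g hg i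
  obtain ⟨hn, -⟩ := hs i
  have hd : 0 < d i := Nat.pos_of_ne_zero fun h => by
    haveI : IsEmpty (Fin (d i)) := h ▸ inferInstance
    exact not_nontrivial (Fin (d i) → k) hn
  obtain ⟨φ, h1, h2, h3⟩ := exists_mc_dual d c hs hni i ⟨0, hd⟩ ⟨0, hd⟩
  have h := congrArg φ hg
  rw [map_sum, map_zero, Finset.sum_eq_single i] at h
  · rw [map_smul, map_sum, Finset.sum_eq_single ⟨0, hd⟩, h1, smul_eq_mul, mul_one] at h
    · exact h
    · exact fun t _ ht => h2 t t (fun e => ht (congrArg Prod.fst e))
    · simp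
  · intro j _ hj
    rw [map_smul, map_sum, Finset.sum_eq_zero fun t _ => h3 j hj t t, smul_zero]
  · simp

/-- The character of a comodule is cocommutative. -/
theorem comm_comul_character {d : ℕ} (c : HopfRep.Comod k A (Fin d → k)) :
    TensorProduct.comm k A A (Coalgebra.comul (R := k) (∑ t, mc c t t)) =
      Coalgebra.comul (R := k) (∑ t, mc c t t) := by
  letI := c
  have hM := isComodMatrix_matrixOf (A := A) (Pi.basisFun k (Fin d))
  simp only [map_sum, mc, hM.comul, TensorProduct.comm_tmul]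
  exact Finset.sum_comm

/-- Over a linearly reductive group every element is a combination of coefficients of simple comodules. -/
theorem exists_mem_span_simple (hG : HopfRep.IsLinearlyReductive k A) (f : A) :
    ∃ (n : ℕ) (d : Fin n → ℕ) (c : ∀ i, HopfRep.Comod k A (Fin (d i) → k)),
      (∀ i, @HopfRep.IsSimpleComod k A _ _ _ _ (Fin (d i) → k) _ _ (c i)) ∧
      f ∈ ⨆ i, Submodule.span k (Set.range fun pq : Fin (d i) × Fin (d i) => mc (c i) pq.1 pq.2) := by
  classical
  obtain ⟨s, hs, -, htop⟩ := exists_minimal_decomposition (C := A)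
    (isSemisimpleComod_of_isLinearlyReductive hG (V := A))
  obtain ⟨t, ht⟩ := Submodule.exists_finset_of_mem_iSup (fun U : s => (U : Submodule k A))
    (htop ▸ Submodule.mem_top : f ∈ ⨆ U : s, (U : Submodule k A))
  have hblk : ∀ U : s, ∃ (d : ℕ) (c : HopfRep.Comod k A (Fin d → k)),
      @HopfRep.IsSimpleComod k A _ _ _ _ (Fin d → k) _ _ c ∧
      (U : Submodule k A) ≤ Submodule.span k (Set.range fun pq : Fin d × Fin d => mc c pq.1 pq.2) := by
    intro U
    obtain ⟨hU, hU0, hUmin⟩ := hs _ U.2
    letI cU : HopfRep.Comod k A (U : Submodule k A) :=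
      ComodSub.Comod.restr (HopfRep.Comod.regular (k := k) (A := A)) _ hU
    have hsimp : HopfRep.IsSimpleComod k A (U : Submodule k A) := isSimpleComod_restr hU hU0 hUmin
    haveI := finite_of_isSimpleComod hsimp
    let e : (U : Submodule k A) ≃ₗ[k] (Fin (Module.finrank k (U : Submodule k A)) → k) :=
      (Module.finBasis k (U : Submodule k A)).equivFun
    letI cV := ComodTens.Comod.ofEquiv e cU
    have he := isComodHom_ofEquiv e cU
    refine ⟨_, cV, isSimpleComod_congr e he hsimp, fun x hx => ?_⟩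
    have hj : Hoch.IsComodHom A ((U : Submodule k A).subtype ∘ₗ e.symm.toLinearMap) := by
      rw [isComodHom_iff_actF]
      intro φ v
      simp only [LinearMap.comp_apply]
      rw [comodHom_actF (isComodHom_symm e he), comodHom_actF (ComodSub.isComodHom_subtype _ _ hU)]
    have h := LinearMap.congr_fun (coefFun_counit_comp hj) (e ⟨x, hx⟩)
    simp only [LinearMap.comp_apply, LinearEquiv.coe_coe, LinearEquiv.symm_apply_apply,
      Submodule.subtype_apply] at h
    rw [← h]
    exact coefFun_mem_span_mc cV _ _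
  choose d c hc1 hc2 using hblk
  let e := t.equivFin
  refine ⟨t.card, fun i => d (e.symm i).1, fun i => c (e.symm i).1, fun i => hc1 _, ?_⟩
  refine (iSup₂_le fun U hU => ?_ : (⨆ U ∈ t, (U : Submodule k A)) ≤ _) ht
  have H : ∀ V : s, V = U → (U : Submodule k A) ≤
      Submodule.span k (Set.range fun pq : Fin (d V) × Fin (d V) => mc (c V) pq.1 pq.2) := by
    rintro V rfl; exact hc2 V
  exact le_iSup_of_le (e ⟨U, hU⟩) (H _ (by simp))

/-- Over a linearly reductive group cocommutative elements are combinations of characters. -/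
theorem mem_span_characters [IsAlgClosed k] (hG : HopfRep.IsLinearlyReductive k A) (f : A)
    (hf : TensorProduct.comm k A A (Coalgebra.comul (R := k) f) = Coalgebra.comul (R := k) f) :
    f ∈ Submodule.span k (Set.range fun p : (Σ d : ℕ, HopfRep.Comod k A (Fin d → k)) => ∑ t, mc p.2 t t) := by
  classical
  have hP : ∃ n, ∃ (d : Fin n → ℕ) (c : ∀ i, HopfRep.Comod k A (Fin (d i) → k)),
      (∀ i, @HopfRep.IsSimpleComod k A _ _ _ _ (Fin (d i) → k) _ _ (c i)) ∧
      f ∈ ⨆ i, Submodule.span k (Set.range fun pq : Fin (d i) × Fin (d i) => mc (c i) pq.1 pq.2) :=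
    exists_mem_span_simple hG f
  obtain ⟨d, c, hs, hmem⟩ := Nat.find_spec hP
  have hni : ∀ i j, i ≠ j → ∀ P : (Fin (d i) → k) ≃ₗ[k] (Fin (d j) → k),
      LinearMap.rTensor A P.toLinearMap ∘ₗ @HopfRep.Comod.coact k A _ _ _ _ (Fin (d i) → k) _ _ (c i) ≠
        (@HopfRep.Comod.coact k A _ _ _ _ (Fin (d j) → k) _ _ (c j)) ∘ₗ P.toLinearMap := by
    intro i j hij P hPhom
    have hle : Submodule.span k (Set.range fun pq : Fin (d j) × Fin (d j) => mc (c j) pq.1 pq.2) ≤
        Submodule.span k (Set.range fun pq : Fin (d i) × Fin (d i) => mc (c i) pq.1 pq.2) := by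
      refine Submodule.span_le.mpr ?_
      rintro _ ⟨⟨p, q⟩, rfl⟩
      have h := LinearMap.congr_fun hPhom (P.symm (Pi.single q 1))
      simp only [LinearMap.comp_apply, LinearEquiv.coe_coe, LinearEquiv.apply_symm_apply] at h
      show mc (c j) p q ∈ _
      rw [mc_eq, ← h, ← LinearMap.comp_apply (f := LinearMap.rTensor A _), ← LinearMap.rTensor_comp]
      exact coefFun_mem_span_mc (c i) _ _
    have hn0 : 0 < Nat.find hP := Fin.pos i
    obtain ⟨m, hm⟩ : ∃ m, Nat.find hP = m + 1 := ⟨_, (Nat.succ_pred_eq_of_pos hn0).symm⟩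
    refine Nat.find_min hP (m := m) (by omega) ?_
    let j' : Fin (m + 1) := Fin.cast hm j
    let σ : Fin m → Fin (Nat.find hP) := fun l => Fin.cast hm.symm (j'.succAbove l)
    refine ⟨fun l => d (σ l), fun l => c (σ l), fun l => hs _, ?_⟩
    refine (iSup_le fun l => ?_ : (⨆ l, Submodule.span k
      (Set.range fun pq : Fin (d l) × Fin (d l) => mc (c l) pq.1 pq.2)) ≤ _) hmem
    have hσ : ∀ l, l ≠ j → ∃ l', σ l' = l := by
      intro l hl
      obtain ⟨l', hl'⟩ := Fin.exists_succAbove_eq (x := Fin.cast hm l) (y := j')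
        fun h => hl (Fin.cast_injective hm h)
      exact ⟨l', by simp [σ, hl']⟩
    have hrfl : ∀ a b, a = b → Submodule.span k (Set.range fun pq : Fin (d b) × Fin (d b) => mc (c b) pq.1 pq.2) ≤
        Submodule.span k (Set.range fun pq : Fin (d a) × Fin (d a) => mc (c a) pq.1 pq.2) := by
      rintro a _ rfl; exact le_rfl
    rcases eq_or_ne l j with rfl | hl
    · obtain ⟨l', hl'⟩ := hσ i hij
      exact le_iSup_of_le l' (hle.trans (hrfl _ _ hl'))
    · obtain ⟨l', hl'⟩ := hσ l hl
      exact le_iSup_of_le l' (hrfl _ _ hl')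
  rw [Submodule.mem_iSup_iff_exists_finsupp] at hmem
  obtain ⟨g, hg, hgf⟩ := hmem
  have hcoef : ∀ i, ∃ C : Fin (d i) × Fin (d i) → k, ∑ pq, C pq • mc (c i) pq.1 pq.2 = g i :=
    fun i => (Submodule.mem_span_range_iff_exists_fun k).mp (hg i)
  choose C hC using hcoef
  have hfeq : f = ∑ i, ∑ pq, C i pq • mc (c i) pq.1 pq.2 := by
    refine hgf.symm.trans ((Finsupp.sum_fintype _ _ fun _ => rfl).trans ?_)
    exact Finset.sum_congr rfl fun i _ => (hC i).symm
  have key : ∀ i, ∀ p q r s : Fin (d i),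
      (if r = s then C i (p, q) else 0) = (if p = q then C i (s, r) else 0) := by
    intro i p q r s
    obtain ⟨φ, hφ1, hφ2, hφ3⟩ := exists_mc_dual d c hs hni i p r
    obtain ⟨χ, hχ1, hχ2, hχ3⟩ := exists_mc_dual d c hs hni i s q
    let T : A ⊗[k] A →ₗ[k] k := (TensorProduct.lid k k).toLinearMap ∘ₗ TensorProduct.map φ χ
    have h := congrArg T hf
    rw [hfeq] at h
    have hM : ∀ (j : Fin (Nat.find hP)) (a b : Fin (d j)),
        Coalgebra.comul (R := k) (mc (c j) a b) = ∑ l, mc (c j) a l ⊗ₜ[k] mc (c j) l b := fun j a b => by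
      letI := c j
      exact (isComodMatrix_matrixOf (A := A) (Pi.basisFun k (Fin (d j)))).comul a b
    have vφ : ∀ a b, φ (mc (c i) a b) = if (a, b) = (p, r) then 1 else 0 := fun a b => by
      split_ifs with hab
      · obtain ⟨rfl, rfl⟩ := Prod.mk.inj hab; exact hφ1
      · exact hφ2 a b hab
    have vχ : ∀ a b, χ (mc (c i) a b) = if (a, b) = (s, q) then 1 else 0 := fun a b => by
      split_ifs with hab
      · obtain ⟨rfl, rfl⟩ := Prod.mk.inj hab; exact hχ1
      · exact hχ2 a b hab
    have e1 : T (Coalgebra.comul (R := k) (∑ j, ∑ pq, C j pq • mc (c j) pq.1 pq.2)) =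
        ∑ pq : Fin (d i) × Fin (d i), C i pq * ∑ l, φ (mc (c i) pq.1 l) * χ (mc (c i) l pq.2) := by
      simp only [map_sum, map_smul, hM, T, LinearMap.comp_apply, LinearEquiv.coe_coe, TensorProduct.map_tmul,
        TensorProduct.lid_tmul, smul_eq_mul]
      rw [Finset.sum_eq_single i]
      · intro j _ hj; simp [hφ3 j hj]
      · simp
    have e2 : T (TensorProduct.comm k A A (Coalgebra.comul (R := k) (∑ j, ∑ pq, C j pq • mc (c j) pq.1 pq.2))) =
        ∑ pq : Fin (d i) × Fin (d i), C i pq * ∑ l, φ (mc (c i) l pq.2) * χ (mc (c i) pq.1 l) := by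
      simp only [map_sum, map_smul, hM, T, LinearMap.comp_apply, LinearEquiv.coe_coe, TensorProduct.comm_tmul,
        TensorProduct.map_tmul, TensorProduct.lid_tmul, smul_eq_mul]
      rw [Finset.sum_eq_single i]
      · intro j _ hj; simp [hφ3 j hj]
      · simp
    rw [e1, e2] at h
    simp only [vφ, vχ] at h
    simp only [Fintype.sum_prod_type, Prod.mk.injEq, mul_ite, mul_one, mul_zero, ite_and,
      Finset.sum_ite_eq', Finset.sum_ite_eq, Finset.mem_univ, if_true, ite_mul, one_mul, zero_mul,
      Finset.sum_ite_irrel, Finset.sum_const_zero] at h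
    simp only [eq_comm] at h ⊢
    exact h
  rw [hfeq]
  refine Submodule.sum_mem _ fun i _ => ?_
  rcases isEmpty_or_nonempty (Fin (d i)) with he | ⟨⟨t₀⟩⟩
  · simp
  · have hoff : ∀ p q, p ≠ q → C i (p, q) = 0 := fun p q hpq => by
      simpa [hpq] using key i p q p p
    have hon : ∀ p, C i (p, p) = C i (t₀, t₀) := fun p => by simpa using key i p p t₀ t₀
    have : ∑ pq, C i pq • mc (c i) pq.1 pq.2 = C i (t₀, t₀) • ∑ t, mc (c i) t t := by
      rw [Fintype.sum_prod_type, Finset.smul_sum]
      refine Finset.sum_congr rfl fun p _ => ?_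
      rw [Finset.sum_eq_single p, hon p]
      · exact fun q _ hq => by rw [hoff p q (Ne.symm hq), zero_smul]
      · simp
    rw [this]
    exact Submodule.smul_mem _ _ (Submodule.subset_span ⟨⟨d i, c i⟩, rfl⟩)

end Groth.Agent.ComodLib
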