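import Groth.Agent.ComodLib.Antipode
import Groth.Prelude.Def_Hoch

/-!
# Contractions of the Hochschild complex
-/

universe u v w

open TensorProduct

namespace Groth.Agent.ComodLib

variable {k : Type u} [CommRing k] {A : Type v} [CommRing A] [Bialgebra k A]

theorem tail_naturality {M N : Type v} [AddCommGroup M] [Module k M] [AddCommGroup N] [Module k N]
    (f : M →ₗ[k] N) (z : M ⊗[k] A) :
    (f.rTensor A).rTensor A (Hoch.tail k A M z) = Hoch.tail k A N (f.rTensor A z) := by
  induction z using TensorProduct.induction_on with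
  | zero => simp
  | add p q hp hq => simp only [map_add, hp, hq]
  | tmul m a =>
    rw [LinearMap.rTensor_tmul, Hoch.tail_tmul, Hoch.tail_tmul]
    induction (Coalgebra.comul (R := k) a - a ⊗ₜ 1 - 1 ⊗ₜ a) using TensorProduct.induction_on with
    | zero => simp
    | tmul p q => simp
    | add p q hp hq => simp only [tmul_add, map_add, hp, hq]

section RightIntegral

variable {V : Type v} [AddCommGroup V] [Module k V] [HopfRep.Comod k A V]

/-- Contraction of the last factor against a linear form. -/
noncomputable def contractLast (β : A →ₗ[k] k) (M : Type v) [AddCommGroup M] [Module k M] : M ⊗[k] A →ₗ[k] M :=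
  (TensorProduct.rid k M).toLinearMap ∘ₗ β.lTensor M

/-- A right integral contracts the complex in positive degrees. -/
theorem contractLast_d {β : A →ₗ[k] k} (hβ : IsRightIntegral k β) (h1 : β 1 = 1) (n : ℕ)
    (w : (Hoch.cochain k A V n : Type v) ⊗[k] A) :
    contractLast β _ (Hoch.d k A V (n + 1) w) =
      Hoch.d k A V n (contractLast β _ w) - (-1 : k) ^ (n + 1) • w := by
  rw [Hoch.d_succ, LinearMap.add_apply, LinearMap.smul_apply, map_add, map_smul, sub_eq_add_neg, ← smul_neg]
  congr 1
  · induction w using TensorProduct.induction_on with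
    | zero => simp
    | tmul z a => simp [contractLast]
    | add p q hp hq => simp only [map_add, hp, hq]
  · congr 1
    induction w using TensorProduct.induction_on with
    | zero => simp
    | add p q hp hq => simp only [map_add, hp, hq, neg_add]
    | tmul z a =>
      have key : ∀ x : A ⊗[k] A,
          contractLast β _ ((TensorProduct.assoc k (Hoch.cochain k A V n) A A).symm (z ⊗ₜ[k] x)) =
            z ⊗ₜ[k] TensorProduct.rid k A (β.lTensor A x) := fun x => by
        induction x using TensorProduct.induction_on with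
        | zero => simp
        | tmul p q => simp [contractLast]
        | add p q hp hq => simp only [tmul_add, map_add, hp, hq]
      rw [Hoch.tail_tmul, key, map_sub, map_sub, map_sub, map_sub, hβ, LinearMap.lTensor_tmul,
        LinearMap.lTensor_tmul, h1]
      simp only [TensorProduct.rid_tmul, one_smul]
      rw [sub_sub, add_comm, sub_add_eq_sub_sub, sub_self, zero_sub, tmul_neg]

/-- With a right integral the higher Hochschild cohomology vanishes. -/
theorem cocycles_le_coboundaries_of_rightIntegral {β : A →ₗ[k] k} (hβ : IsRightIntegral k β) (h1 : β 1 = 1)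
    (n : ℕ) : Hoch.cocycles k A V (n + 1) ≤ Hoch.coboundaries k A V (n + 1) := by
  intro w hw
  have h := contractLast_d hβ h1 n w
  rw [LinearMap.mem_ker.mp hw, map_zero, eq_comm, sub_eq_zero] at h
  refine ⟨(-1 : k) ^ (n + 1) • contractLast β _ w, ?_⟩
  rw [map_smul, h, smul_smul, ← mul_pow, neg_one_mul, neg_neg, one_pow, one_smul]

end RightIntegral

section InducedCounit

variable (k A) (P : Type w) [AddCommGroup P] [Module k P]

theorem rTensor_counit_coact (x : P ⊗[k] A) :
    (Hoch.Ind.counit k A P).rTensor A
      (HopfRep.Comod.coact (k := k) (A := A) (Hoch.Ind.equiv k A P x)) = x := by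
  induction x using TensorProduct.induction_on with
  | zero => simp
  | add p q hp hq => rw [map_add, map_add, map_add, hp, hq]
  | tmul p a =>
    rw [Hoch.Ind.coact_equiv_tmul]
    have key : ∀ z : A ⊗[k] A,
        (Hoch.Ind.counit k A P).rTensor A ((TensorProduct.assoc k P A A).symm (p ⊗ₜ[k] z) :
            (P ⊗[k] A) ⊗[k] A) =
          p ⊗ₜ[k] TensorProduct.lid k A ((Coalgebra.counit (R := k)).rTensor A z) := fun z => by
      induction z using TensorProduct.induction_on with
      | zero =>
        simp only [tmul_zero, map_zero]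
        exact map_zero _
      | tmul a b =>
        show (Hoch.Ind.counit k A P (Hoch.Ind.equiv k A P (p ⊗ₜ[k] a))) ⊗ₜ[k] b = _
        simp [TensorProduct.smul_tmul]
      | add x y hx hy =>
        simp only [tmul_add, map_add]
        exact (map_add _ _ _).trans (congrArg₂ (· + ·) hx hy)
    refine (key _).trans ?_
    rw [Coalgebra.rTensor_counit_comul]
    simp

end InducedCounit

section Induced

variable (k A) (P : Type v) [AddCommGroup P] [Module k P]

/-- The contracting homotopy of the complex of an induced comodule. -/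
noncomputable def indHomotopy : (n : ℕ) →
    ((Hoch.cochain k A (Hoch.Ind k A P) (n + 1) : Type v) →ₗ[k] (Hoch.cochain k A (Hoch.Ind k A P) n : Type v))
  | 0 => (Hoch.Ind.equiv k A P).toLinearMap ∘ₗ (Hoch.Ind.counit k A P).rTensor A
  | n + 1 => (indHomotopy n).rTensor A

theorem indHomotopy_zero_d (v : Hoch.Ind k A P) :
    indHomotopy k A P 0 (Hoch.d k A (Hoch.Ind k A P) 0 v) =
      v - Hoch.Ind.equiv k A P (Hoch.Ind.counit k A P v ⊗ₜ[k] (1 : A)) := by
  obtain ⟨x, rfl⟩ := (Hoch.Ind.equiv k A P).surjective v
  rw [Hoch.d_zero_apply, map_sub]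
  congr 1
  simp only [indHomotopy, LinearMap.comp_apply, LinearEquiv.coe_coe, EmbeddingLike.apply_eq_iff_eq]
  exact rTensor_counit_coact k A P x

theorem indHomotopy_spec : ∀ (n : ℕ) (w : (Hoch.cochain k A (Hoch.Ind k A P) (n + 1) : Type v)),
    indHomotopy k A P (n + 1) (Hoch.d k A (Hoch.Ind k A P) (n + 1) w) +
      Hoch.d k A (Hoch.Ind k A P) n (indHomotopy k A P n w) = w := by
  intro n
  induction n with
  | zero =>
    intro w
    induction w using TensorProduct.induction_on with
    | zero => simp
    | add p q hp hq =>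
      simp only [map_add]
      rw [add_add_add_comm, hp, hq]
    | tmul v b =>
      rw [Hoch.d_succ, LinearMap.add_apply, LinearMap.smul_apply, map_add, map_smul, LinearMap.rTensor_tmul]
      show (indHomotopy k A P 0).rTensor A _ + _ + _ = _
      rw [LinearMap.rTensor_tmul, indHomotopy_zero_d, pow_one, neg_one_smul]
      set p : P := Hoch.Ind.counit k A P v with hp
      let Φ : P ⊗[k] A →ₗ[k] Hoch.Ind k A P := (Hoch.Ind.equiv k A P).toLinearMap
      have h0 : ∀ b : A, indHomotopy k A P 0 (v ⊗ₜ[k] b) = Φ (p ⊗ₜ[k] b) := fun b => rfl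
      have key : ∀ z : A ⊗[k] A,
          indHomotopy k A P 1 ((TensorProduct.assoc k (Hoch.Ind k A P) A A).symm (v ⊗ₜ[k] z)) =
            Φ.rTensor A ((TensorProduct.assoc k P A A).symm (p ⊗ₜ[k] z)) := fun z => by
        induction z using TensorProduct.induction_on with
        | zero => simp
        | tmul a c =>
          rw [TensorProduct.assoc_symm_tmul, TensorProduct.assoc_symm_tmul, LinearMap.rTensor_tmul, ← h0]
          rfl
        | add x y hx hy => simp only [tmul_add, map_add, hx, hy]
      rw [Hoch.tail_tmul, key, h0, Hoch.d_zero_apply]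
      have hco : (HopfRep.Comod.coact (k := k) (A := A) (Φ (p ⊗ₜ[k] b)) : Hoch.Ind k A P ⊗[k] A) =
          Φ.rTensor A ((TensorProduct.assoc k P A A).symm (p ⊗ₜ[k] Coalgebra.comul (R := k) b)) :=
        (Hoch.Ind.coact_equiv_tmul k A P p b).trans (LinearMap.congr_fun (LinearMap.rTensor_id A _) _).symm
      rw [hco]
      simp only [tmul_sub, map_sub, TensorProduct.assoc_symm_tmul, LinearMap.rTensor_tmul, sub_tmul]
      simp only [Φ, LinearEquiv.coe_coe]
      abel
  | succ n ih =>
    intro w
    have e : (indHomotopy k A P (n + 1)).rTensor A ((Hoch.d k A (Hoch.Ind k A P) (n + 1)).rTensor A w) +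
        (Hoch.d k A (Hoch.Ind k A P) n).rTensor A ((indHomotopy k A P n).rTensor A w) = w := by
      induction w using TensorProduct.induction_on with
      | zero => simp
      | tmul z a => rw [LinearMap.rTensor_tmul, LinearMap.rTensor_tmul, LinearMap.rTensor_tmul,
          LinearMap.rTensor_tmul, ← add_tmul, ih]
      | add p q hp hq =>
        simp only [map_add]
        rw [add_add_add_comm, hp, hq]
    have hnat : indHomotopy k A P (n + 2) (Hoch.tail k A (Hoch.cochain k A (Hoch.Ind k A P) (n + 1)) w) =
        Hoch.tail k A (Hoch.cochain k A (Hoch.Ind k A P) n) (indHomotopy k A P (n + 1) w) :=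
      tail_naturality (indHomotopy k A P n) w
    rw [Hoch.d_succ k A (Hoch.Ind k A P) (n + 1), Hoch.d_succ k A (Hoch.Ind k A P) n, LinearMap.add_apply, LinearMap.add_apply,
      LinearMap.smul_apply, LinearMap.smul_apply, map_add, map_smul, hnat, pow_succ _ (n + 1), mul_neg, mul_one,
      neg_smul]
    refine Eq.trans ?_ e
    show (indHomotopy k A P (n + 1)).rTensor A ((Hoch.d k A (Hoch.Ind k A P) (n + 1)).rTensor A w) + _ +
        ((Hoch.d k A (Hoch.Ind k A P) n).rTensor A ((indHomotopy k A P n).rTensor A w) + _) = _
    abel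

theorem ind_cocycles_le_coboundaries (n : ℕ) :
    Hoch.cocycles k A (Hoch.Ind k A P) (n + 1) ≤ Hoch.coboundaries k A (Hoch.Ind k A P) (n + 1) := fun w hw => by
  refine ⟨indHomotopy k A P n w, ?_⟩
  have h := indHomotopy_spec k A P n w
  rwa [LinearMap.mem_ker.mp hw, map_zero, zero_add] at h

end Induced

end Groth.Agent.ComodLib
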