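import Groth.Prelude.Def_W4c6equivkfinstabCyc
import Mathlib.Algebra.MonoidAlgebra.Lift
import Mathlib.Analysis.Fourier.FiniteAbelian.PontryaginDuality
import Mathlib.RingTheory.IntegralDomain
import Mathlib.RingTheory.Polynomial.Cyclotomic.Roots
import Mathlib.Algebra.Module.LocalizedModule.Basic

/-!
# The cyclotomic decomposition of the group ring of a finite quotient
-/

universe u v w

open Polynomial W4c6equivkfinstab

namespace Groth.Agent.ComodLib.CycGR

set_option linter.unusedSectionVars false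

variable (Λ : Type u) [CommRing Λ] (M : Type v) [AddCommGroup M]

/-- The kernel of `Λ[M] → CycQuot Λ (M ⧸ B)`. -/
noncomputable abbrev K (B : AddSubgroup M) : Ideal (AddMonoidAlgebra Λ M) := RingHom.ker (cycQuotMap Λ M B)

/-- Generators of `K`. -/
def gen (B : AddSubgroup M) : Set (AddMonoidAlgebra Λ M) :=
  {x | ∃ b ∈ B, x = AddMonoidAlgebra.single b (1 : Λ) - 1} ∪
    {x | ∃ a : M, AddSubgroup.zmultiples (QuotientAddGroup.mk' B a) = ⊤ ∧
      x = Polynomial.aeval (AddMonoidAlgebra.single a (1 : Λ)) (cyclotomic (Nat.card (M ⧸ B)) Λ)}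

variable {Λ M}

theorem quotMap_single (B : AddSubgroup M) (a : M) (r : Λ) :
    quotMap Λ M B (AddMonoidAlgebra.single a r) = AddMonoidAlgebra.single (QuotientAddGroup.mk' B a) r :=
  AddMonoidAlgebra.mapDomain_single

theorem quotMap_surjective (B : AddSubgroup M) : Function.Surjective (quotMap Λ M B) := by
  intro y
  induction y using AddMonoidAlgebra.induction_linear with
  | zero => exact ⟨0, map_zero _⟩
  | add p q hp hq =>
    obtain ⟨a, rfl⟩ := hp
    obtain ⟨b, rfl⟩ := hq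
    exact ⟨a + b, map_add _ _ _⟩
  | single c r =>
    obtain ⟨a, rfl⟩ := QuotientAddGroup.mk'_surjective B c
    exact ⟨AddMonoidAlgebra.single a r, quotMap_single B a r⟩

theorem cycQuotMap_surjective (B : AddSubgroup M) : Function.Surjective (cycQuotMap Λ M B) :=
  Ideal.Quotient.mk_surjective.comp (quotMap_surjective B)

theorem ker_quotMap (B : AddSubgroup M) :
    RingHom.ker (quotMap Λ M B) = Ideal.span {x | ∃ b ∈ B, x = AddMonoidAlgebra.single b (1 : Λ) - 1} := by
  classical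
  refine le_antisymm (fun x hx => ?_) (Ideal.span_le.mpr ?_)
  · let I := Ideal.span {x | ∃ b ∈ B, x = AddMonoidAlgebra.single b (1 : Λ) - 1}
    let sec : AddMonoidAlgebra Λ (M ⧸ B) → AddMonoidAlgebra Λ M :=
      fun y => AddMonoidAlgebra.mapDomain Quotient.out y
    have key : ∀ z : AddMonoidAlgebra Λ M, z - sec (quotMap Λ M B z) ∈ I := by
      intro z
      induction z using AddMonoidAlgebra.induction_linear with
      | zero => simp [sec]
      | add p q hp hq =>
        simp only [sec, map_add, AddMonoidAlgebra.mapDomain_add] at hp hq ⊢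
        rw [add_sub_add_comm]
        exact add_mem hp hq
      | single a r =>
        simp only [sec, quotMap_single, AddMonoidAlgebra.mapDomain_single]
        set a' := (QuotientAddGroup.mk' B a).out with ha'
        have hb : a - a' ∈ B := by
          rw [← QuotientAddGroup.eq_zero_iff, QuotientAddGroup.mk_sub, ha', QuotientAddGroup.out_eq']
          exact sub_self _
        have : AddMonoidAlgebra.single a r - AddMonoidAlgebra.single a' r =
            AddMonoidAlgebra.single a' r * (AddMonoidAlgebra.single (a - a') (1 : Λ) - 1) := by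
          rw [mul_sub, mul_one, AddMonoidAlgebra.single_mul_single, add_sub_cancel, mul_one]
        rw [this]
        exact Ideal.mul_mem_left _ _ (Ideal.subset_span ⟨_, hb, rfl⟩)
    have h := key x
    rw [RingHom.mem_ker] at hx
    simpa [sec, hx] using h
  · rintro _ ⟨b, hb, rfl⟩
    rw [SetLike.mem_coe, RingHom.mem_ker, map_sub, quotMap_single, map_one, sub_eq_zero,
      show QuotientAddGroup.mk' B b = 0 from (QuotientAddGroup.eq_zero_iff b).mpr hb]
    rfl

theorem aeval_cyclo {R : Type*} [CommRing R] [Algebra Λ R] (x : R) (n : ℕ) :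
    Polynomial.aeval x (cyclotomic n Λ) = Polynomial.aeval x (cyclotomic n ℤ) := by
  rw [← map_cyclotomic_int n Λ, ← algebraMap_int_eq, aeval_map_algebraMap]

theorem eval_cyclo {R : Type*} [CommRing R] (x : R) (n : ℕ) :
    (cyclotomic n R).eval x = Polynomial.aeval x (cyclotomic n ℤ) := by
  rw [← aeval_cyclo (Λ := R), Polynomial.coe_aeval_eq_eval]

theorem map_aeval_int {R S : Type*} [CommRing R] [CommRing S] (f : R →+* S) (x : R) (p : ℤ[X]) :
    f (Polynomial.aeval x p) = Polynomial.aeval (f x) p :=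
  (Polynomial.aeval_algHom_apply f.toIntAlgHom x p).symm

theorem quotMap_aeval (B : AddSubgroup M) (a : M) (n : ℕ) :
    quotMap Λ M B (Polynomial.aeval (AddMonoidAlgebra.single a (1 : Λ)) (cyclotomic n Λ)) =
      Polynomial.aeval (AddMonoidAlgebra.single (QuotientAddGroup.mk' B a) (1 : Λ)) (cyclotomic n Λ) := by
  rw [aeval_cyclo (Λ := Λ), aeval_cyclo (Λ := Λ), map_aeval_int, quotMap_single]

theorem K_eq_span (B : AddSubgroup M) : K Λ M B = Ideal.span (gen Λ M B) := by
  rw [gen, Ideal.span_union, ← ker_quotMap]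
  refine le_antisymm (fun x hx => ?_) (sup_le ?_ ?_)
  · have hx' : quotMap Λ M B x ∈ cycIdeal Λ (M ⧸ B) := Ideal.Quotient.eq_zero_iff_mem.mp hx
    have hle : cycIdeal Λ (M ⧸ B) ≤ (Ideal.span {x | ∃ a : M, AddSubgroup.zmultiples (QuotientAddGroup.mk' B a) = ⊤ ∧
        x = Polynomial.aeval (AddMonoidAlgebra.single a (1 : Λ)) (cyclotomic (Nat.card (M ⧸ B)) Λ)}).map
          (quotMap Λ M B) := by
      rw [cycIdeal, Ideal.span_le]
      rintro _ ⟨g, hg, rfl⟩
      obtain ⟨a, rfl⟩ := QuotientAddGroup.mk'_surjective B g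
      rw [← quotMap_aeval]
      exact Ideal.mem_map_of_mem _ (Ideal.subset_span ⟨a, hg, rfl⟩)
    obtain ⟨y, hy, hyx⟩ := (Ideal.mem_map_iff_of_surjective _ (quotMap_surjective B)).mp (hle hx')
    rw [show x = (x - y) + y by ring]
    exact add_mem (Ideal.mem_sup_left (by rw [RingHom.mem_ker, map_sub, hyx, sub_self])) (Ideal.mem_sup_right hy)
  · intro x hx
    show Ideal.Quotient.mk _ (quotMap Λ M B x) = 0
    rw [show quotMap Λ M B x = 0 from hx, map_zero]
  · rw [Ideal.span_le]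
    rintro _ ⟨a, ha, rfl⟩
    exact Ideal.Quotient.eq_zero_iff_mem.mpr (Ideal.subset_span ⟨_, ha, (quotMap_aeval B a _)⟩)

theorem ker_quotMap_le_K {B₀ B : AddSubgroup M} (h : B₀ ≤ B) : RingHom.ker (quotMap Λ M B₀) ≤ K Λ M B := by
  rw [ker_quotMap, K_eq_span, gen]
  exact Ideal.span_mono fun x ⟨b, hb, hx⟩ => Or.inl ⟨b, h hb, hx⟩

section field

variable {F : Type w} [Field F] (φ : AddMonoidAlgebra Λ M →+* F)

/-- The character of a ring map from the group ring to a field. -/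
noncomputable def chr : Multiplicative M →* F where
  toFun a := φ (AddMonoidAlgebra.single a.toAdd (1 : Λ))
  map_one' := map_one φ
  map_mul' a b := by rw [← map_mul, AddMonoidAlgebra.single_mul_single, one_mul]; rfl

theorem chr_nsmul (a : M) (m : ℕ) :
    chr φ (Multiplicative.ofAdd (m • a)) = chr φ (Multiplicative.ofAdd a) ^ m := by
  rw [ofAdd_nsmul, map_pow]

include φ in
theorem ne_zero_natCast {n : ℕ} (hn : IsUnit (n : Λ)) : (n : F) ≠ 0 := by
  rw [← map_natCast (φ.comp AddMonoidAlgebra.singleZeroRingHom)]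
  exact (hn.map (φ.comp AddMonoidAlgebra.singleZeroRingHom)).ne_zero

/-- A field point of `CycQuot Λ (M ⧸ B)` has kernel exactly `B`. -/
theorem chr_eq_one_iff {B : AddSubgroup M} [Finite (M ⧸ B)] [IsAddCyclic (M ⧸ B)]
    (hn : IsUnit ((Nat.card (M ⧸ B) : ℕ) : Λ)) (h : K Λ M B ≤ RingHom.ker φ) (x : M) :
    chr φ (Multiplicative.ofAdd x) = 1 ↔ x ∈ B := by
  rw [K_eq_span, Ideal.span_le] at h
  have hB : ∀ b ∈ B, chr φ (Multiplicative.ofAdd b) = 1 := fun b hb => by
    have := h (Or.inl ⟨b, hb, rfl⟩)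
    rw [SetLike.mem_coe, RingHom.mem_ker, map_sub, map_one, sub_eq_zero] at this
    exact this
  refine ⟨fun hx => ?_, hB x⟩
  obtain ⟨g, hg⟩ := IsAddCyclic.exists_generator (α := M ⧸ B)
  obtain ⟨a, rfl⟩ := QuotientAddGroup.mk'_surjective B g
  have htop : AddSubgroup.zmultiples (QuotientAddGroup.mk' B a) = ⊤ := eq_top_iff.mpr fun y _ => hg y
  obtain ⟨m, hm⟩ : ∃ m : ℕ, m • QuotientAddGroup.mk' B a = QuotientAddGroup.mk' B x :=
    (AddSubmonoid.mem_multiples_iff _ _).mp
      ((isOfFinAddOrder_of_finite _).mem_multiples_iff_mem_zmultiples.mpr (hg _))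
  have hchr : chr φ (Multiplicative.ofAdd x) = chr φ (Multiplicative.ofAdd a) ^ m := by
    have hb : x - m • a ∈ B := by
      rw [← QuotientAddGroup.eq_zero_iff]
      show QuotientAddGroup.mk' B (x - m • a) = 0
      rw [map_sub, map_nsmul, hm, sub_self]
    conv_lhs => rw [show x = (x - m • a) + m • a by abel, ofAdd_add, map_mul, hB _ hb, one_mul, chr_nsmul]
  have hroot := h (Or.inr ⟨a, htop, rfl⟩)
  have : NeZero ((Nat.card (M ⧸ B) : ℕ) : F) := ⟨ne_zero_natCast φ hn⟩
  have hprim : IsPrimitiveRoot (chr φ (Multiplicative.ofAdd a)) (Nat.card (M ⧸ B)) := by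
    rw [← isRoot_cyclotomic_iff, IsRoot.def, eval_cyclo]
    rw [SetLike.mem_coe, RingHom.mem_ker, aeval_cyclo (Λ := Λ)] at hroot
    rw [map_aeval_int φ] at hroot
    exact hroot
  have hdvd : Nat.card (M ⧸ B) ∣ m := by
    rw [hx] at hchr
    exact (hprim.pow_eq_one_iff_dvd m).mp hchr.symm
  rw [← QuotientAddGroup.eq_zero_iff]
  show QuotientAddGroup.mk' B x = 0
  obtain ⟨c, rfl⟩ := hdvd
  rw [← hm, mul_comm, mul_nsmul', card_nsmul_eq_zero', nsmul_zero]

/-- Every field point killing `B₀` factors through one of the cyclotomic quotients. -/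
theorem exists_K_le {B₀ : AddSubgroup M} [Finite (M ⧸ B₀)] (h : RingHom.ker (quotMap Λ M B₀) ≤ RingHom.ker φ) :
    ∃ B, B₀ ≤ B ∧ IsAddCyclic (M ⧸ B) ∧ K Λ M B ≤ RingHom.ker φ := by
  let B : AddSubgroup M :=
    { carrier := {x | chr φ (Multiplicative.ofAdd x) = 1}
      zero_mem' := map_one (chr φ)
      add_mem' := fun {a b} ha hb => by
        show chr φ (Multiplicative.ofAdd a * Multiplicative.ofAdd b) = 1
        rw [map_mul, ha, hb, mul_one]
      neg_mem' := fun {a} ha => by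
        show chr φ (Multiplicative.ofAdd (-a)) = 1
        have h1 : chr φ (Multiplicative.ofAdd (-a)) * chr φ (Multiplicative.ofAdd a) = 1 := by
          rw [← map_mul, ← ofAdd_add, neg_add_cancel, ofAdd_zero, map_one]
        rwa [show chr φ (Multiplicative.ofAdd a) = 1 from ha, mul_one] at h1 }
  have hB : B₀ ≤ B := fun b hb => by
    rw [ker_quotMap, Ideal.span_le] at h
    have := h ⟨b, hb, rfl⟩
    rw [SetLike.mem_coe, RingHom.mem_ker, map_sub, map_one, sub_eq_zero] at this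
    exact this
  have : Finite (M ⧸ B) := Finite.of_surjective (QuotientAddGroup.map B₀ B (AddMonoidHom.id M) hB) (by
    intro y
    obtain ⟨a, rfl⟩ := QuotientAddGroup.mk'_surjective B y
    exact ⟨QuotientAddGroup.mk' B₀ a, rfl⟩)
  let χ₀ : M →+ Additive F :=
    { toFun := fun x => Additive.ofMul (chr φ (Multiplicative.ofAdd x))
      map_zero' := by simp
      map_add' := fun x y => by simp [ofAdd_add, map_mul] }
  let χ : (M ⧸ B) →+ Additive F := QuotientAddGroup.lift B χ₀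
    (fun x (hx : chr φ (Multiplicative.ofAdd x) = 1) => congrArg Additive.ofMul hx)
  let χm : Multiplicative (M ⧸ B) →* F := AddMonoidHom.toMultiplicativeLeft χ
  have hinj : Function.Injective χm := by
    refine (injective_iff_map_eq_one χm).mpr fun z hz => ?_
    obtain ⟨z, rfl⟩ : ∃ w, Multiplicative.ofAdd w = z := ⟨z.toAdd, rfl⟩
    obtain ⟨a, rfl⟩ := QuotientAddGroup.mk'_surjective B z
    exact congrArg Multiplicative.ofAdd ((QuotientAddGroup.eq_zero_iff a).mpr hz)
  have : Finite (Multiplicative (M ⧸ B)) := .of_equiv _ Multiplicative.ofAdd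
  have hcyc : IsAddCyclic (M ⧸ B) := isCyclic_multiplicative_iff.mp (isCyclic_of_injective_ringHom χm hinj)
  refine ⟨B, hB, hcyc, ?_⟩
  rw [K_eq_span, Ideal.span_le]
  rintro _ (⟨b, hb, rfl⟩ | ⟨a, ha, rfl⟩)
  · rw [SetLike.mem_coe, RingHom.mem_ker, map_sub, map_one, sub_eq_zero]
    exact hb
  · have hord : orderOf (chr φ (Multiplicative.ofAdd a)) = Nat.card (M ⧸ B) := by
      rw [show chr φ (Multiplicative.ofAdd a) = χm (Multiplicative.ofAdd (QuotientAddGroup.mk' B a)) from rfl,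
        orderOf_injective χm hinj, orderOf_ofAdd_eq_addOrderOf, ← Nat.card_zmultiples, ha, AddSubgroup.card_top]
    have hprim := IsPrimitiveRoot.orderOf (chr φ (Multiplicative.ofAdd a))
    rw [hord] at hprim
    have hr := hprim.isRoot_cyclotomic Nat.card_pos
    rw [IsRoot.def, eval_cyclo] at hr
    rw [SetLike.mem_coe, RingHom.mem_ker, aeval_cyclo (Λ := Λ),
      map_aeval_int φ]
    exact hr

end field

theorem natCast_card_isUnit {B₀ B : AddSubgroup M} (h : B₀ ≤ B) (hu : IsUnit ((B₀.index : ℕ) : Λ)) :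
    IsUnit ((Nat.card (M ⧸ B) : ℕ) : Λ) := by
  rw [← AddSubgroup.index_eq_card]
  obtain ⟨c, hc⟩ := AddSubgroup.index_dvd_of_le h
  rw [hc, Nat.cast_mul] at hu
  exact (IsUnit.mul_iff.mp hu).1

/-- Distinct cyclic quotients give coprime ideals. -/
theorem isCoprime_K {B B' : AddSubgroup M} [Finite (M ⧸ B)] [IsAddCyclic (M ⧸ B)] [Finite (M ⧸ B')]
    [IsAddCyclic (M ⧸ B')] (hn : IsUnit ((Nat.card (M ⧸ B) : ℕ) : Λ))
    (hn' : IsUnit ((Nat.card (M ⧸ B') : ℕ) : Λ)) (hne : B ≠ B') : IsCoprime (K Λ M B) (K Λ M B') := by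
  rw [Ideal.isCoprime_iff_sup_eq]
  by_contra hne'
  obtain ⟨P, hP, hle⟩ := Ideal.exists_le_maximal _ hne'
  let := Ideal.Quotient.field P
  refine hne (AddSubgroup.ext fun x => ?_)
  rw [← chr_eq_one_iff (Ideal.Quotient.mk P) hn (by rw [Ideal.mk_ker]; exact le_sup_left.trans hle),
    chr_eq_one_iff (Ideal.Quotient.mk P) hn' (by rw [Ideal.mk_ker]; exact le_sup_right.trans hle)]

theorem isCoprime_ker_quotMap {B₀ B : AddSubgroup M} [Finite (M ⧸ B)] [IsAddCyclic (M ⧸ B)]
    (hn : IsUnit ((Nat.card (M ⧸ B) : ℕ) : Λ)) (hle : ¬ B₀ ≤ B) :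
    IsCoprime (RingHom.ker (quotMap Λ M B₀)) (K Λ M B) := by
  rw [Ideal.isCoprime_iff_sup_eq]
  by_contra hne'
  obtain ⟨P, hP, hP'⟩ := Ideal.exists_le_maximal _ hne'
  let := Ideal.Quotient.field P
  refine hle fun x hx => ?_
  rw [← chr_eq_one_iff (Ideal.Quotient.mk P) hn (by rw [Ideal.mk_ker]; exact le_sup_right.trans hP')]
  have h1 : AddMonoidAlgebra.single x (1 : Λ) - 1 ∈ RingHom.ker (quotMap Λ M B₀) := by
    rw [ker_quotMap]; exact Ideal.subset_span ⟨x, hx, rfl⟩
  have h2 := hP' (Ideal.mem_sup_left h1)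
  rw [← Ideal.Quotient.eq_zero_iff_mem, map_sub, map_one, sub_eq_zero] at h2
  exact h2

variable (M) in
/-- The cyclic quotients above `B₀`. -/
abbrev Idx (B₀ : AddSubgroup M) := {B : AddSubgroup M // B₀ ≤ B ∧ IsAddCyclic (M ⧸ B)}

instance finite_idx (B₀ : AddSubgroup M) [Finite (M ⧸ B₀)] : Finite (Idx M B₀) := by
  refine Finite.of_injective (fun B : Idx M B₀ => ((B.1.map (QuotientAddGroup.mk' B₀) : AddSubgroup (M ⧸ B₀)) : Set (M ⧸ B₀)))
    fun B B' h => Subtype.ext ?_
  have h1 := congrArg (AddSubgroup.comap (QuotientAddGroup.mk' B₀)) (SetLike.coe_injective h)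
  rwa [AddSubgroup.comap_map_eq, AddSubgroup.comap_map_eq, QuotientAddGroup.ker_mk', sup_eq_left.mpr B.2.1,
    sup_eq_left.mpr B'.2.1] at h1

instance finite_quot_idx (B₀ : AddSubgroup M) [Finite (M ⧸ B₀)] (B : Idx M B₀) : Finite (M ⧸ B.1) :=
  Finite.of_surjective (QuotientAddGroup.map B₀ B.1 (AddMonoidHom.id M) B.2.1) (by
    intro y
    obtain ⟨a, rfl⟩ := QuotientAddGroup.mk'_surjective B.1 y
    exact ⟨QuotientAddGroup.mk' B₀ a, rfl⟩)

theorem pairwise_coprime {B₀ : AddSubgroup M} [Finite (M ⧸ B₀)] (hu : IsUnit ((B₀.index : ℕ) : Λ)) :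
    Pairwise (Function.onFun IsCoprime fun B : Idx M B₀ => K Λ M B.1) := by
  intro B B' hne
  have := B.2.2
  have := B'.2.2
  exact isCoprime_K (natCast_card_isUnit B.2.1 hu) (natCast_card_isUnit B'.2.1 hu) fun h => hne (Subtype.ext h)

/-- The product of the cyclotomic ideals of `ℤ[M]` lies in the kernel of `ℤ[M] → ℤ[M ⧸ B₀]`. -/
theorem prod_K_int_le (B₀ : AddSubgroup M) [Finite (M ⧸ B₀)] [Fintype (Idx M B₀)] :
    ∏ B : Idx M B₀, K ℤ M B.1 ≤ RingHom.ker (quotMap ℤ M B₀) := by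
  classical
  intro x hx
  have := Fintype.ofFinite (M ⧸ B₀)
  set y := quotMap ℤ M B₀ x with hy
  have key : ∀ ψ : AddChar (M ⧸ B₀) ℂ,
      AddMonoidAlgebra.lift ℤ ℂ (M ⧸ B₀) ψ.toMonoidHom y = 0 := by
    intro ψ
    let φ : AddMonoidAlgebra ℤ M →+* ℂ :=
      (AddMonoidAlgebra.lift ℤ ℂ (M ⧸ B₀) ψ.toMonoidHom).toRingHom.comp (quotMap ℤ M B₀)
    obtain ⟨B, hB, hc, hle⟩ := exists_K_le φ (B₀ := B₀) (fun z hz => by
      rw [RingHom.mem_ker] at hz ⊢
      show (AddMonoidAlgebra.lift ℤ ℂ (M ⧸ B₀) ψ.toMonoidHom) (quotMap ℤ M B₀ z) = 0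
      rw [hz, map_zero])
    exact hle (Finset.inf_le (f := fun B : Idx M B₀ => K ℤ M B.1) (Finset.mem_univ (⟨B, hB, hc⟩ : Idx M B₀)) (Ideal.prod_le_inf hx))
  rw [RingHom.mem_ker, ← hy]
  ext a
  have h1 : ∑ ψ : AddChar (M ⧸ B₀) ℂ, ψ (-a) * AddMonoidAlgebra.lift ℤ ℂ (M ⧸ B₀) ψ.toMonoidHom y =
      (Fintype.card (M ⧸ B₀) : ℂ) * (y.coeff a : ℂ) := by
    simp only [AddMonoidAlgebra.lift_apply, Finsupp.sum, Finset.mul_sum, zsmul_eq_mul]
    rw [Finset.sum_comm]
    have : ∀ b ∈ y.coeff.support, ∑ ψ : AddChar (M ⧸ B₀) ℂ, ψ (-a) * ((y.coeff b : ℂ) * ψ.toMonoidHom (Multiplicative.ofAdd b)) =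
        if b = a then (Fintype.card (M ⧸ B₀) : ℂ) * (y.coeff a : ℂ) else 0 := by
      intro b _
      have h2 : ∀ ψ : AddChar (M ⧸ B₀) ℂ, ψ (-a) * ((y.coeff b : ℂ) * ψ.toMonoidHom (Multiplicative.ofAdd b)) =
          (y.coeff b : ℂ) * ψ (b - a) := fun ψ => by
        rw [sub_eq_add_neg, AddChar.map_add_eq_mul]
        show ψ (-a) * (_ * ψ b) = _
        ring
      simp only [h2, ← Finset.mul_sum, AddChar.sum_apply_eq_ite, sub_eq_zero]
      split
      · next h => rw [h]; ring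
      · ring
    rw [Finset.sum_congr rfl this, Finset.sum_ite_eq']
    split
    · rfl
    · next h => rw [Finsupp.notMem_support_iff.mp h]; simp
  simp only [key, mul_zero, Finset.sum_const_zero] at h1
  have h3 := (mul_eq_zero.mp h1.symm).resolve_left (by exact_mod_cast Fintype.card_ne_zero)
  simpa using h3

theorem map_gen_subset (B : AddSubgroup M) :
    gen Λ M B ⊆ AddMonoidAlgebra.mapRingHom M (Int.castRingHom Λ) '' gen ℤ M B := by
  rintro _ (⟨b, hb, rfl⟩ | ⟨a, ha, rfl⟩)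
  · exact ⟨_, Or.inl ⟨b, hb, rfl⟩, by simp [AddMonoidAlgebra.mapRingHom_single]⟩
  · refine ⟨_, Or.inr ⟨a, ha, rfl⟩, ?_⟩
    rw [aeval_cyclo (Λ := Λ)]
    have := (Polynomial.aeval_algHom_apply (AddMonoidAlgebra.mapRingHom M (Int.castRingHom Λ)).toIntAlgHom
      (AddMonoidAlgebra.single a (1 : ℤ)) (cyclotomic (Nat.card (M ⧸ B)) ℤ)).symm
    refine this.trans ?_
    simp [AddMonoidAlgebra.mapRingHom_single]

theorem iInf_K_le {B₀ : AddSubgroup M} [Finite (M ⧸ B₀)] (hu : IsUnit ((B₀.index : ℕ) : Λ)) :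
    ⨅ B : Idx M B₀, K Λ M B.1 ≤ RingHom.ker (quotMap Λ M B₀) := by
  classical
  have := Fintype.ofFinite (Idx M B₀)
  have h1 : ∏ B : Idx M B₀, K Λ M B.1 = ⨅ B : Idx M B₀, K Λ M B.1 := by
    rw [Ideal.prod_eq_iInf_of_pairwise_isCoprime fun B _ B' _ h => pairwise_coprime hu h]
    simp
  rw [← h1]
  let f := AddMonoidAlgebra.mapRingHom M (Int.castRingHom Λ)
  have h2 : ∀ B : AddSubgroup M, K Λ M B ≤ (K ℤ M B).map f := by
    intro B
    rw [K_eq_span, K_eq_span, Ideal.map_span]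
    exact Ideal.span_mono (map_gen_subset B)
  have h3 : ∀ s : Finset (Idx M B₀), ∏ B ∈ s, K Λ M B.1 ≤ (∏ B ∈ s, K ℤ M B.1).map f := by
    intro s
    induction s using Finset.induction with
    | empty => simp [Ideal.map_top]
    | insert a s ha ih =>
      rw [Finset.prod_insert ha, Finset.prod_insert ha, Ideal.map_mul]
      exact Ideal.mul_mono (h2 _) ih
  refine (h3 Finset.univ).trans (Ideal.map_le_iff_le_comap.mpr ?_)
  refine (prod_K_int_le B₀).trans ?_
  rw [ker_quotMap, ker_quotMap, Ideal.span_le]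
  rintro _ ⟨b, hb, rfl⟩
  exact Ideal.subset_span ⟨b, hb, by simp [f, AddMonoidAlgebra.mapRingHom_single]⟩

theorem ker_quotMap_eq {B₀ : AddSubgroup M} [Finite (M ⧸ B₀)] (hu : IsUnit ((B₀.index : ℕ) : Λ)) :
    RingHom.ker (quotMap Λ M B₀) = ⨅ B : Idx M B₀, K Λ M B.1 :=
  le_antisymm (le_iInf fun B => ker_quotMap_le_K B.2.1) (iInf_K_le hu)

/-- An element of the localising submonoid of `B'` inside a coprime ideal. -/
theorem exists_mem_loc {I : Ideal (AddMonoidAlgebra Λ M)} {B : AddSubgroup M} (h : IsCoprime I (K Λ M B)) :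
    ∃ s ∈ locSubmonoid Λ M B, s ∈ I := by
  obtain ⟨a, ha, b, hb, hab⟩ := Ideal.isCoprime_iff_exists.mp h
  refine ⟨a, ?_, ha⟩
  show cycQuotMap Λ M B a = 1
  have := congrArg (cycQuotMap Λ M B) hab
  rwa [map_add, map_one, show cycQuotMap Λ M B b = 0 from hb, add_zero] at this

end Groth.Agent.ComodLib.CycGR
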