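import Groth.Agent.ComodLib.Invariants
import Mathlib.RingTheory.MvPolynomial.Homogeneous

/-!
# Linear actions on polynomial rings preserve degrees
-/

universe u v w

open TensorProduct MvPolynomial

namespace Groth.Agent.ComodLib

variable {k : Type u} [Field k] {A : Type v} [CommRing A] [HopfAlgebra k A]
variable {ι : Type w} [Fintype ι] [HopfRep.Comod k A (MvPolynomial ι k)] [GLin.IsCoactAlg k A (MvPolynomial ι k)]

theorem isSubcomod_homogeneous_one (hlin : GLin.IsLinear k A ι) :
    HopfRep.IsSubcomod (k := k) (A := A) (homogeneousSubmodule ι k 1) := by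
  intro x hx
  rw [mem_homogeneousSubmodule] at hx
  have hspan : x ∈ Submodule.span k (Set.range (X : ι → MvPolynomial ι k)) := by
    rw [← homogeneousSubmodule_one_eq_span_X, mem_homogeneousSubmodule]
    exact hx
  clear hx
  induction hspan using Submodule.span_induction with
  | mem p hp =>
    obtain ⟨i, rfl⟩ := hp
    obtain ⟨m, hm⟩ := hlin i
    rw [hm]
    exact Submodule.sum_mem _ fun j _ =>
      ⟨(⟨X j, (mem_homogeneousSubmodule ..).mpr (isHomogeneous_X k j)⟩ : homogeneousSubmodule ι k 1) ⊗ₜ[k] m j, by simp⟩
  | zero => simp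
  | add p q _ _ hp hq => rw [map_add]; exact Submodule.add_mem _ hp hq
  | smul c p _ hp => rw [map_smul]; exact Submodule.smul_mem _ _ hp

theorem isSubcomod_homogeneous (hlin : GLin.IsLinear k A ι) (d : ℕ) :
    HopfRep.IsSubcomod (k := k) (A := A) (homogeneousSubmodule ι k d) := by
  rw [← homogeneousSubmodule_one_pow]
  induction d with
  | zero =>
    rw [pow_zero]
    intro x hx
    obtain ⟨c, rfl⟩ := Submodule.mem_one.mp hx
    refine ⟨(⟨algebraMap k _ c, Submodule.mem_one.mpr ⟨c, rfl⟩⟩ : (1 : Submodule k (MvPolynomial ι k))) ⊗ₜ[k] (1 : A), ?_⟩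
    have h : HopfRep.Comod.coact (k := k) (A := A) (algebraMap k (MvPolynomial ι k) c) =
        (algebraMap k (MvPolynomial ι k) c) ⊗ₜ[k] (1 : A) := by
      rw [Algebra.algebraMap_eq_smul_one, map_smul, GLin.IsCoactAlg.coact_one, Algebra.TensorProduct.one_def]
      rfl
    rw [LinearMap.rTensor_tmul]
    exact h.symm
  | succ d ih => rw [pow_succ]; exact isSubcomod_mul ih (isSubcomod_homogeneous_one hlin)

theorem coact_homogeneousComponent (hlin : GLin.IsLinear k A ι) (f : MvPolynomial ι k) (d : ℕ) :
    HopfRep.Comod.coact (k := k) (A := A) (homogeneousComponent d f) =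
      (homogeneousComponent d).rTensor A (HopfRep.Comod.coact (k := k) (A := A) f) := by
  conv_rhs => rw [← sum_homogeneousComponent f, map_sum, map_sum]
  rw [Finset.sum_eq_single d]
  · obtain ⟨z, hz⟩ := isSubcomod_homogeneous (A := A) hlin d _
      ((mem_homogeneousSubmodule ..).mpr (homogeneousComponent_isHomogeneous d f))
    rw [← hz]
    clear hz
    induction z using TensorProduct.induction_on with
    | zero => simp
    | tmul p a =>
      simp [homogeneousComponent_of_mem p.2]
    | add p q hp hq => simp only [map_add, ← hp, ← hq]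
  · intro e _ he
    obtain ⟨z, hz⟩ := isSubcomod_homogeneous (A := A) hlin e _
      ((mem_homogeneousSubmodule ..).mpr (homogeneousComponent_isHomogeneous e f))
    rw [← hz]
    clear hz
    induction z using TensorProduct.induction_on with
    | zero => simp
    | tmul p a => simp [homogeneousComponent_of_mem p.2, if_neg (Ne.symm he)]
    | add p q hp hq => simp only [map_add, hp, hq, add_zero]
  · intro hd
    rw [Finset.mem_range, not_lt] at hd
    rw [homogeneousComponent_eq_zero d f (by omega), map_zero, map_zero]

theorem homogeneousComponent_mem_invariants (hlin : GLin.IsLinear k A ι) {f : MvPolynomial ι k}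
    (hf : f ∈ GLin.invariants k A (MvPolynomial ι k)) (d : ℕ) :
    homogeneousComponent d f ∈ GLin.invariants k A (MvPolynomial ι k) := by
  show HopfRep.Comod.coact (k := k) (A := A) _ = _
  rw [coact_homogeneousComponent hlin, show HopfRep.Comod.coact (k := k) (A := A) f = f ⊗ₜ[k] (1 : A) from hf,
    LinearMap.rTensor_tmul]

end Groth.Agent.ComodLib
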