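import Groth.Agent.ComodLib.MatrixComod
import Mathlib.Data.Fintype.Powerset
import Mathlib.LinearAlgebra.Matrix.Charpoly.Coeff

/-!
# The exterior powers of a comultiplicative matrix: matrices of minors
-/

universe u v

open TensorProduct

namespace Groth.Agent.ComodLib

variable {k : Type u} [CommRing k] {A : Type v} [CommRing A] [Bialgebra k A]
variable {X : Type} [Fintype X] [DecidableEq X]

theorem comul_orbit {Y : Type} [Fintype Y] [DecidableEq Y] {M : Y → Y → A} (h : IsComodMatrix k M) (v : Y → k) (x : Y) :
    Coalgebra.comul (R := k) (orbit k M v x) = ∑ l, M x l ⊗ₜ[k] orbit k M v l := by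
  simp only [orbit, map_sum, map_smul, h.comul, TensorProduct.tmul_sum, TensorProduct.tmul_smul, Finset.smul_sum]
  exact Finset.sum_comm

theorem counit_orbit {Y : Type} [Fintype Y] [DecidableEq Y] {M : Y → Y → A} (h : IsComodMatrix k M) (v : Y → k) (x : Y) :
    Coalgebra.counit (R := k) (orbit k M v x) = v x := by
  simp [orbit, h.counit]

/-- An enumeration of an `r`-element subset. -/
noncomputable def enum {r : ℕ} (s : {s : Finset X // s.card = r}) (l : Fin r) : X :=
  ((Finset.equivFinOfCardEq s.2).symm l : s.1)

omit [Fintype X] in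
theorem enum_injective {r : ℕ} (s : {s : Finset X // s.card = r}) : Function.Injective (enum s) :=
  Subtype.val_injective.comp (Finset.equivFinOfCardEq s.2).symm.injective

theorem minorVec_eq_zero {r : ℕ} (t : Fin r → X) {i : Fin r → X} (h : ¬ Function.Injective i) :
    minorVec k t i = 0 := by
  simp only [Function.Injective, not_forall] at h
  obtain ⟨a, b, hab, hne⟩ := h
  exact Matrix.det_zero_of_row_eq hne (funext fun m => by simp [Matrix.one_apply, hab])

omit [Fintype X] in
theorem mem_enum {r : ℕ} (s : {s : Finset X // s.card = r}) (l : Fin r) : enum s l ∈ s.1 :=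
  ((Finset.equivFinOfCardEq s.2).symm l).2

variable (k) in
theorem det_submatrix_eq_sum {r : ℕ} {B : Type*} [CommRing B] [Algebra k B] (G : Matrix X X B) (i : Fin r → X)
    (t : Fin r → X) :
    (G.submatrix i t).det =
      ∑ s : {s : Finset X // s.card = r}, minorVec k (enum s) i • (G.submatrix (enum s) t).det := by
  by_cases hi : Function.Injective i
  · let s₀ : {s : Finset X // s.card = r} :=
      ⟨Finset.univ.image i, by rw [Finset.card_image_of_injective _ hi, Finset.card_univ, Fintype.card_fin]⟩
    rw [Finset.sum_eq_single s₀]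
    · have hl : ∀ l, ∃ l', enum s₀ l' = i l := fun l =>
        ⟨Finset.equivFinOfCardEq s₀.2 ⟨i l, Finset.mem_image_of_mem i (Finset.mem_univ l)⟩, by simp [enum]⟩
      choose σ hσ using hl
      rw [minorVec, Algebra.smul_def, RingHom.map_det, ← Matrix.det_mul]
      congr 1
      ext l m
      simp only [Matrix.mul_apply, Matrix.submatrix_apply, RingHom.mapMatrix_apply, Matrix.map_apply,
        Matrix.one_apply, apply_ite (algebraMap k B), map_one, map_zero, ite_mul, one_mul, zero_mul, ← hσ l,
        (enum_injective s₀).eq_iff, Finset.sum_ite_eq, Finset.mem_univ, if_true]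
    · intro s _ hs
      obtain ⟨l, hl⟩ : ∃ l, i l ∉ s.1 := by
        by_contra hc
        simp only [not_exists, not_not] at hc
        exact hs (Subtype.ext (Finset.eq_of_subset_of_card_le
          (Finset.image_subset_iff.mpr fun l _ => hc l) (by rw [s.2, s₀.2])).symm)
      rw [minorVec, Matrix.det_eq_zero_of_row_eq_zero l fun m => ?_, zero_smul]
      rw [Matrix.submatrix_apply, Matrix.one_apply, if_neg]
      exact fun e => hl (e ▸ mem_enum s m)
    · simp
  · rw [Finset.sum_eq_zero fun s _ => by rw [minorVec_eq_zero _ hi, zero_smul]]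
    simp only [Function.Injective, not_forall] at hi
    obtain ⟨a, b, hab, hne⟩ := hi
    exact Matrix.det_zero_of_row_eq hne (funext fun m => by simp [hab])

/-- The matrix of `r × r` minors. -/
noncomputable def minorMatrix (M : X → X → A) (r : ℕ) (s t : {s : Finset X // s.card = r}) : A :=
  ((Matrix.of M).submatrix (enum s) (enum t)).det

theorem IsComodMatrix.minorMatrix {M : X → X → A} (h : IsComodMatrix k M) (r : ℕ) :
    IsComodMatrix k (minorMatrix M r) where
  comul s t := by
    rw [Groth.Agent.ComodLib.minorMatrix, ← orbit_powMatrix_minorVec (k := k), comul_orbit (h.powMatrix r)]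
    have e : ∀ l, orbit k (Groth.Agent.ComodLib.powMatrix M r) (minorVec k (enum t)) l =
        ∑ u, minorVec k (enum u) l • ((Matrix.of M).submatrix (enum u) (enum t)).det := fun l =>
      (orbit_powMatrix_minorVec M (enum t) l).trans (det_submatrix_eq_sum k (Matrix.of M) l (enum t))
    simp only [e, TensorProduct.tmul_sum, TensorProduct.tmul_smul]
    rw [Finset.sum_comm]
    refine Finset.sum_congr rfl fun u _ => ?_
    simp only [TensorProduct.smul_tmul', ← TensorProduct.sum_tmul]
    congr 1
    rw [Groth.Agent.ComodLib.minorMatrix, ← orbit_powMatrix_minorVec (k := k)]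
    rfl
  counit s t := by
    rw [Groth.Agent.ComodLib.minorMatrix, ← orbit_powMatrix_minorVec (k := k), counit_orbit (h.powMatrix r)]
    split_ifs with hst
    · rw [hst, minorVec_self (enum_injective t)]
    · obtain ⟨l, hl⟩ : ∃ l, enum s l ∉ t.1 := by
        by_contra hc
        simp only [not_exists, not_not] at hc
        refine hst (Subtype.ext (Finset.eq_of_subset_of_card_le (fun x hx => ?_) (by rw [s.2, t.2])))
        obtain ⟨l, hl⟩ := (Finset.equivFinOfCardEq s.2).symm.surjective ⟨x, hx⟩
        have := hc l
        rwa [show enum s l = x from congrArg Subtype.val hl] at this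
      refine Matrix.det_eq_zero_of_row_eq_zero l fun m => ?_
      rw [Matrix.submatrix_apply, Matrix.one_apply, if_neg]
      exact fun e => hl (e ▸ mem_enum t m)

theorem trace_minorMatrix (M : X → X → A) (r : ℕ) (hr : r ≤ Fintype.card X) :
    ∑ s, minorMatrix M r s s = (-1) ^ r * (Matrix.of M).charpoly.coeff (Fintype.card X - r) := by
  rw [Matrix.charpoly_coeff_eq_sum_minors _ _ hr, ← mul_assoc, ← mul_pow, neg_one_mul, neg_neg, one_pow, one_mul,
    Finset.sum_subtype (p := fun s : Finset X => s.card = r) (Finset.univ.powersetCard r) (fun s => by simp [Finset.mem_powersetCard])]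
  refine Finset.sum_congr rfl fun s _ => ?_
  exact Matrix.det_submatrix_equiv_self (Finset.equivFinOfCardEq s.2).symm
    ((Matrix.of M).submatrix (Subtype.val : s.1 → X) (Subtype.val : s.1 → X))

end Groth.Agent.ComodLib
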