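import Groth.Agent.ComodLib.Orbits

/-! # The numerical function of a one-parameter subgroup, in coordinates -/

universe u v w

open scoped TensorProduct
open LaurentPolynomial

namespace Groth.Agent.ComodLib

variable {k : Type u} [Field k]

theorem coeff_toLaurent_natCast (g : Polynomial k) (a : ℕ) :
    (Polynomial.toLaurent g).coeff (a : ℤ) = g.coeff a := by
  rw [LaurentPolynomial.coeff_toLaurent, show ((a : ℤ)) = Nat.castEmbedding a from rfl,
    Finsupp.mapDomain_apply Nat.castEmbedding.injective]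
  rfl

theorem mem_range_toLaurent (f : LaurentPolynomial k) :
    (∃ g : Polynomial k, Polynomial.toLaurentAlg (R := k) g = f) ↔ ∀ n : ℤ, n < 0 → f.coeff n = 0 := by
  constructor
  · rintro ⟨g, rfl⟩ n hn
    by_contra h
    have hmem : n ∈ (Polynomial.toLaurent g).coeff.support := Finsupp.mem_support_iff.mpr h
    rw [LaurentPolynomial.support_coeff_toLaurent] at hmem
    obtain ⟨a, -, rfl⟩ := Finset.mem_map.mp hmem
    simp at hn
    omega
  · intro h
    refine ⟨LaurentPolynomial.trunc f, ?_⟩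
    show Polynomial.toLaurent _ = f
    refine LaurentPolynomial.ext fun n => ?_
    rcases lt_or_ge n 0 with hn | hn
    · rw [h n hn]
      by_contra h'
      have hmem : n ∈ (Polynomial.toLaurent (LaurentPolynomial.trunc f)).coeff.support := Finsupp.mem_support_iff.mpr h'
      rw [LaurentPolynomial.support_coeff_toLaurent] at hmem
      obtain ⟨a, -, rfl⟩ := Finset.mem_map.mp hmem
      simp at hn
      omega
    · obtain ⟨a, rfl⟩ := Int.eq_ofNat_of_zero_le hn
      rw [coeff_toLaurent_natCast]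
      simp [LaurentPolynomial.trunc, Finsupp.comapDomain_apply]

theorem aeval_zero_toLaurent (g : Polynomial k) :
    Polynomial.aeval (0 : k) g = (Polynomial.toLaurentAlg (R := k) g).coeff 0 := by
  show _ = (Polynomial.toLaurent g).coeff ((0 : ℕ) : ℤ)
  rw [coeff_toLaurent_natCast, Polynomial.coeff_zero_eq_eval_zero, Polynomial.aeval_def, Polynomial.eval₂_eq_eval_map]
  simp

theorem coeff_T_mul (m : ℤ) (f : LaurentPolynomial k) (n : ℤ) :
    (LaurentPolynomial.T m * f).coeff n = f.coeff (n - m) := by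
  induction f using LaurentPolynomial.induction_on' with
  | add p q hp hq => simp only [mul_add, AddMonoidAlgebra.coeff_add, Finsupp.add_apply, hp, hq]
  | C_mul_T a c =>
    rw [← mul_assoc, (LaurentPolynomial.commute_T m _).eq, mul_assoc, ← LaurentPolynomial.T_add]
    simp only [← LaurentPolynomial.single_eq_C_mul_T, AddMonoidAlgebra.coeff_single, Finsupp.single_apply]
    exact if_congr ⟨fun h => by omega, fun h => by omega⟩ rfl rfl

variable {A : Type v} [CommRing A] [Bialgebra k A] {ι : Type w}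

section Extend

/-- A Laurent-valued point of affine space extends to the affine line iff its coordinates do. -/
theorem exists_extend_iff (φ : MvPolynomial ι k →ₐ[k] LaurentPolynomial k) (y : ι → k) :
    (∃ h : MvPolynomial ι k →ₐ[k] Polynomial k, (Polynomial.toLaurentAlg (R := k)).comp h = φ ∧
        (Polynomial.aeval (0 : k)).comp h = MvPolynomial.aeval y) ↔
      (∀ i n, n < 0 → (φ (MvPolynomial.X i)).coeff n = 0) ∧ ∀ i, (φ (MvPolynomial.X i)).coeff 0 = y i := by
  constructor
  · rintro ⟨h, rfl, h2⟩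
    refine ⟨fun i n hn => (mem_range_toLaurent _).mp ⟨h (MvPolynomial.X i), rfl⟩ n hn, fun i => ?_⟩
    rw [← MvPolynomial.aeval_X (R := k) y i, ← h2, AlgHom.comp_apply, AlgHom.comp_apply, aeval_zero_toLaurent]
  · rintro ⟨h1, h2⟩
    choose g hg using fun i => (mem_range_toLaurent (φ (MvPolynomial.X i))).mpr (h1 i)
    refine ⟨MvPolynomial.aeval g, MvPolynomial.algHom_ext fun i => ?_, MvPolynomial.algHom_ext fun i => ?_⟩
    · rw [AlgHom.comp_apply, MvPolynomial.aeval_X, hg]
    · rw [AlgHom.comp_apply, MvPolynomial.aeval_X, MvPolynomial.aeval_X, aeval_zero_toLaurent, hg, h2]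

theorem exists_extend_iff' (φ : MvPolynomial ι k →ₐ[k] LaurentPolynomial k) :
    (∃ h : MvPolynomial ι k →ₐ[k] Polynomial k, (Polynomial.toLaurentAlg (R := k)).comp h = φ) ↔
      ∀ i n, n < 0 → (φ (MvPolynomial.X i)).coeff n = 0 := by
  refine ⟨?_, fun h => ?_⟩
  · rintro ⟨h, rfl⟩ i n hn
    exact (mem_range_toLaurent _).mp ⟨h (MvPolynomial.X i), rfl⟩ n hn
  · obtain ⟨h', h1, -⟩ := (exists_extend_iff φ fun i => (φ (MvPolynomial.X i)).coeff 0).mpr ⟨h, fun i => rfl⟩
    exact ⟨h', h1⟩

end Extend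

variable [Fintype ι] [HopfRep.Comod k A (MvPolynomial ι k)] [GLin.IsCoactAlg k A (MvPolynomial ι k)]

variable (k A) in
/-- The coordinates of the orbit of `v` under `λ`. -/
noncomputable def lamCoord (lam : A →ₐc[k] LaurentPolynomial k) (v : ι → k) (i : ι) : LaurentPolynomial k :=
  GLin.lamOrbit k A lam (GLin.vecPt k ι v) (MvPolynomial.X i)

theorem isLimit_iff (lam : A →ₐc[k] LaurentPolynomial k) (v y : ι → k) :
    GLin.IsLimit k A lam (GLin.vecPt k ι v) (GLin.vecPt k ι y) ↔
      (∀ i n, n < 0 → (lamCoord k A lam v i).coeff n = 0) ∧ ∀ i, (lamCoord k A lam v i).coeff 0 = y i :=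
  exists_extend_iff _ y

theorem hasLimit_iff (lam : A →ₐc[k] LaurentPolynomial k) (v : ι → k) :
    GLin.HasLimit k A lam (GLin.vecPt k ι v) ↔ ∀ i n, n < 0 → (lamCoord k A lam v i).coeff n = 0 :=
  exists_extend_iff' _

theorem isMu_iff (lam : A →ₐc[k] LaurentPolynomial k) (v : ι → k) (m : ℤ) :
    GLin.IsMu k A lam v m ↔
      (∀ i n, n < -m → (lamCoord k A lam v i).coeff n = 0) ∧ ∃ i, (lamCoord k A lam v i).coeff (-m) ≠ 0 := by
  have hX : ∀ i, GLin.shiftedOrbit k A lam v m (MvPolynomial.X i) = LaurentPolynomial.T m * lamCoord k A lam v i :=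
    fun i => MvPolynomial.aeval_X _ i
  constructor
  · rintro ⟨h, h1, h2⟩
    obtain ⟨ha, hb⟩ := (exists_extend_iff (GLin.shiftedOrbit k A lam v m)
      fun i => Polynomial.aeval (0 : k) (h (MvPolynomial.X i))).mp
        ⟨h, h1, MvPolynomial.algHom_ext fun i => by rw [AlgHom.comp_apply, MvPolynomial.aeval_X]⟩
    refine ⟨fun i n hn => ?_, ?_⟩
    · have := ha i (n + m) (by omega)
      rwa [hX, coeff_T_mul, add_sub_cancel_right] at this
    · by_contra! hc
      refine h2 (MvPolynomial.algHom_ext fun i => ?_)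
      have := hb i
      rw [hX, coeff_T_mul, zero_sub, hc i] at this
      rw [AlgHom.comp_apply, MvPolynomial.aeval_X, ← this]
  · rintro ⟨ha, i, hi⟩
    obtain ⟨h, h1, h2⟩ := (exists_extend_iff (GLin.shiftedOrbit k A lam v m)
      fun j => (lamCoord k A lam v j).coeff (-m)).mpr ⟨fun j n hn => by rw [hX, coeff_T_mul]; exact ha j _ (by omega),
        fun j => by rw [hX, coeff_T_mul, zero_sub]⟩
    refine ⟨h, h1, fun hc => hi ?_⟩
    have := DFunLike.congr_fun (h2.symm.trans hc) (MvPolynomial.X i)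
    simpa using this

theorem orbitHom_apply' (x : MvPolynomial ι k →ₐ[k] k) (f : MvPolynomial ι k) :
    GLin.orbitHom k A x f =
      TensorProduct.lid k A (x.toLinearMap.rTensor A (HopfRep.Comod.coact (k := k) (A := A) f)) := by
  show Algebra.TensorProduct.lid k A
    (Algebra.TensorProduct.map x (AlgHom.id k A) (GLin.coactAlgHom k A (MvPolynomial ι k) f)) = _
  rw [show GLin.coactAlgHom k A (MvPolynomial ι k) f = HopfRep.Comod.coact (k := k) (A := A) f from rfl]
  induction HopfRep.Comod.coact (k := k) (A := A) f using TensorProduct.induction_on with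
  | zero => simp
  | tmul a b => simp
  | add p q hp hq => simp only [map_add, hp, hq]

theorem orbitCoord_eq {m : ι → ι → A} (hm : ∀ i, HopfRep.Comod.coact (k := k) (A := A)
      (MvPolynomial.X i : MvPolynomial ι k) = ∑ j, (MvPolynomial.X j : MvPolynomial ι k) ⊗ₜ[k] m i j)
    (v : ι → k) (i : ι) :
    GLin.orbitHom k A (GLin.vecPt k ι v) (MvPolynomial.X i) = ∑ j, v j • m i j := by
  rw [orbitHom_apply', hm, map_sum, map_sum]
  exact Finset.sum_congr rfl fun j _ => by simp

/-- The orbit map is a map of comodules, in coordinates. -/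
theorem comul_orbitCoord {m : ι → ι → A} (hm : ∀ i, HopfRep.Comod.coact (k := k) (A := A)
      (MvPolynomial.X i : MvPolynomial ι k) = ∑ j, (MvPolynomial.X j : MvPolynomial ι k) ⊗ₜ[k] m i j)
    (v : ι → k) (i : ι) :
    Coalgebra.comul (R := k) (GLin.orbitHom k A (GLin.vecPt k ι v) (MvPolynomial.X i)) =
      ∑ j, GLin.orbitHom k A (GLin.vecPt k ι v) (MvPolynomial.X j) ⊗ₜ[k] m i j := by
  have h := LinearMap.congr_fun (HopfRep.Comod.coassoc (k := k) (A := A) (V := MvPolynomial ι k)) (MvPolynomial.X i)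
  simp only [LinearMap.comp_apply, LinearEquiv.coe_coe, hm, map_sum, LinearMap.rTensor_tmul, LinearMap.lTensor_tmul,
    TensorProduct.sum_tmul, TensorProduct.assoc_tmul] at h
  have h2 := congrArg (fun z => TensorProduct.lid k (A ⊗[k] A) ((GLin.vecPt k ι v).toLinearMap.rTensor (A ⊗[k] A) z)) h
  simp only [map_sum, LinearMap.rTensor_tmul, TensorProduct.lid_tmul, AlgHom.toLinearMap_apply, MvPolynomial.aeval_X,
    TensorProduct.smul_tmul', ← TensorProduct.sum_tmul] at h2
  simp only [orbitCoord_eq hm, map_sum, map_smul]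
  exact h2.symm

theorem counit_orbitCoord (v : ι → k) (i : ι) :
    Coalgebra.counit (R := k) (GLin.orbitHom k A (GLin.vecPt k ι v) (MvPolynomial.X i)) = v i := by
  have h : ∀ z : MvPolynomial ι k ⊗[k] A, Coalgebra.counit (R := k) (TensorProduct.lid k A ((GLin.vecPt k ι v).toLinearMap.rTensor A z)) =
      GLin.vecPt k ι v (TensorProduct.rid k _ ((Coalgebra.counit (R := k)).lTensor _ z)) := fun z => by
    induction z using TensorProduct.induction_on with
    | zero => simp
    | tmul f a => simp [mul_comm]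
    | add p q hp hq => simp only [map_add, hp, hq]
  have h2 := LinearMap.congr_fun (HopfRep.Comod.counit_comp (k := k) (A := A) (V := MvPolynomial ι k)) (MvPolynomial.X i)
  simp only [LinearMap.comp_apply, LinearMap.flip_apply, TensorProduct.mk_apply] at h2
  rw [orbitHom_apply', h, h2]
  simp

theorem exists_lamCoord_ne_zero (lam : A →ₐc[k] LaurentPolynomial k) {v : ι → k} (hv : v ≠ 0) :
    ∃ i n, (lamCoord k A lam v i).coeff n ≠ 0 := by
  obtain ⟨i, hi⟩ := Function.ne_iff.mp hv
  by_contra! hc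
  have h0 : lamCoord k A lam v i = 0 := LaurentPolynomial.ext fun n => hc i n
  have h1 := CoalgHomClass.counit_comp_apply lam (GLin.orbitHom k A (GLin.vecPt k ι v) (MvPolynomial.X i))
  rw [counit_orbitCoord] at h1
  refine hi ?_
  rw [← h1]
  show Coalgebra.counit (R := k) (lamCoord k A lam v i) = _
  rw [h0, map_zero]
  rfl

theorem existsUnique_isMu (lam : A →ₐc[k] LaurentPolynomial k) {v : ι → k} (hv : v ≠ 0) :
    ∃! m : ℤ, GLin.IsMu k A lam v m := by
  classical
  obtain ⟨i, n, hin⟩ := exists_lamCoord_ne_zero lam hv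
  let S : Finset ℤ := Finset.univ.biUnion fun i => (lamCoord k A lam v i).coeff.support
  have hS : S.Nonempty := ⟨n, Finset.mem_biUnion.mpr ⟨i, Finset.mem_univ _, Finsupp.mem_support_iff.mpr hin⟩⟩
  obtain ⟨j, -, hj⟩ := Finset.mem_biUnion.mp (S.min'_mem hS)
  refine ⟨-S.min' hS, (isMu_iff lam v _).mpr ⟨fun i n hn => ?_, j, ?_⟩, fun m hm => ?_⟩
  · by_contra h
    have := S.min'_le n (Finset.mem_biUnion.mpr ⟨i, Finset.mem_univ _, Finsupp.mem_support_iff.mpr h⟩)
    omega
  · rw [neg_neg]; exact Finsupp.mem_support_iff.mp hj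
  · obtain ⟨h1, i', hi'⟩ := (isMu_iff lam v m).mp hm
    have := S.min'_le (-m) (Finset.mem_biUnion.mpr ⟨i', Finset.mem_univ _, Finsupp.mem_support_iff.mpr hi'⟩)
    have : -m ≤ S.min' hS := by
      by_contra hlt
      exact Finsupp.mem_support_iff.mp hj (h1 j _ (by omega))
    omega

end Groth.Agent.ComodLib
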