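import Groth.Agent.PSLib.Basic

/-!
# Power series automorphisms with invertible triangular linear part; cube roots
-/

universe u

namespace Groth.Agent.ComodLib.PSAut

variable {R : Type u} [CommRing R]

theorem constantCoeff_mem_vars {n : ℕ} {f : MvPowerSeries (Fin n) R} (h : f ∈ PSLib.vars n R) :
    MvPowerSeries.constantCoeff f = 0 := PSLib.mem_vars_iff.mp h

/-- A substitution whose linear part generates the variables is an automorphism. -/
theorem exists_algEquiv {n : ℕ} (y : Fin n → MvPowerSeries (Fin n) R) (hy : ∀ i, y i ∈ PSLib.vars n R)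
    (h1 : ∀ j, MvPowerSeries.X j ∈ Ideal.span (Set.range y)) :
    ∃ e : MvPowerSeries (Fin n) R ≃ₐ[R] MvPowerSeries (Fin n) R, ∀ i, e (MvPowerSeries.X i) = y i := by
  have hs : MvPowerSeries.HasSubst y :=
    MvPowerSeries.hasSubst_of_constantCoeff_zero fun i => constantCoeff_mem_vars (hy i)
  have hX : ∀ i, MvPowerSeries.substAlgHom (R := R) hs (MvPowerSeries.X i) = y i := fun i =>
    MvPowerSeries.substAlgHom_X hs i
  have hb : Function.Bijective (MvPowerSeries.substAlgHom (R := R) hs) :=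
    PSLib.bijective_of_first_order _ (fun i => (hX i).symm ▸ hy i) fun j => by
      simp only [hX]
      exact Ideal.mem_sup_left (h1 j)
  exact ⟨AlgEquiv.ofBijective _ hb, hX⟩

/-- Cube roots of power series congruent to `1`, when `3` is invertible. -/
theorem exists_cubeRoot {n : ℕ} (h3 : IsUnit (3 : R)) (ε : MvPowerSeries (Fin n) R) (hε : ε ∈ PSLib.vars n R) :
    ∃ c : MvPowerSeries (Fin n) R, IsUnit c ∧ c ^ 3 = 1 + ε := by
  have hg : ∀ i : Fin 1, MvPowerSeries.X i * ((3 : MvPowerSeries (Fin 1) R) + 3 * MvPowerSeries.X i + MvPowerSeries.X i ^ 2) ∈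
      PSLib.vars 1 R := fun i => Ideal.mul_mem_right _ _ (Ideal.subset_span ⟨i, rfl⟩)
  obtain ⟨e, he⟩ := exists_algEquiv
    (fun i : Fin 1 => MvPowerSeries.X i * ((3 : MvPowerSeries (Fin 1) R) + 3 * MvPowerSeries.X i + MvPowerSeries.X i ^ 2)) hg
    (fun j => by
      obtain ⟨w, hw⟩ : IsUnit ((3 : MvPowerSeries (Fin 1) R) + 3 * MvPowerSeries.X j + MvPowerSeries.X j ^ 2) := by
        rw [MvPowerSeries.isUnit_iff_constantCoeff]
        simpa [map_ofNat] using h3
      have hm := Ideal.mul_mem_right (↑w⁻¹ : MvPowerSeries (Fin 1) R) _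
        (Ideal.subset_span (s := Set.range fun i : Fin 1 =>
          MvPowerSeries.X i * ((3 : MvPowerSeries (Fin 1) R) + 3 * MvPowerSeries.X i + MvPowerSeries.X i ^ 2)) ⟨j, rfl⟩)
      simp only [← hw, Units.mul_inv_cancel_right] at hm
      simpa only [← hw] using hm)
  set g := e.symm (MvPowerSeries.X 0)
  have hge : (1 + g) ^ 3 = 1 + MvPowerSeries.X 0 := by
    apply e.injective
    rw [map_pow, map_add, map_add, map_one, AlgEquiv.apply_symm_apply, he]
    ring
  have hg0 : MvPowerSeries.constantCoeff g = 0 := by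
    have h := congrArg MvPowerSeries.constantCoeff (congrArg e.symm (he 0))
    rw [AlgEquiv.symm_apply_apply, MvPowerSeries.constantCoeff_X] at h
    rw [map_mul, map_mul] at h
    obtain ⟨w, hw⟩ : IsUnit ((3 : MvPowerSeries (Fin 1) R) + 3 * MvPowerSeries.X 0 + MvPowerSeries.X 0 ^ 2) := by
      rw [MvPowerSeries.isUnit_iff_constantCoeff]
      simpa [map_ofNat] using h3
    have hu : IsUnit (MvPowerSeries.constantCoeff (e.symm
        ((3 : MvPowerSeries (Fin 1) R) + 3 * MvPowerSeries.X 0 + MvPowerSeries.X 0 ^ 2))) := by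
      rw [← hw]
      exact (w.isUnit.map e.symm.toAlgHom).map MvPowerSeries.constantCoeff
    exact hu.mul_left_eq_zero.mp h.symm
  have hs : MvPowerSeries.HasSubst (fun _ : Fin 1 => ε) :=
    MvPowerSeries.hasSubst_of_constantCoeff_zero fun _ => constantCoeff_mem_vars hε
  refine ⟨1 + MvPowerSeries.substAlgHom (R := R) hs g, ?_, ?_⟩
  · rw [MvPowerSeries.isUnit_iff_constantCoeff, map_add, map_one, MvPowerSeries.substAlgHom_apply hs,
      MvPowerSeries.constantCoeff_subst_eq_zero hs (fun _ => constantCoeff_mem_vars hε) hg0, add_zero]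
    exact isUnit_one
  · rw [← map_one (MvPowerSeries.substAlgHom (R := R) hs), ← map_add, ← map_pow, hge, map_add, map_one,
      MvPowerSeries.substAlgHom_X hs]

theorem mul_unit_mem_span {n : ℕ} {y : Fin n → MvPowerSeries (Fin n) R} {j i : Fin n}
    {a : MvPowerSeries (Fin n) R} (ha : IsUnit a) (h : y i = MvPowerSeries.X j * a) :
    MvPowerSeries.X j ∈ Ideal.span (Set.range y) :=
  (Ideal.mul_unit_mem_iff_mem _ ha).mp (h ▸ Ideal.subset_span ⟨i, rfl⟩)

end Groth.Agent.ComodLib.PSAut
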