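import Groth.Agent.ComodLib.Basic
import Mathlib.RingTheory.HopfAlgebra.Convolution
import Mathlib.RingTheory.TensorProduct.Maps
import Mathlib.LinearAlgebra.TensorProduct.Tower

/-!
# The action of algebra-valued points on a comodule; averaging of linear maps over an invariant integral
-/

universe u v w w' x

open TensorProduct WithConv

namespace Groth.Agent.ComodLib

open HopfRep (Comod)

section Pt

variable {k : Type u} [CommRing k] {A : Type v} [CommRing A] [Bialgebra k A]
variable {R : Type x} [CommRing R] [Algebra k R]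
variable {V : Type w} [AddCommGroup V] [Module k V] [HopfRep.Comod k A V]
variable {W : Type w'} [AddCommGroup W] [Module k W] [HopfRep.Comod k A W]

/-- The endomorphism of `R ⊗ V` given by a point with values in `R`. -/
noncomputable def ptEnd (g : A →ₐ[k] R) : Module.End R (R ⊗[k] V) :=
  ((LinearMap.ringLmapEquivSelf R k (V →ₗ[k] R ⊗[k] V)).symm
      ((TensorProduct.comm k V R).toLinearMap ∘ₗ g.toLinearMap.lTensor V ∘ₗ
        Comod.coact (k := k) (A := A)) |> fun f => TensorProduct.AlgebraTensorModule.lift f)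

theorem ptEnd_tmul (g : A →ₐ[k] R) (r : R) (v : V) :
    ptEnd g (r ⊗ₜ[k] v) =
      r • TensorProduct.comm k V R (g.toLinearMap.lTensor V (Comod.coact (k := k) (A := A) v)) := by
  simp [ptEnd]

theorem ptEnd_one_tmul (g : A →ₐ[k] R) (v : V) :
    ptEnd g (1 ⊗ₜ[k] v) =
      TensorProduct.comm k V R (g.toLinearMap.lTensor V (Comod.coact (k := k) (A := A) v)) := by
  rw [ptEnd_tmul, one_smul]

theorem ptEnd_convOne : (ptEnd (1 : WithConv (A →ₐ[k] R)).ofConv : Module.End R (R ⊗[k] V)) = 1 := by
  refine TensorProduct.AlgebraTensorModule.ext fun r v => ?_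
  rw [ptEnd_tmul, Module.End.one_apply]
  have h := LinearMap.congr_fun (Comod.counit_comp (k := k) (A := A) (V := V)) v
  simp only [LinearMap.comp_apply, LinearMap.flip_apply, TensorProduct.mk_apply] at h
  rw [show (1 : WithConv (A →ₐ[k] R)).ofConv.toLinearMap =
      Algebra.linearMap k R ∘ₗ Coalgebra.counit (R := k) (A := A) from rfl,
    LinearMap.lTensor_comp, LinearMap.comp_apply, h, LinearMap.lTensor_tmul]
  simp [TensorProduct.smul_tmul']

theorem ptEnd_convMul (g h : WithConv (A →ₐ[k] R)) :
    (ptEnd (g * h).ofConv : Module.End R (R ⊗[k] V)) = ptEnd g.ofConv * ptEnd h.ofConv := by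
  refine TensorProduct.AlgebraTensorModule.ext fun r v => ?_
  rw [Module.End.mul_apply]
  let F : V ⊗[k] (A ⊗[k] A) →ₗ[k] R ⊗[k] V :=
    (TensorProduct.comm k V R).toLinearMap ∘ₗ
      (LinearMap.mul' k R ∘ₗ TensorProduct.map g.ofConv.toLinearMap h.ofConv.toLinearMap).lTensor V
  have key : ∀ z : V ⊗[k] A,
      ptEnd g.ofConv (r • TensorProduct.comm k V R (h.ofConv.toLinearMap.lTensor V z)) =
        r • F (TensorProduct.assoc k V A A ((Comod.coact (k := k) (A := A)).rTensor A z)) := by
    intro z
    induction z using TensorProduct.induction_on with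
    | zero => simp
    | tmul a c =>
      rw [map_smul, LinearMap.lTensor_tmul, TensorProduct.comm_tmul, ptEnd_tmul, LinearMap.rTensor_tmul]
      congr 1
      generalize (Comod.coact (k := k) (A := A) a) = y
      induction y using TensorProduct.induction_on with
      | zero => simp
      | tmul a' c' => simp [F, TensorProduct.smul_tmul', mul_comm]
      | add p q hp hq => simp only [map_add, smul_add, TensorProduct.add_tmul, hp, hq]
    | add p q hp hq => simp only [map_add, smul_add, hp, hq]
  have hc := LinearMap.congr_fun (Comod.coassoc (k := k) (A := A) (V := V)) v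
  simp only [LinearMap.comp_apply, LinearEquiv.coe_coe] at hc
  rw [ptEnd_tmul (g := h.ofConv), key, hc, ptEnd_tmul]
  congr 1
  simp only [F, LinearMap.comp_apply, LinearEquiv.coe_coe]
  rw [← LinearMap.comp_apply (LinearMap.lTensor V _) (LinearMap.lTensor V _), ← LinearMap.lTensor_comp]
  congr 3

/-- Naturality of the action in the ring of values. -/
theorem ptEnd_naturality {R' : Type*} [CommRing R'] [Algebra k R'] (f : R →ₐ[k] R') (g : A →ₐ[k] R)
    (z : R ⊗[k] V) :
    f.toLinearMap.rTensor V (ptEnd g z) = ptEnd (f.comp g) (f.toLinearMap.rTensor V z) := by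
  induction z using TensorProduct.induction_on with
  | zero => simp
  | tmul r v =>
    rw [LinearMap.rTensor_tmul, ptEnd_tmul, ptEnd_tmul]
    generalize (Comod.coact (k := k) (A := A) v) = y
    induction y using TensorProduct.induction_on with
    | zero => simp
    | tmul a c => simp [TensorProduct.smul_tmul']
    | add p q hp hq => simp only [map_add, smul_add, hp, hq]
  | add p q hp hq => simp only [map_add, hp, hq]

theorem ptEnd_baseChange {f : V →ₗ[k] W} (hf : Hoch.IsComodHom A f) (g : A →ₐ[k] R) (z : R ⊗[k] V) :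
    f.baseChange R (ptEnd g z) = ptEnd g (f.baseChange R z) := by
  induction z using TensorProduct.induction_on with
  | zero => simp
  | tmul r v =>
    rw [LinearMap.baseChange_tmul, ptEnd_tmul, ptEnd_tmul]
    have h := LinearMap.congr_fun hf v
    simp only [LinearMap.comp_apply] at h
    rw [h, map_smul]
    congr 1
    generalize (Comod.coact (k := k) (A := A) v) = y
    induction y using TensorProduct.induction_on with
    | zero => simp
    | tmul a c => simp
    | add p q hp hq => simp only [map_add, hp, hq]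
  | add p q hp hq => simp only [map_add, hp, hq]

theorem ptEnd_id_one_tmul (v : V) :
    ptEnd (AlgHom.id k A) ((1 : A) ⊗ₜ[k] v) = TensorProduct.comm k V A (Comod.coact (k := k) (A := A) v) := by
  rw [ptEnd_one_tmul, AlgHom.toLinearMap_id, LinearMap.lTensor_id]
  rfl

end Pt

section Average

variable {k : Type u} [CommRing k] {A : Type v} [CommRing A] [HopfAlgebra k A]
variable {V : Type w} [AddCommGroup V] [Module k V] [HopfRep.Comod k A V]
variable {U : Type w'} [AddCommGroup U] [Module k U] [HopfRep.Comod k A U]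

/-- Conjugate of a linear map by the universal point. -/
noncomputable def conjUniv (p : V →ₗ[k] U) : V →ₗ[k] A ⊗[k] U :=
  ((ptEnd ((toConv (AlgHom.id k A))⁻¹).ofConv ∘ₗ p.baseChange A ∘ₗ
    ptEnd (AlgHom.id k A)).restrictScalars k) ∘ₗ TensorProduct.mk k A V 1

/-- The average of a linear map against a linear form on the Hopf algebra. -/
noncomputable def average (α : A →ₗ[k] k) (p : V →ₗ[k] U) : V →ₗ[k] U :=
  (TensorProduct.lid k U).toLinearMap ∘ₗ α.rTensor U ∘ₗ conjUniv p

/-- Averaging fixes the identity on a direct summand. -/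
theorem average_comp_of_section {α : A →ₗ[k] k} (h1 : α 1 = 1) {p : V →ₗ[k] U} {j : U →ₗ[k] V}
    (hj : Hoch.IsComodHom A j) (hpj : p ∘ₗ j = LinearMap.id) : average α p ∘ₗ j = LinearMap.id := by
  ext u
  have e1 : ptEnd (AlgHom.id k A) ((1 : A) ⊗ₜ[k] j u) =
      j.baseChange A (ptEnd (AlgHom.id k A) ((1 : A) ⊗ₜ[k] u)) := by
    rw [ptEnd_baseChange hj, LinearMap.baseChange_tmul]
  have e2 : ∀ z : A ⊗[k] U, p.baseChange A (j.baseChange A z) = z := fun z => by
    rw [← LinearMap.comp_apply, ← LinearMap.baseChange_comp, hpj, LinearMap.baseChange_id, LinearMap.id_apply]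
  have e3 : ptEnd ((toConv (AlgHom.id k A))⁻¹).ofConv (ptEnd (AlgHom.id k A) ((1 : A) ⊗ₜ[k] u)) =
      (1 : A) ⊗ₜ[k] u := by
    rw [← Module.End.mul_apply, show AlgHom.id k A = (toConv (AlgHom.id k A)).ofConv from rfl,
      ← ptEnd_convMul, ofConv_toConv, inv_mul_cancel, ptEnd_convOne, Module.End.one_apply]
  simp only [average, conjUniv, LinearMap.comp_apply, LinearMap.coe_restrictScalars, TensorProduct.mk_apply,
    e1, e2, e3, LinearMap.rTensor_tmul, h1, LinearEquiv.coe_coe, TensorProduct.lid_tmul, one_smul,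
    LinearMap.id_apply]

/-- The average against an invariant integral commutes with the coactions. -/
theorem isComodHom_average {α : A →ₗ[k] k}
    (hα : ∀ a : A, α.rTensor A (Coalgebra.comul (R := k) a) = α a ⊗ₜ[k] (1 : A)) (p : V →ₗ[k] U) :
    Hoch.IsComodHom A (average α p) := by
  ext v
  apply (TensorProduct.comm k U A).injective
  let iL : A →ₐ[k] A ⊗[k] A := Algebra.TensorProduct.includeLeft
  let iR : A →ₐ[k] A ⊗[k] A := Algebra.TensorProduct.includeRight
  let δ : A →ₐ[k] A ⊗[k] A := Bialgebra.comulAlgHom k A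
  have hδ : toConv iL * toConv iR = toConv δ := by
    apply WithConv.ext
    ext a
    rw [AlgHom.convMul_apply]
    show _ = Coalgebra.comul (R := k) a
    generalize Coalgebra.comul (R := k) a = y
    induction y using TensorProduct.induction_on with
    | zero => simp
    | tmul a' c' => simp [iL, iR]
    | add p q hp hq => simp only [map_add, hp, hq]
  let q : A ⊗[k] A →ₗ[k] A := (TensorProduct.lid k A).toLinearMap ∘ₗ α.rTensor A
  have hqR : ∀ (b : A) (y : A ⊗[k] A), q (iR b * y) = b * q y := by
    intro b y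
    induction y using TensorProduct.induction_on with
    | zero => simp
    | tmul a c => simp [q, iR]
    | add p r hp hr => simp only [mul_add, map_add, hp, hr]
  have hqδ : ∀ a, q (δ a) = α a • (1 : A) := fun a => by
    show TensorProduct.lid k A (α.rTensor A (Coalgebra.comul (R := k) a)) = _
    rw [hα, TensorProduct.lid_tmul]
  let Q : (A ⊗[k] A) ⊗[k] U →ₗ[k] A ⊗[k] U := q.rTensor U
  have hQsmul : ∀ (b : A) (y : (A ⊗[k] A) ⊗[k] U), Q (iR b • y) = b • Q y := by
    intro b y
    induction y using TensorProduct.induction_on with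
    | zero => simp
    | tmul a c => simp [Q, TensorProduct.smul_tmul', hqR]
    | add p r hp hr => simp only [smul_add, map_add, hp, hr]
  have hQh : ∀ y : (A ⊗[k] A) ⊗[k] U, Q (ptEnd iR y) = ptEnd (AlgHom.id k A) (Q y) := by
    intro y
    induction y using TensorProduct.induction_on with
    | zero => simp
    | tmul a c =>
      rw [show Q (a ⊗ₜ[k] c) = q a ⊗ₜ[k] c from rfl, ptEnd_tmul, ptEnd_tmul]
      generalize (Comod.coact (k := k) (A := A) c) = z
      induction z using TensorProduct.induction_on with
      | zero => simp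
      | tmul c' b =>
        simp only [LinearMap.lTensor_tmul, TensorProduct.comm_tmul, TensorProduct.smul_tmul', smul_eq_mul, Q,
          LinearMap.rTensor_tmul, AlgHom.toLinearMap_apply, AlgHom.id_apply]
        rw [mul_comm a, hqR, mul_comm b]
      | add p r hp hr => simp only [map_add, smul_add, hp, hr]
    | add p r hp hr => simp only [map_add, hp, hr]
  have hQP : ∀ x : A ⊗[k] U, Q (δ.toLinearMap.rTensor U x) =
      (1 : A) ⊗ₜ[k] TensorProduct.lid k U (α.rTensor U x) := by
    intro x
    induction x using TensorProduct.induction_on with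
    | zero => simp
    | tmul a c => simp [Q, hqδ, TensorProduct.smul_tmul]
    | add p r hp hr => simp only [map_add, TensorProduct.tmul_add, hp, hr]
  have hQL : ∀ x : A ⊗[k] U, Q (iL.toLinearMap.rTensor U x) =
      (1 : A) ⊗ₜ[k] TensorProduct.lid k U (α.rTensor U x) := by
    intro x
    induction x using TensorProduct.induction_on with
    | zero => simp
    | tmul a c => simp [Q, q, iL, TensorProduct.smul_tmul]
    | add p r hp hr => simp only [map_add, TensorProduct.tmul_add, hp, hr]
  -- conjugates at the points `g`, `h` and `g h`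
  let pB := p.baseChange (A ⊗[k] A)
  let G : Module.End (A ⊗[k] A) ((A ⊗[k] A) ⊗[k] V) := ptEnd iL
  have hnat : ∀ (f : A →ₐ[k] A ⊗[k] A) (w : V), f.toLinearMap.rTensor U (conjUniv p w) =
      ptEnd ((toConv f)⁻¹).ofConv (pB (ptEnd f (1 ⊗ₜ[k] w))) := by
    intro f w
    simp only [conjUniv, LinearMap.comp_apply, LinearMap.coe_restrictScalars, TensorProduct.mk_apply]
    rw [ptEnd_naturality]
    have hinv : f.comp ((toConv (AlgHom.id k A))⁻¹).ofConv = ((toConv f)⁻¹).ofConv := rfl
    rw [hinv]
    congr 1
    have hp : ∀ z : A ⊗[k] V, f.toLinearMap.rTensor U (p.baseChange A z) = pB (f.toLinearMap.rTensor V z) := by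
      intro z
      induction z using TensorProduct.induction_on with
      | zero => simp
      | tmul a c => simp [pB]
      | add p r hp hr => simp only [map_add, hp, hr]
    rw [hp, ptEnd_naturality, LinearMap.rTensor_tmul]
    simp
  have main : ptEnd iR (δ.toLinearMap.rTensor U (conjUniv p v)) =
      ptEnd ((toConv iL)⁻¹).ofConv (pB (G (ptEnd iR (1 ⊗ₜ[k] v)))) := by
    have hinv : (toConv iL * toConv iR)⁻¹ = (toConv iR)⁻¹ * (toConv iL)⁻¹ := mul_inv_rev (G := WithConv (A →ₐ[k] A ⊗[k] A)) (toConv iL) (toConv iR)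
    have hcan : (ptEnd iR * ptEnd ((toConv iR)⁻¹).ofConv : Module.End (A ⊗[k] A) ((A ⊗[k] A) ⊗[k] U)) = 1 := by
      rw [show ptEnd iR = (ptEnd (toConv iR).ofConv : Module.End (A ⊗[k] A) ((A ⊗[k] A) ⊗[k] U)) from rfl,
        ← ptEnd_convMul, show toConv iR * (toConv iR)⁻¹ = 1 from mul_inv_cancel (G := WithConv (A →ₐ[k] A ⊗[k] A)) (toConv iR), ptEnd_convOne]
    have hgh : ptEnd δ = (ptEnd iL * ptEnd iR : Module.End (A ⊗[k] A) ((A ⊗[k] A) ⊗[k] V)) := by
      rw [← ofConv_toConv δ, ← hδ, ptEnd_convMul]
    rw [hnat, ← hδ, hinv, ptEnd_convMul, hgh, Module.End.mul_apply, Module.End.mul_apply,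
      ← Module.End.mul_apply (ptEnd iR), hcan, Module.End.one_apply]
  have h := congrArg Q main
  rw [hQh, hQP] at h
  simp only [LinearMap.comp_apply]
  rw [← ptEnd_id_one_tmul]
  refine h.trans ?_
  rw [ptEnd_one_tmul]
  generalize (Comod.coact (k := k) (A := A) v) = z
  induction z using TensorProduct.induction_on with
  | zero => simp
  | tmul w b =>
    have hsm : (iR b ⊗ₜ[k] w : (A ⊗[k] A) ⊗[k] V) = iR b • ((1 : A ⊗[k] A) ⊗ₜ[k] w) := by
      rw [TensorProduct.smul_tmul', smul_eq_mul, mul_one]
    rw [LinearMap.lTensor_tmul, TensorProduct.comm_tmul, AlgHom.toLinearMap_apply, hsm,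
      map_smul, map_smul, map_smul, hQsmul, ← hnat, hQL, TensorProduct.smul_tmul', smul_eq_mul, mul_one]
    rfl
  | add p r hp hr => simp only [map_add, hp, hr]

end Average

end Groth.Agent.ComodLib
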