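import Groth.Agent.ComodLib.Coalg
import Mathlib.RingTheory.Coalgebra.Convolution
import Mathlib.RingTheory.HopfAlgebra.GroupLike
import Mathlib.RingTheory.Artinian.Module
import Mathlib.RingTheory.Ideal.IdempotentFG
import Mathlib.FieldTheory.IsSepClosed
import Mathlib.RingTheory.Unramified.Field
import Mathlib.RingTheory.Kaehler.Basic
import Mathlib.RingTheory.Flat.Basic
import Mathlib.RingTheory.HopfAlgebra.TensorProduct

/-!
# A cocommutative Hopf algebra without primitives over an algebraically closed field is spanned by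
group-like elements
-/

universe u v v' w

open TensorProduct WithConv

namespace Groth.Agent.ComodLib.PrimDiag

variable {k : Type u} [Field k]

theorem dual_tensor_ext {M : Type v} [AddCommGroup M] [Module k M] {z w : M ⊗[k] M}
    (h : ∀ φ ψ : M →ₗ[k] k, LinearMap.mul' k k (TensorProduct.map φ ψ z) = LinearMap.mul' k k (TensorProduct.map φ ψ w)) :
    z = w := by
  classical
  let b := Module.Free.chooseBasis k M
  refine (b.tensorProduct b).ext_elem fun ⟨i, j⟩ => ?_
  have e : ∀ y : M ⊗[k] M, (b.tensorProduct b).repr y (i, j) =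
      LinearMap.mul' k k (TensorProduct.map (b.coord i) (b.coord j) y) := fun y => by
    induction y using TensorProduct.induction_on with
    | zero => simp
    | add p q hp hq => simp only [map_add, Finsupp.add_apply, hp, hq]
    | tmul p q => simp [Module.Basis.tensorProduct_repr_tmul_apply, mul_comm]
  rw [e, e, h]

variable {A : Type v} [CommRing A] [HopfAlgebra k A] [Coalgebra.IsCocomm k A]

/-- Functionals vanishing on a subcoalgebra form an ideal of the convolution algebra. -/
noncomputable def annIdeal (C : Submodule k A) (hC : IsSubcoalg k A C) : Ideal (WithConv (A →ₗ[k] k)) where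
  carrier := {φ | ∀ c ∈ C, φ.ofConv c = 0}
  add_mem' := fun {a b} ha hb c hc => by
    show (a + b).ofConv c = 0
    simp [ha c hc, hb c hc]
  zero_mem' := fun c _ => rfl
  smul_mem' := fun φ ψ hψ c hc => by
    obtain ⟨z, hz⟩ := hC c hc
    show (φ * ψ).ofConv c = 0
    rw [LinearMap.convMul_apply, ← hz]
    clear hz
    induction z using TensorProduct.induction_on with
    | zero => simp
    | add p q hp hq => simp only [map_add, hp, hq, add_zero]
    | tmul p q => simp [hψ q q.2]

variable (k A) in
/-- No nonzero primitive elements. -/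
def NoPrim : Prop :=
  ∀ f : A, CoalgebraStruct.comul (R := k) f = f ⊗ₜ[k] (1 : A) + (1 : A) ⊗ₜ[k] f → f = 0

section Residue

variable {L : Type w} [Field L] [Algebra k L]

/-- `(φ * ψ)` after base change. -/
theorem mul'_map_comul_baseChange (φ ψ : A →ₗ[k] k) (z : L ⊗[k] A) :
    LinearMap.mul' L L (TensorProduct.map ((TensorProduct.AlgebraTensorModule.rid k L L).toLinearMap ∘ₗ φ.baseChange L)
      ((TensorProduct.AlgebraTensorModule.rid k L L).toLinearMap ∘ₗ ψ.baseChange L) (Coalgebra.comul (R := L) z)) =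
    TensorProduct.AlgebraTensorModule.rid k L L ((toConv φ * toConv ψ).ofConv.baseChange L z) := by
  induction z using TensorProduct.induction_on with
  | zero => simp
  | add u w hu hw => simp only [map_add, hu, hw]
  | tmul r a =>
    rw [TensorProduct.comul_tmul, LinearMap.baseChange_tmul, LinearMap.convMul_apply,
      show CoalgebraStruct.comul (R := L) r = (1 : L) ⊗ₜ[L] r by simp]
    induction CoalgebraStruct.comul (R := k) a using TensorProduct.induction_on with
    | zero => simp
    | tmul u w => simp [Algebra.smul_def]; ring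
    | add u w hu hw => simp only [TensorProduct.tmul_add, map_add, hu, hw]

/-- `defect` commutes with base change: no primitives after extension. -/
theorem noPrim_baseChange_field (hA : NoPrim k A) : NoPrim L (L ⊗[k] A) := by
  classical
  intro z hz
  let b := Module.Basis.ofVectorSpace k L
  let e := TensorProduct.equivFinsuppOfBasisLeft (N := A) b
  apply e.injective
  ext i
  rw [map_zero, Finsupp.zero_apply]
  refine hA _ (dual_tensor_ext fun φ ψ => ?_)
  have hc : ∀ (θ : A →ₗ[k] k) (y : L ⊗[k] A),
      b.repr (TensorProduct.AlgebraTensorModule.rid k L L (θ.baseChange L y)) i = θ (e y i) := fun θ y => by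
    induction y using TensorProduct.induction_on with
    | zero => simp
    | add u w hu hw => simp only [map_add, Finsupp.add_apply, hu, hw]
    | tmul r a => simp [e, mul_comm]
  have h1 : (toConv φ * toConv ψ).ofConv (e z i) = φ (e z i) * ψ 1 + φ 1 * ψ (e z i) := by
    have h2 := mul'_map_comul_baseChange φ ψ z
    rw [hz, map_add, map_add, TensorProduct.map_tmul, TensorProduct.map_tmul, LinearMap.mul'_apply,
      LinearMap.mul'_apply] at h2
    rw [← hc, ← h2, ← hc, ← hc]
    simp only [LinearMap.comp_apply, LinearEquiv.coe_coe, Algebra.TensorProduct.one_def,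
      LinearMap.baseChange_tmul, TensorProduct.AlgebraTensorModule.rid_tmul]
    rw [mul_smul_comm, smul_mul_assoc, _root_.mul_one, _root_.one_mul]
    simp [mul_comm]
  refine Eq.trans h1 ?_
  simp

end Residue

section

variable {Q : Type v'} [CommRing Q] [Algebra k Q] [Module.Finite k Q]

/-- The residue fields of the dual algebra are trivial. -/
theorem residue_surjective [IsSepClosed k] (hA : NoPrim k A) (π : WithConv (A →ₗ[k] k) →ₐ[k] Q)
    (hπ : Function.Surjective π) (E : Module.Dual k Q →ₗ[k] A)
    (hE : ∀ (φ : WithConv (A →ₗ[k] k)) (f : Module.Dual k Q), φ.ofConv (E f) = f (π φ))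
    {L : Type w} [Field L] [Algebra k L] [Module.Finite k L] (χ : Q →ₐ[k] L) (hχ : Function.Surjective χ) :
    Function.Surjective (algebraMap k L) := by
  classical
  let b := Module.finBasis k L
  let Θ : (Q →ₗ[k] L) → L ⊗[k] A := fun f => ∑ i, b i ⊗ₜ[k] E (b.coord i ∘ₗ f)
  have hP : ∀ (φ : A →ₗ[k] k) (f : Q →ₗ[k] L),
      TensorProduct.AlgebraTensorModule.rid k L L (φ.baseChange L (Θ f)) = f (π (toConv φ)) := fun φ f => by
    simp only [Θ, map_sum, LinearMap.baseChange_tmul, TensorProduct.AlgebraTensorModule.rid_tmul]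
    conv_rhs => rw [← b.sum_repr (f (π (toConv φ)))]
    exact Finset.sum_congr rfl fun i _ => congrArg (· • b i) (hE (toConv φ) _)
  let bA := Algebra.TensorProduct.basis L (Module.Free.chooseBasis k A)
  have hext : ∀ {z w : (L ⊗[k] A) ⊗[L] (L ⊗[k] A)}, (∀ φ ψ : A →ₗ[k] k,
      LinearMap.mul' L L (TensorProduct.map ((TensorProduct.AlgebraTensorModule.rid k L L).toLinearMap ∘ₗ φ.baseChange L)
        ((TensorProduct.AlgebraTensorModule.rid k L L).toLinearMap ∘ₗ ψ.baseChange L) z) =
      LinearMap.mul' L L (TensorProduct.map ((TensorProduct.AlgebraTensorModule.rid k L L).toLinearMap ∘ₗ φ.baseChange L)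
        ((TensorProduct.AlgebraTensorModule.rid k L L).toLinearMap ∘ₗ ψ.baseChange L) w)) → z = w := fun {z w} h => by
    refine (bA.tensorProduct bA).ext_elem fun ⟨i, j⟩ => ?_
    have e : ∀ y, (bA.tensorProduct bA).repr y (i, j) =
        LinearMap.mul' L L (TensorProduct.map
          ((TensorProduct.AlgebraTensorModule.rid k L L).toLinearMap ∘ₗ ((Module.Free.chooseBasis k A).coord i).baseChange L)
          ((TensorProduct.AlgebraTensorModule.rid k L L).toLinearMap ∘ₗ ((Module.Free.chooseBasis k A).coord j).baseChange L) y) := by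
      intro y
      induction y using TensorProduct.induction_on with
      | zero => simp
      | add p q hp hq => simp only [map_add, Finsupp.add_apply, hp, hq]
      | tmul p q =>
        have e1 : ∀ (i) (p : L ⊗[k] A), bA.repr p i =
            TensorProduct.AlgebraTensorModule.rid k L L (((Module.Free.chooseBasis k A).coord i).baseChange L p) := by
          intro i p
          induction p using TensorProduct.induction_on with
          | zero => simp
          | add p q hp hq => simp only [map_add, Finsupp.add_apply, hp, hq]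
          | tmul r a => simp [bA, Algebra.smul_def, mul_comm]
        simp [e1, mul_comm]
    rw [e, e, h]
  have hcomulΘ : ∀ (f : Q →ₗ[k] L) (φ ψ : A →ₗ[k] k),
      LinearMap.mul' L L (TensorProduct.map ((TensorProduct.AlgebraTensorModule.rid k L L).toLinearMap ∘ₗ φ.baseChange L)
        ((TensorProduct.AlgebraTensorModule.rid k L L).toLinearMap ∘ₗ ψ.baseChange L) (Coalgebra.comul (R := L) (Θ f))) =
        f (π (toConv φ) * π (toConv ψ)) := fun f φ ψ => by
    rw [mul'_map_comul_baseChange, hP, ← map_mul]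
  let γ := Θ χ.toLinearMap
  have hγ : IsGroupLikeElem L γ := by
    refine ⟨?_, hext fun φ ψ => ?_⟩
    · have h1 : ∀ y : L ⊗[k] A, Coalgebra.counit (R := L) y =
          TensorProduct.AlgebraTensorModule.rid k L L ((Coalgebra.counit (R := k) (A := A)).baseChange L y) := fun y => by
        induction y using TensorProduct.induction_on with
        | zero => simp
        | add p q hp hq => simp only [map_add, hp, hq]
        | tmul r a => simp
      rw [h1, hP]
      exact (congrArg χ (map_one π)).trans (map_one χ)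
    · rw [hcomulΘ, TensorProduct.map_tmul, LinearMap.mul'_apply]
      simp [γ, hP]
  have hD : ∀ d : Derivation k L L, d = 0 := by
    intro d
    let δ := Θ ((d : L →ₗ[k] L) ∘ₗ χ.toLinearMap)
    have hδ : Coalgebra.comul (R := L) δ = δ ⊗ₜ[L] γ + γ ⊗ₜ[L] δ := hext fun φ ψ => by
      rw [hcomulΘ, map_add, map_add, TensorProduct.map_tmul, TensorProduct.map_tmul, LinearMap.mul'_apply,
        LinearMap.mul'_apply]
      simp only [δ, γ, LinearMap.comp_apply, LinearEquiv.coe_coe, hP, AlgHom.toLinearMap_apply,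
        Derivation.coeFn_coe, map_mul, Derivation.leibniz, smul_eq_mul]
      ring
    have hprim := noPrim_baseChange_field (L := L) hA (δ * HopfAlgebra.antipode L γ) (by
      rw [Bialgebra.comul_mul, hδ, hγ.antipode.comul_eq_tmul_self, add_mul,
        Algebra.TensorProduct.tmul_mul_tmul, Algebra.TensorProduct.tmul_mul_tmul, hγ.mul_antipode_cancel])
    have h0 : δ = 0 := by
      have := congrArg (· * γ) hprim
      simp only [zero_mul, mul_assoc] at this
      rwa [hγ.antipode_mul_cancel, _root_.mul_one] at this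
    ext x
    obtain ⟨y, rfl⟩ := hχ x
    obtain ⟨φ, rfl⟩ := hπ y
    have := hP φ.ofConv ((d : L →ₗ[k] L) ∘ₗ χ.toLinearMap)
    rw [show Θ ((d : L →ₗ[k] L) ∘ₗ χ.toLinearMap) = 0 from h0, map_zero, map_zero] at this
    exact this.symm
  haveI : Algebra.FormallyUnramified k L := by
    refine ⟨subsingleton_of_forall_eq 0 fun ω => ?_⟩
    refine (Module.forall_dual_apply_eq_zero_iff L ω).mp fun g => ?_
    have h1 := hD (g.compDer (KaehlerDifferential.D k L))
    have h2 : g = 0 := by
      refine Derivation.liftKaehlerDifferential_unique g 0 ?_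
      rw [h1]
      ext
      rfl
    rw [h2, LinearMap.zero_apply]
  haveI : Algebra.IsSeparable k L := Algebra.FormallyUnramified.isSeparable k L
  exact IsSepClosed.algebraMap_surjective k L

set_option maxHeartbeats 1000000 in
theorem span_algHom_eq_top [IsSepClosed k] (hA : NoPrim k A) (π : WithConv (A →ₗ[k] k) →ₐ[k] Q) (hπ : Function.Surjective π)
    (E : Module.Dual k Q →ₗ[k] A)
    (hE : ∀ (φ : WithConv (A →ₗ[k] k)) (f : Module.Dual k Q), φ.ofConv (E f) = f (π φ)) :
    Submodule.span k (Set.range fun χ : Q →ₐ[k] k => E χ.toLinearMap) = LinearMap.range E ∧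
      ∀ χ : Q →ₐ[k] k, IsGroupLikeElem k (E χ.toLinearMap) := by
  classical
  haveI : IsArtinianRing Q := IsArtinianRing.of_finite k _
  let D := WithConv (A →ₗ[k] k)
  have hext : ∀ {a b : A}, (∀ φ : D, φ.ofConv a = φ.ofConv b) → a = b := fun {a b} h => by
    rw [← sub_eq_zero, ← Module.forall_dual_apply_eq_zero_iff k]
    intro φ
    rw [map_sub, sub_eq_zero]
    exact h (toConv φ)
  have hmul : ∀ (φ ψ : D) (f : Module.Dual k Q),
      LinearMap.mul' k k (TensorProduct.map φ.ofConv ψ.ofConv (Coalgebra.comul (R := k) (E f))) = f (π φ * π ψ) :=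
    fun φ ψ f => by rw [← map_mul, ← hE]; rfl
  have hcounit : ∀ f : Module.Dual k Q, Coalgebra.counit (R := k) (E f) = f 1 := fun f => by
    rw [← map_one π, ← hE]
    rfl
  have hgl : ∀ χ : Q →ₐ[k] k, IsGroupLikeElem k (E χ.toLinearMap) := fun χ => by
    refine ⟨?_, dual_tensor_ext fun φ ψ => ?_⟩
    · rw [hcounit]
      exact map_one χ
    · refine (hmul (toConv φ) (toConv ψ) _).trans ?_
      rw [TensorProduct.map_tmul, LinearMap.mul'_apply]
      show χ _ = _
      rw [map_mul]
      exact congrArg₂ (· * ·) (hE (toConv φ) χ.toLinearMap).symm (hE (toConv ψ) χ.toLinearMap).symm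
  have hpt : ∀ m : Ideal Q, m.IsMaximal → ∃ χ : Q →ₐ[k] k, ∀ z, z ∈ m ↔ χ z = 0 := by
    intro m hm
    letI := Ideal.Quotient.field m
    haveI : Module.Finite k (Q ⧸ m) :=
      Module.Finite.of_surjective (Ideal.Quotient.mkₐ k m).toLinearMap (Ideal.Quotient.mkₐ_surjective k m)
    let e : k ≃ₐ[k] Q ⧸ m := AlgEquiv.ofBijective (Algebra.ofId k _)
      ⟨(algebraMap k _).injective, residue_surjective hA π hπ E hE (Ideal.Quotient.mkₐ k m)
        (Ideal.Quotient.mkₐ_surjective k m)⟩
    refine ⟨e.symm.toAlgHom.comp (Ideal.Quotient.mkₐ k m), fun z => ?_⟩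
    show _ ↔ e.symm (Ideal.Quotient.mk m z) = 0
    rw [EmbeddingLike.map_eq_zero_iff, Ideal.Quotient.eq_zero_iff_mem]
  have hidem : ∀ m : Ideal Q, m.IsMaximal → IsIdempotentElem m := by
    intro m hm
    by_contra hne
    obtain ⟨y, hym, hy⟩ : ∃ y ∈ m, y ∉ m * m :=
      SetLike.not_le_iff_exists.mp fun h => hne (le_antisymm Ideal.mul_le_right h)
    obtain ⟨χ, hχ⟩ := hpt m hm
    have hy' : y ∉ Submodule.span k {(1 : Q)} ⊔ (m * m).restrictScalars k := by
      intro hmem
      obtain ⟨b, hb, c, hc, rfl⟩ := Submodule.mem_sup.mp hmem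
      obtain ⟨r, rfl⟩ := Submodule.mem_span_singleton.mp hb
      replace hc : c ∈ m * m := hc
      have h0 := (hχ _).mp hym
      rw [map_add, map_smul, map_one, (hχ _).mp (Ideal.mul_le_right hc), add_zero, smul_eq_mul, _root_.mul_one] at h0
      rw [h0, zero_smul, zero_add] at hy
      exact hy hc
    obtain ⟨f, hfy, hf⟩ := Submodule.exists_dual_map_eq_bot_of_notMem hy' inferInstance
    have hf' : ∀ w ∈ Submodule.span k {(1 : Q)} ⊔ (m * m).restrictScalars k, f w = 0 := fun w hw => by
      have : f w ∈ (⊥ : Submodule k k) := hf ▸ ⟨w, hw, rfl⟩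
      simpa using this
    have hder : ∀ a b : Q, f (a * b) = f a * χ b + χ a * f b := by
      intro a b
      have hmem : (a - χ a • 1) * (b - χ b • 1) ∈ m * m :=
        Ideal.mul_mem_mul ((hχ _).mpr (by simp)) ((hχ _).mpr (by simp))
      have h := hf' _ (Submodule.mem_sup_right hmem)
      rw [show (a - χ a • (1 : Q)) * (b - χ b • 1) = a * b - χ a • b - χ b • a + (χ a * χ b) • 1 by
        simp only [Algebra.smul_def, map_mul]; ring] at h
      simp only [map_add, map_sub, map_smul, hf' 1 (Submodule.mem_sup_left (Submodule.mem_span_singleton_self 1)),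
        smul_eq_mul, mul_zero, add_zero] at h
      linear_combination h
    let h := E f
    let g := E χ.toLinearMap
    have hh : Coalgebra.comul (R := k) h = h ⊗ₜ[k] g + g ⊗ₜ[k] h := dual_tensor_ext fun φ ψ => by
      refine (hmul (toConv φ) (toConv ψ) f).trans ?_
      rw [hder, map_add, map_add, TensorProduct.map_tmul, TensorProduct.map_tmul, LinearMap.mul'_apply,
        LinearMap.mul'_apply]
      exact congrArg₂ (· + ·)
        (congrArg₂ (· * ·) (hE (toConv φ) f).symm (hE (toConv ψ) χ.toLinearMap).symm)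
        (congrArg₂ (· * ·) (hE (toConv φ) χ.toLinearMap).symm (hE (toConv ψ) f).symm)
    have hprim := hA (h * HopfAlgebra.antipode k g) (by
      rw [Bialgebra.comul_mul, hh, (hgl χ).antipode.comul_eq_tmul_self, add_mul,
        Algebra.TensorProduct.tmul_mul_tmul, Algebra.TensorProduct.tmul_mul_tmul, (hgl χ).mul_antipode_cancel])
    have h0 : h = 0 := by
      have := congrArg (· * g) hprim
      simp only [zero_mul, mul_assoc] at this
      rwa [(hgl χ).antipode_mul_cancel, _root_.mul_one] at this
    obtain ⟨φ, rfl⟩ := hπ y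
    refine hfy ?_
    rw [← hE φ f, show E f = 0 from h0, map_zero]
  have hred : ∀ z : Q, (∀ χ : Q →ₐ[k] k, χ z = 0) → z = 0 := by
    intro z hz
    by_contra hz0
    obtain ⟨m, hm, hle⟩ := Ideal.exists_le_maximal (LinearMap.ker (LinearMap.toSpanSingleton Q Q z))
      (fun h => hz0 (by
        have h1 : (1 : Q) ∈ LinearMap.ker (LinearMap.toSpanSingleton Q Q z) := h ▸ Submodule.mem_top
        simpa using h1))
    obtain ⟨e, he, hme⟩ := (Ideal.isIdempotentElem_iff_of_fg m (IsNoetherian.noetherian m)).mp (hidem m hm)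
    obtain ⟨χ, hχ⟩ := hpt m hm
    have hzm : z ∈ m := (hχ z).mpr (hz χ)
    rw [hme, Submodule.mem_span_singleton] at hzm
    obtain ⟨r, rfl⟩ := hzm
    have hem : e ∈ m := hme ▸ Submodule.mem_span_singleton_self e
    have h1 : 1 - e ∈ m := hle (by
      rw [LinearMap.mem_ker, LinearMap.toSpanSingleton_apply, smul_eq_mul, smul_eq_mul, sub_mul, _root_.one_mul,
        mul_left_comm, he.eq, sub_self])
    exact hm.ne_top ((Ideal.eq_top_iff_one m).mpr (by simpa using add_mem h1 hem))
  have hspan : Submodule.span k (Set.range fun χ : Q →ₐ[k] k => χ.toLinearMap) = ⊤ := by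
    refine Submodule.span_eq_top_of_ne_zero fun z hz => ?_
    by_contra hcon
    push Not at hcon
    exact hz (hred z fun χ => hcon _ ⟨χ, rfl⟩)
  refine ⟨?_, hgl⟩
  rw [← Submodule.map_top, ← hspan, Submodule.map_span, ← Set.range_comp]
  rfl

end

theorem le_span_groupLike_aux [IsSepClosed k] (hA : NoPrim k A) (C : Submodule k A) [Module.Finite k C]
    {Q : Type v'} [CommRing Q] [Algebra k Q] (π : WithConv (A →ₗ[k] k) →ₐ[k] Q) (hπ : Function.Surjective π)
    (hker : ∀ φ, π φ = 0 ↔ ∀ c ∈ C, φ.ofConv c = 0) :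
    C ≤ Submodule.span k {a : A | IsGroupLikeElem k a} := by
  let D := WithConv (A →ₗ[k] k)
  obtain ⟨P, hP⟩ := C.subtype.exists_leftInverse_of_injective C.ker_subtype
  have hP' : ∀ c : C, P c = c := fun c => LinearMap.congr_fun hP c
  let q : Module.Dual k C →ₗ[k] Q :=
    { toFun := fun g => π (toConv (g ∘ₗ P))
      map_add' := fun g g' => by rw [← map_add]; rfl
      map_smul' := fun r g => by rw [RingHom.id_apply, ← map_smul]; rfl }
  have hq : ∀ φ : D, q (φ.ofConv ∘ₗ C.subtype) = π φ := fun φ => by
    rw [← sub_eq_zero]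
    show π _ - π φ = 0
    rw [← map_sub, hker]
    intro c hc
    show φ.ofConv (C.subtype (P c)) - φ.ofConv c = 0
    rw [show P c = ⟨c, hc⟩ from hP' ⟨c, hc⟩]
    exact sub_self _
  have : Module.Finite k Q := Module.Finite.of_surjective q fun z => by
    obtain ⟨φ, rfl⟩ := hπ z
    exact ⟨_, hq φ⟩
  let E : Module.Dual k Q →ₗ[k] A :=
    C.subtype ∘ₗ (Module.evalEquiv k C).symm.toLinearMap ∘ₗ q.dualMap
  have hE : ∀ (φ : D) (f : Module.Dual k Q), φ.ofConv (E f) = f (π φ) := fun φ f => by
    rw [← hq φ]
    show (φ.ofConv ∘ₗ C.subtype) ((Module.evalEquiv k C).symm (q.dualMap f)) = _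
    rw [Module.apply_evalEquiv_symm_apply]
    rfl
  obtain ⟨hspan, hgl⟩ := span_algHom_eq_top hA π hπ E hE
  have hle : LinearMap.range E ≤ Submodule.span k {a : A | IsGroupLikeElem k a} := by
    rw [← hspan, Submodule.span_le]
    rintro _ ⟨χ, rfl⟩
    exact Submodule.subset_span (hgl χ)
  intro c hc
  let ev : D →ₗ[k] k :=
    { toFun := fun φ => φ.ofConv c, map_add' := fun _ _ => rfl, map_smul' := fun _ _ => rfl }
  have hev : LinearMap.ker π.toLinearMap ≤ LinearMap.ker ev := fun φ hφ => (hker φ).mp hφ c hc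
  obtain ⟨sct, hsct⟩ := π.toLinearMap.exists_rightInverse_of_surjective (LinearMap.range_eq_top.mpr hπ)
  refine hle ⟨ev ∘ₗ sct, ?_⟩
  rw [← sub_eq_zero, ← Module.forall_dual_apply_eq_zero_iff k]
  intro φ
  rw [map_sub, sub_eq_zero]
  refine (hE (toConv φ) (ev ∘ₗ sct)).trans ?_
  have h1 : sct (π (toConv φ)) - toConv φ ∈ LinearMap.ker π.toLinearMap := by
    rw [LinearMap.mem_ker, map_sub, sub_eq_zero]
    exact LinearMap.congr_fun hsct (π (toConv φ))
  have h2 := hev h1
  rw [LinearMap.mem_ker, map_sub, sub_eq_zero] at h2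
  exact h2

set_option maxHeartbeats 400000 in
set_option synthInstance.maxHeartbeats 200000 in
theorem le_span_groupLike [IsSepClosed k] (hA : NoPrim k A) (C : Submodule k A) [Module.Finite k C]
    (hC : IsSubcoalg k A C) : C ≤ Submodule.span k {a : A | IsGroupLikeElem k a} :=
  by
  let I : Ideal (WithConv (A →ₗ[k] k)) := annIdeal C hC
  let π : WithConv (A →ₗ[k] k) →ₐ[k] WithConv (A →ₗ[k] k) ⧸ I := Ideal.Quotient.mkₐ k I
  have h1 : Function.Surjective π := Ideal.Quotient.mk_surjective
  have h2 : ∀ φ, π φ = 0 ↔ φ ∈ I := fun φ => Ideal.Quotient.eq_zero_iff_mem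
  exact le_span_groupLike_aux (Q := WithConv (A →ₗ[k] k) ⧸ I) hA C π h1 h2

theorem span_groupLike_eq_top [IsSepClosed k] (hA : NoPrim k A) :
    Submodule.span k {a : A | IsGroupLikeElem k a} = ⊤ := by
  refine eq_top_iff.mpr fun x _ => ?_
  obtain ⟨U, hUf, hxU, hU⟩ := exists_finite_subcomod_mem (C := A) (k := k) (V := A) x
  haveI := hUf
  letI : HopfRep.Comod k A U := ComodSub.Comod.restr (HopfRep.Comod.regular k A) U hU
  haveI : Module.Finite k (coeffSpace k A U) := finite_coeffSpace
  exact le_span_groupLike hA (coeffSpace k A U) isSubcoalg_coeffSpace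
    (range_le_coeffSpace (ComodSub.isComodHom_subtype _ U hU) ⟨⟨x, hxU⟩, rfl⟩)

end Groth.Agent.ComodLib.PrimDiag
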