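import Groth.Agent.ComodLib.Orbits
import Groth.Agent.ComodLib.Basic
import Groth.Agent.ComodLib.Integral
import Groth.Agent.ComodLib.CharFinite
import Groth.Agent.VarDim.Basic
import Mathlib.RingTheory.ZariskisMainTheorem
import Mathlib.RingTheory.HopfAlgebra.Convolution

/-!
# Points with finite stabilizer

An orbit with finite stabilizer is not in the boundary of another orbit closure, and the points
with finite stabilizer are cut out as the quasi-finite locus of the graph of the action.
-/

universe u v

open TensorProduct WithConv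

namespace Groth.Agent.ComodLib

open GLin (orbitHom actPt InOrbitClosure)

set_option linter.style.haveILetI false
set_option linter.unusedSectionVars false

attribute [local instance] RingHom.ker_isPrime

section QF

variable {k : Type u} [Field k] [IsAlgClosed k]
variable {T S : Type v} [CommRing T] [Algebra k T] [CommRing S] [Algebra k S] [Algebra T S] [IsScalarTower k T S]
  [Algebra.FiniteType k S]

theorem finite_fibre_of_finite_pts (p : S →ₐ[k] k)
    (h : {w : S →ₐ[k] k | ∀ t : T, w (algebraMap T S t) = p (algebraMap T S t)}.Finite) :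
    (PrimeSpectrum.comap (algebraMap T S) ⁻¹'
      {PrimeSpectrum.comap (algebraMap T S) ⟨RingHom.ker p, RingHom.ker_isPrime _⟩}).Finite ∧
    ∀ q ∈ PrimeSpectrum.comap (algebraMap T S) ⁻¹'
      {PrimeSpectrum.comap (algebraMap T S) ⟨RingHom.ker p, RingHom.ker_isPrime _⟩}, IsClosed {q} := by
  haveI : IsJacobsonRing S := isJacobsonRing_of_finiteType (A := k) (B := S)
  set y := PrimeSpectrum.comap (algebraMap T S) ⟨RingHom.ker p, RingHom.ker_isPrime _⟩ with hy
  have hmax : y.asIdeal.IsMaximal := by
    show (RingHom.ker ((p.comp (IsScalarTower.toAlgHom k T S)).toRingHom)).IsMaximal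
    exact RingHom.ker_isMaximal_of_surjective _ fun c => ⟨algebraMap k T c, AlgHom.commutes _ c⟩
  set F := PrimeSpectrum.comap (algebraMap T S) ⁻¹' {y} with hF
  have hFc : IsClosed F :=
    ((PrimeSpectrum.isClosed_singleton_iff_isMaximal y).mpr hmax).preimage (PrimeSpectrum.continuous_comap _)
  have hfin : (F ∩ closedPoints (PrimeSpectrum S)).Finite := by
    refine (h.image fun w => (⟨RingHom.ker w, RingHom.ker_isPrime _⟩ : PrimeSpectrum S)).subset ?_
    rintro q ⟨hq, hqc⟩
    have hqm : q.asIdeal.IsMaximal := (PrimeSpectrum.isClosed_singleton_iff_isMaximal q).mp hqc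
    obtain ⟨w, hw⟩ := exists_point (k := k) q.asIdeal hqm.ne_top
    have hwq : q.asIdeal = RingHom.ker w := hqm.eq_of_le (RingHom.ker_ne_top _) hw
    refine ⟨w, fun t => ?_, PrimeSpectrum.ext hwq.symm⟩
    have h1 : t - algebraMap k T (p (algebraMap T S t)) ∈ y.asIdeal := by
      show algebraMap T S _ ∈ RingHom.ker p
      rw [RingHom.mem_ker, map_sub, map_sub, ← IsScalarTower.algebraMap_apply, AlgHom.commutes,
        Algebra.algebraMap_self_apply, sub_self]
    rw [← show PrimeSpectrum.comap (algebraMap T S) q = y from hq] at h1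
    have h2 : algebraMap T S (t - algebraMap k T (p (algebraMap T S t))) ∈ RingHom.ker w := hwq ▸ h1
    rw [RingHom.mem_ker, map_sub, map_sub, ← IsScalarTower.algebraMap_apply, AlgHom.commutes,
      Algebra.algebraMap_self_apply, sub_eq_zero] at h2
    exact h2
  have hcl : IsClosed (F ∩ closedPoints (PrimeSpectrum S)) := by
    rw [← Set.biUnion_of_singleton (F ∩ closedPoints (PrimeSpectrum S))]
    exact hfin.isClosed_biUnion fun q hq => hq.2
  have heq : F = F ∩ closedPoints (PrimeSpectrum S) := by
    have h1 := JacobsonSpace.closure_inter_closedPoints_eq_closure hFc.isLocallyClosed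
    rw [hcl.closure_eq, hFc.closure_eq] at h1
    exact h1.symm
  refine ⟨?_, fun q hq => ?_⟩
  · rw [heq]; exact hfin
  · rw [heq] at hq; exact hq.2

theorem quasiFiniteAt_of_finite_pts (p : S →ₐ[k] k)
    (h : {w : S →ₐ[k] k | ∀ t : T, w (algebraMap T S t) = p (algebraMap T S t)}.Finite) :
    Algebra.QuasiFiniteAt T (RingHom.ker p) := by
  haveI : Algebra.FiniteType T S := Algebra.FiniteType.of_restrictScalars_finiteType k T S
  obtain ⟨hF, hcl⟩ := finite_fibre_of_finite_pts p h
  set q : PrimeSpectrum S := ⟨RingHom.ker p, RingHom.ker_isPrime _⟩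
  set F := PrimeSpectrum.comap (algebraMap T S) ⁻¹' {PrimeSpectrum.comap (algebraMap T S) q}
  have : Finite F := hF.to_subtype
  have : T1Space F := ⟨fun x => by
    rw [show ({x} : Set F) = Subtype.val ⁻¹' {x.1} from Set.ext fun z => by simp [Subtype.ext_iff]]
    exact (hcl x.1 x.2).preimage continuous_subtype_val⟩
  exact Algebra.QuasiFiniteAt.of_isOpen_singleton_fiber q (isOpen_discrete _)

end QF

variable {k : Type u} [Field k] {A : Type v} [CommRing A] [HopfAlgebra k A]

theorem convMul_ofConv (g h : WithConv (A →ₐ[k] k)) :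
    (g * h).ofConv = h.ofConv.comp (translatePt g.ofConv) := by
  refine AlgHom.ext fun a => ?_
  show Algebra.TensorProduct.lmul' k (Algebra.TensorProduct.map g.ofConv h.ofConv (Coalgebra.comul (R := k) a)) =
    h.ofConv (Algebra.TensorProduct.lid k A
      (Algebra.TensorProduct.map g.ofConv (AlgHom.id k A) (Coalgebra.comul (R := k) a)))
  induction Coalgebra.comul (R := k) a using TensorProduct.induction_on with
  | zero => simp
  | tmul p q => simp
  | add p q hp hq => simp only [map_add, hp, hq]

section Points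

variable [IsAlgClosed k] [Algebra.FiniteType k A] [_root_.IsReduced A]
variable {V : Type v} [AddCommGroup V] [Module k V]

theorem eq_zero_of_forall_pt {w : V ⊗[k] A} (h : ∀ g : A →ₐ[k] k, slice g.toLinearMap w = 0) : w = 0 := by
  classical
  let b := Module.Free.chooseBasis k V
  apply (TensorProduct.equivFinsuppOfBasisLeft b).injective
  ext i
  rw [TensorProduct.equivFinsuppOfBasisLeft_apply, map_zero, Finsupp.zero_apply]
  have e : ∀ g : A →ₐ[k] k,
      g (TensorProduct.lid k A ((b.coord i).rTensor A w)) = b.coord i (slice g.toLinearMap w) := fun g => by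
    clear h
    induction w using TensorProduct.induction_on with
    | zero => simp
    | tmul p q => simp [mul_comm]
    | add p q hp hq => simp only [map_add, hp, hq]
  by_contra hne
  obtain ⟨g, hg⟩ := exists_point_ne_zero (k := k) (a := TensorProduct.lid k A ((b.coord i).rTensor A w))
    (fun hn => hne hn.eq_zero)
  exact hg (by rw [e, h g, map_zero])

theorem isSubcomod_of_forall_act [HopfRep.Comod k A V] {U : Submodule k V}
    (h : ∀ g : A →ₐ[k] k, ∀ u ∈ U, HopfRep.Comod.act k A V g u ∈ U) :
    HopfRep.IsSubcomod (k := k) (A := A) U := by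
  rw [isSubcomod_iff_actF]
  intro φ u hu
  have hw : U.mkQ.rTensor A (HopfRep.Comod.coact (k := k) (A := A) u) = 0 := eq_zero_of_forall_pt fun g => by
    rw [slice_rTensor]
    exact (Submodule.Quotient.mk_eq_zero U).mpr (h g u hu)
  have := congrArg (slice φ) hw
  rw [slice_rTensor, map_zero] at this
  exact (Submodule.Quotient.mk_eq_zero U).mp this

theorem mem_fixedPts_of_forall_act [HopfRep.Comod k A V] {v : V}
    (h : ∀ g : A →ₐ[k] k, HopfRep.Comod.act k A V g v = v) : v ∈ HopfRep.fixedPts k A V := by
  show HopfRep.Comod.coact (k := k) (A := A) v = v ⊗ₜ[k] (1 : A)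
  refine sub_eq_zero.mp (eq_zero_of_forall_pt fun g => ?_)
  rw [map_sub, slice_tmul, show g.toLinearMap (1 : A) = 1 from map_one g, one_smul]
  exact sub_eq_zero.mpr (h g)

end Points

section Orbit

variable {R : Type v} [CommRing R] [Algebra k R] [HopfRep.Comod k A R] [GLin.IsCoactAlg k A R]

theorem act_fixed {f : R} (hf : f ∈ HopfRep.fixedPts k A R) (g : A →ₐ[k] k) :
    HopfRep.Comod.act k A R g f = f := by
  show slice g.toLinearMap (HopfRep.Comod.coact (k := k) (A := A) f) = f
  rw [show HopfRep.Comod.coact (k := k) (A := A) f = f ⊗ₜ[k] (1 : A) from hf, slice_tmul,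
    show g.toLinearMap (1 : A) = 1 from map_one g, one_smul]

theorem act_mul (g : A →ₐ[k] k) (a b : R) :
    HopfRep.Comod.act k A R g (a * b) = HopfRep.Comod.act k A R g a * HopfRep.Comod.act k A R g b := by
  show slice g.toLinearMap (HopfRep.Comod.coact (k := k) (A := A) (a * b)) = _
  rw [GLin.IsCoactAlg.coact_mul]
  show _ = slice g.toLinearMap (HopfRep.Comod.coact (k := k) (A := A) a) *
    slice g.toLinearMap (HopfRep.Comod.coact (k := k) (A := A) b)
  induction HopfRep.Comod.coact (k := k) (A := A) a using TensorProduct.induction_on with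
  | zero => simp
  | tmul p q =>
    induction HopfRep.Comod.coact (k := k) (A := A) b using TensorProduct.induction_on with
    | zero => simp
    | tmul p' q' => simp [smul_smul, mul_comm (g q) (g q')]
    | add p' q' hp hq => simp only [mul_add, map_add, hp, hq]
  | add p q hp hq => simp only [add_mul, map_add, hp, hq]

theorem actPt_apply (g : A →ₐ[k] k) (x : R →ₐ[k] k) (f : R) :
    actPt k g x f = x (HopfRep.Comod.act k A R g f) := by
  show g (orbitHom k A x f) = x (slice g.toLinearMap (HopfRep.Comod.coact (k := k) (A := A) f))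
  rw [orbitHom_apply]
  induction HopfRep.Comod.coact (k := k) (A := A) f using TensorProduct.induction_on with
  | zero => simp
  | tmul a b => simp [mul_comm]
  | add p q hp hq => simp only [map_add, hp, hq]

/-- The stabilizer of a rational point. -/
def stab (x : R →ₐ[k] k) : Set (WithConv (A →ₐ[k] k)) := {g | actPt k g.ofConv x = x}

theorem actPt_convMul (g h : WithConv (A →ₐ[k] k)) (x : R →ₐ[k] k) :
    actPt k (g * h).ofConv x = actPt k h.ofConv (actPt k g.ofConv x) := by
  rw [actPt_actPt, convMul_ofConv]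

theorem actPt_convOne (x : R →ₐ[k] k) : actPt k (1 : WithConv (A →ₐ[k] k)).ofConv x = x := by
  refine AlgHom.ext fun f => ?_
  exact counit_orbitHom (A := A) x f

theorem actPt_inv_conv (g : WithConv (A →ₐ[k] k)) (x : R →ₐ[k] k) :
    actPt k g⁻¹.ofConv (actPt k g.ofConv x) = x := by
  rw [← actPt_convMul, mul_inv_cancel, actPt_convOne]

theorem setOf_act_eq_finite_iff (x : R →ₐ[k] k) :
    {g : A →ₐ[k] k | ∀ f : R, x (HopfRep.Comod.act k A R g f) = x f}.Finite ↔ (stab (A := A) x).Finite := by
  have e : {g : A →ₐ[k] k | ∀ f : R, x (HopfRep.Comod.act k A R g f) = x f} = toConv ⁻¹' stab (A := A) x := by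
    ext g
    simp only [stab, Set.mem_preimage, Set.mem_setOf_eq, AlgHom.ext_iff, actPt_apply]
  rw [e]
  refine ⟨fun h => ?_, fun h => h.preimage (fun a _ b _ hab => congrArg WithConv.ofConv hab)⟩
  refine (h.image toConv).subset fun g hg => ⟨g.ofConv, ?_, rfl⟩
  simpa using hg

theorem finite_stab_actPt (g : WithConv (A →ₐ[k] k)) {x : R →ₐ[k] k} (h : (stab (A := A) x).Finite) :
    (stab (A := A) (actPt k g.ofConv x)).Finite := by
  refine Set.Finite.of_finite_image (f := fun s => g * s * g⁻¹) (h.subset ?_) (fun a _ b _ hab => by simpa using hab)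
  rintro _ ⟨s, hs, rfl⟩
  show actPt k (g * s * g⁻¹).ofConv x = x
  rw [actPt_convMul, actPt_convMul, show actPt k s.ofConv (actPt k g.ofConv x) = _ from hs, actPt_inv_conv]

variable [IsAlgClosed k] [Algebra.FiniteType k A]

theorem finite_pts_fibre_orbitHom {x : R →ₐ[k] k} (h : (stab (A := A) x).Finite) (p : A →ₐ[k] k) :
    {w : A →ₐ[k] k | ∀ t : R, w (orbitHom k A x t) = p (orbitHom k A x t)}.Finite := by
  refine Set.Finite.of_finite_image (f := fun w => toConv w * (toConv p)⁻¹) (h.subset ?_)
    (fun a _ b _ hab => congrArg WithConv.ofConv (mul_right_cancel hab))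
  rintro _ ⟨w, hw, rfl⟩
  show actPt k (toConv w * (toConv p)⁻¹).ofConv x = x
  rw [actPt_convMul, show actPt k (toConv w).ofConv x = actPt k (toConv p).ofConv x from AlgHom.ext hw,
    actPt_inv_conv]

theorem quasiFiniteAt_orbitHom {x : R →ₐ[k] k} (h : (stab (A := A) x).Finite) (q : Ideal A) [q.IsPrime] :
    letI := (orbitHom k A x).toRingHom.toAlgebra
    Algebra.QuasiFiniteAt R q := by
  letI := (orbitHom k A x).toRingHom.toAlgebra
  haveI : IsScalarTower k R A := IsScalarTower.of_algebraMap_eq fun c => ((orbitHom k A x).commutes c).symm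
  obtain ⟨p, hp⟩ := exists_point (k := k) q (Ideal.IsPrime.ne_top inferInstance)
  haveI := quasiFiniteAt_of_finite_pts (T := R) p (finite_pts_fibre_orbitHom h p)
  exact Algebra.QuasiFiniteAt.of_le hp

variable [Algebra.FiniteType k R]

/-- An orbit with finite stabilizer in the closure of another orbit is that orbit. -/
theorem ker_orbitHom_eq_of_finite_stab {x y : R →ₐ[k] k} (h : (stab (A := A) x).Finite)
    (hyx : InOrbitClosure k A y x) : RingHom.ker (orbitHom k A y) = RingHom.ker (orbitHom k A x) := by
  classical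
  have hle : RingHom.ker (orbitHom k A y) ≤ RingHom.ker (orbitHom k A x) := (inOrbitClosure_iff y x).mp hyx
  refine le_antisymm hle ?_
  by_contra hne
  haveI : IsNoetherianRing A := Algebra.FiniteType.isNoetherianRing k A
  haveI : Nontrivial A := (Bialgebra.counitAlgHom k A).toRingHom.domain_nontrivial
  letI := (orbitHom k A x).toRingHom.toAlgebra
  have hmono : StrictMono (PrimeSpectrum.comap (orbitHom k A x).toRingHom) := by
    intro P Q hPQ
    have hm : P.asIdeal ≤ Q.asIdeal := hPQ.le
    refine lt_of_le_of_ne (fun r hr => hm hr) fun he => hPQ.ne (PrimeSpectrum.ext ?_)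
    haveI := quasiFiniteAt_orbitHom h Q.asIdeal
    exact Algebra.QuasiFiniteAt.eq_of_le_of_under_eq hm (congrArg PrimeSpectrum.asIdeal he :)
  let Pm := {P : Ideal A // P ∈ minimalPrimes A}
  haveI : Finite Pm := (minimalPrimes.finite_of_isNoetherianRing A).to_subtype
  haveI : Nonempty Pm := by
    obtain ⟨m, hm⟩ := Ideal.exists_maximal A
    obtain ⟨P, hP, -⟩ := Ideal.exists_minimalPrimes_le (bot_le (a := m))
    exact ⟨⟨P, hP⟩⟩
  have : ∀ P : Pm, P.1.IsPrime := fun P => P.2.1.1
  choose n hn ht using fun P : Pm => VarDim.exists_dim_eq_trdeg k (A ⧸ P.1)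
  obtain ⟨P, hPmax⟩ := Finite.exists_max n
  obtain ⟨l, hl⟩ := Order.le_krullDim_iff.mp (le_of_eq (hn P).symm)
  let L := (l.map _ (RingHom.strictMono_comap_of_surjective (f := Ideal.Quotient.mk P.1)
    Ideal.Quotient.mk_surjective)).map _ hmono
  have hhead : RingHom.ker (orbitHom k A y) ≤ L.head.asIdeal := by
    rw [LTSeries.head_map, PrimeSpectrum.comap_asIdeal]
    intro f hf
    rw [Ideal.mem_comap, show (orbitHom k A x).toRingHom f = 0 from hle hf]
    exact zero_mem _
  obtain ⟨q, hq, hqle⟩ := Ideal.exists_minimalPrimes_le hhead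
  haveI : q.IsPrime := hq.1.1
  obtain ⟨P', hP', hqP⟩ := Ideal.exists_minimalPrimes_comap_eq (I := ⊥) (orbitHom k A y).toRingHom q
    (by rw [← RingHom.ker_eq_comap_bot]; exact hq)
  haveI : P'.IsPrime := hP'.1.1
  have hnot : ¬ RingHom.ker (orbitHom k A x) ≤ q := by
    intro hx
    obtain ⟨p, hp⟩ := exists_point (k := k) P' (Ideal.IsPrime.ne_top inferInstance)
    apply hne
    have h1 : InOrbitClosure k A x (actPt k p y) := fun f hf => by
      have hf' : f ∈ Ideal.comap (orbitHom k A y).toRingHom P' := hqP.symm ▸ hx hf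
      exact hp hf'
    exact ((inOrbitClosure_iff _ _).mp h1).trans (ker_orbitHom_actPt p y).le
  have hlt : (⟨q, inferInstance⟩ : PrimeSpectrum R) < L.head := by
    refine lt_of_le_of_ne hqle fun he => hnot ?_
    rw [show q = L.head.asIdeal from congrArg PrimeSpectrum.asIdeal he, LTSeries.head_map, PrimeSpectrum.comap_asIdeal]
    intro f hf
    rw [Ideal.mem_comap, show (orbitHom k A x).toRingHom f = 0 from hf]
    exact zero_mem _
  have hco := Order.length_le_coheight (p := L.cons ⟨q, inferInstance⟩ hlt)
    (x := (⟨q, inferInstance⟩ : PrimeSpectrum R)) (by simp)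
  haveI : Algebra.FiniteType k (R ⧸ q) := inferInstance
  obtain ⟨m, hm, hmt⟩ := VarDim.exists_dim_eq_trdeg k (R ⧸ q)
  have hmge : n P + 1 ≤ m := by
    have h2 : ((L.cons ⟨q, inferInstance⟩ hlt).length : WithBot ℕ∞) ≤ ringKrullDim (R ⧸ q) := by
      rw [← VarDim.coheight_eq_ringKrullDim_quotient (⟨q, inferInstance⟩ : PrimeSpectrum R)]
      exact_mod_cast hco
    rw [hm] at h2
    rw [RelSeries.cons_length, show L.length = n P from hl] at h2
    exact_mod_cast h2
  let P'' : Pm := ⟨P', hP'⟩
  let j : R ⧸ q →ₐ[k] A ⧸ P' := Ideal.quotientMapₐ P' (orbitHom k A y) (le_of_eq hqP.symm)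
  have hj : Function.Injective j := Ideal.quotientMap_injective' (H := le_of_eq hqP.symm) (le_of_eq hqP)
  have htr := trdeg_le_of_injective j hj
  rw [hmt, ht P''] at htr
  have : m ≤ n P'' := by simpa using htr
  have := hPmax P''
  omega

theorem exists_actPt_of_finite_stab {x y : R →ₐ[k] k} (h : (stab (A := A) x).Finite)
    (hyx : InOrbitClosure k A y x) : ∃ g : A →ₐ[k] k, x = actPt k g y :=
  exists_actPt_of_ker_eq (ker_orbitHom_eq_of_finite_stab h hyx)

/-- The graph of the action. -/
noncomputable def graphHom : R ⊗[k] R →ₐ[k] R ⊗[k] A :=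
  Algebra.TensorProduct.lift Algebra.TensorProduct.includeLeft (GLin.coactAlgHom k A R) fun _ _ => .all _ _

theorem graphHom_apply_pt (z : R →ₐ[k] k) (w : R ⊗[k] A →ₐ[k] k)
    (hw : ∀ r : R, w (r ⊗ₜ[k] 1) = z r) (r r' : R) :
    w (graphHom (A := A) (r ⊗ₜ[k] r')) = z r * actPt k (w.comp Algebra.TensorProduct.includeRight) z r' := by
  rw [graphHom, Algebra.TensorProduct.lift_tmul, map_mul, show Algebra.TensorProduct.includeLeft (S := k) (R := k)
    (B := A) r = r ⊗ₜ[k] (1 : A) from rfl, hw]
  congr 1
  show w (GLin.coactAlgHom k A R r') = w (Algebra.TensorProduct.includeRight (orbitHom k A z r'))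
  rw [orbitHom_apply, show GLin.coactAlgHom k A R r' = HopfRep.Comod.coact (k := k) (A := A) r' from rfl]
  induction HopfRep.Comod.coact (k := k) (A := A) r' using TensorProduct.induction_on with
  | zero => simp
  | tmul p q =>
    rw [show p ⊗ₜ[k] q = (p ⊗ₜ[k] (1 : A)) * ((1 : R) ⊗ₜ[k] q) by simp, map_mul, hw]
    simp
  | add p q hp hq => simp only [map_add, hp, hq]

/-- The identity section. -/
noncomputable def unitSection : R ⊗[k] A →ₐ[k] R :=
  Algebra.TensorProduct.lift (AlgHom.id k R) ((Algebra.ofId k R).comp (Bialgebra.counitAlgHom k A))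
    fun _ _ => .all _ _

theorem quasiFiniteAt_graph {z : R →ₐ[k] k} (h : (stab (A := A) z).Finite) :
    letI := (graphHom (k := k) (A := A) (R := R)).toRingHom.toAlgebra
    Algebra.QuasiFiniteAt (R ⊗[k] R) (RingHom.ker (z.comp (unitSection (A := A)))) := by
  letI := (graphHom (k := k) (A := A) (R := R)).toRingHom.toAlgebra
  haveI : IsScalarTower k (R ⊗[k] R) (R ⊗[k] A) :=
    IsScalarTower.of_algebraMap_eq fun c => ((graphHom (k := k) (A := A) (R := R)).commutes c).symm
  haveI : Algebra.FiniteType k (R ⊗[k] A) :=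
    Algebra.FiniteType.trans (S := R) (inferInstance : Algebra.FiniteType k R) inferInstance
  set p := z.comp (unitSection (A := A))
  refine quasiFiniteAt_of_finite_pts p ?_
  have hp : ∀ r : R, p (r ⊗ₜ[k] 1) = z r := fun r => by simp [p, unitSection]
  have key : ∀ w : R ⊗[k] A →ₐ[k] k, (∀ t, w (graphHom t) = p (graphHom t)) →
      (∀ r : R, w (r ⊗ₜ[k] 1) = z r) := fun w hw r => by
    have := hw (r ⊗ₜ[k] 1)
    simp only [graphHom, Algebra.TensorProduct.lift_tmul, map_one, mul_one] at this
    exact this.trans (hp r)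
  refine Set.Finite.of_finite_image (f := fun w => toConv (w.comp Algebra.TensorProduct.includeRight))
    (h.subset ?_) ?_
  · rintro _ ⟨w, hw, rfl⟩
    refine AlgHom.ext fun r' => ?_
    have := hw ((1 : R) ⊗ₜ[k] r')
    rw [show (algebraMap (R ⊗[k] R) (R ⊗[k] A)) = (graphHom (k := k) (A := A) (R := R)).toRingHom from rfl] at this
    simp only [AlgHom.toRingHom_eq_coe, RingHom.coe_coe] at this
    rw [graphHom_apply_pt z w (key w hw), graphHom_apply_pt z p hp, map_one, one_mul, one_mul] at this
    refine this.trans ?_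
    rw [show p.comp Algebra.TensorProduct.includeRight = Bialgebra.counitAlgHom k A from
      AlgHom.ext fun a => by simp [p, unitSection]]
    exact counit_orbitHom (A := A) z r'
  · intro w hw w' hw' hww
    refine Algebra.TensorProduct.ext (AlgHom.ext fun r => ?_) (congrArg WithConv.ofConv hww)
    exact (key w hw r).trans (key w' hw' r).symm

end Orbit

end Groth.Agent.ComodLib
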