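import Groth.Agent.ComodLib.Generator
import Groth.Agent.ComodLib.Reductive
import Mathlib.RingTheory.SimpleModule.Basic

/-!
# A comodule with coefficients among those of `U` is a summand of a power of `U`
-/

universe u v w w'

open TensorProduct WithConv

namespace Groth.Agent.ComodLib

variable {k : Type u} [Field k] {C : Type v} [AddCommGroup C] [Module k C] [Coalgebra k C]
variable {V : Type w} [AddCommGroup V] [Module k V] [Module.Finite k V]
variable {U : Type w'} [AddCommGroup U] [Module k U] [Module.Finite k U]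

theorem exists_directSummand_of_coeffs (cV : HopfRep.Comod k C V) (cU : HopfRep.Comod k C U)
    (hU : ∀ b : ℕ, @HopfRep.IsSemisimpleComod k C _ _ _ _ (Fin b → U) _ _ (ComodTens.Comod.pi fun _ => cU))
    (hle : coeffsOf k C V cV ≤ coeffsOf k C U cU) :
    ∃ (b : ℕ) (i : V →ₗ[k] (Fin b → U)) (p : (Fin b → U) →ₗ[k] V), p ∘ₗ i = LinearMap.id ∧
      @Hoch.IsComodHom k _ C _ _ _ V _ _ cV (Fin b → U) _ _ (ComodTens.Comod.pi fun _ => cU) i ∧
      @Hoch.IsComodHom k _ C _ _ _ (Fin b → U) _ _ (ComodTens.Comod.pi fun _ => cU) V _ _ cV p := by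
  classical
  let n := Module.finrank k V
  let N := Module.finrank k U
  let bV := Module.finBasis k V
  let bU := Module.finBasis k U
  let b := n * N
  letI := cV
  letI := cU
  letI : HopfRep.Comod k C (Fin b → U) := ComodTens.Comod.pi fun _ => cU
  haveI : IsSemisimpleModule (WithConv (C →ₗ[k] k)) (Fin b → U) :=
    isSemisimpleComod_iff_isSemisimpleModule.mp (hU b)
  let P : (Fin b → U) →ₗ[WithConv (C →ₗ[k] k)] (Fin n → C) := LinearMap.pi fun i => ∑ j,
    (toConvLin (C := C) (coefFun (C := C) (bU.coord j)) (isComodHom_coefFun _)) ∘ₗ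
      toConvLin (C := C) (LinearMap.proj (R := k) (φ := fun _ : Fin b => U) (finProdFinEquiv (i, j)))
        (isComodHom_pi_proj (fun _ => cU) _)
  let Φ : V →ₗ[WithConv (C →ₗ[k] k)] (Fin n → C) :=
    LinearMap.pi fun i => toConvLin (C := C) (coefFun (C := C) (bV.coord i)) (isComodHom_coefFun _)
  have hP : ∀ g i, P g i = ∑ j, coefFun (C := C) (bU.coord j) (g (finProdFinEquiv (i, j))) := fun g i => by
    simp [P, LinearMap.sum_apply]
  have hD : ∀ a ∈ coeffsOf k C U cU, ∃ x : Fin N → U, ∑ j, coefFun (C := C) (bU.coord j) (x j) = a := by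
    intro a ha
    let L : (Fin N → U) →ₗ[k] C := ∑ j, coefFun (C := C) (bU.coord j) ∘ₗ LinearMap.proj (R := k) (φ := fun _ => U) j
    suffices h : coeffsOf k C U cU ≤ LinearMap.range L by
      obtain ⟨x, hx⟩ := h ha
      exact ⟨x, by simpa [L] using hx⟩
    refine iSup_le fun f => ?_
    rintro _ ⟨v, rfl⟩
    refine ⟨fun j => f (bU j) • v, ?_⟩
    have hf : f = ∑ j, f (bU j) • bU.coord j := bU.ext fun i => by
      simp [Finsupp.single_apply]
    conv_rhs => rw [hf]
    simp only [L, LinearMap.sum_apply, LinearMap.comp_apply, LinearMap.proj_apply, map_smul]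
    rw [show coefFun (C := C) (∑ j, f (bU j) • bU.coord j) v = ∑ j, f (bU j) • coefFun (C := C) (bU.coord j) v by
      simp only [coefFun_apply, rTensor_sum, LinearMap.rTensor_smul, LinearMap.sum_apply, LinearMap.smul_apply, map_sum, map_smul]]
  have hrange : ∀ v, Φ v ∈ LinearMap.range P := fun v => by
    choose x hx using fun i : Fin n => hD _ (hle (coefFun_mem_coeffsOf cV (bV.coord i) v))
    refine ⟨fun z => x (finProdFinEquiv.symm z).1 (finProdFinEquiv.symm z).2, funext fun i => ?_⟩
    rw [hP]
    simpa [Φ] using hx i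
  obtain ⟨h, hh⟩ := IsSemisimpleModule.lifting_property P.rangeRestrict P.surjective_rangeRestrict
    (Φ.codRestrict (LinearMap.range P) hrange)
  have hinj : Function.Injective h := by
    intro x y hxy
    have he : Φ x = Φ y := by
      have h1 := congrArg (fun z => (P.rangeRestrict z : Fin n → C)) hxy
      have h2 : ∀ v, (P.rangeRestrict (h v) : Fin n → C) = Φ v := fun v =>
        congrArg Subtype.val (LinearMap.congr_fun hh v)
      simpa [h2] using h1
    refine bV.ext_elem fun i => ?_
    have h3 := congrArg (Coalgebra.counit (R := k)) (congrFun he i)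
    simp only [Φ, LinearMap.pi_apply, toConvLin_apply, counit_coefFun, Module.Basis.coord_apply] at h3
    exact h3
  obtain ⟨p, hp⟩ := IsSemisimpleModule.extension_property h hinj LinearMap.id
  exact ⟨b, h.restrictScalars k, p.restrictScalars k, LinearMap.ext fun v => LinearMap.congr_fun hp v,
    isComodHom_of_convLinear h, isComodHom_of_convLinear p⟩

end Groth.Agent.ComodLib
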