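import Groth.Agent.ComodLib.Antipode
import Groth.Prelude.Def_W4c1tameactTame
import Groth.Prelude.Def_GLin
import Mathlib.RingTheory.Ideal.Maps
import Mathlib.RingTheory.Spectrum.Prime.Basic

/-!
# Reynolds operators of tame actions
-/

universe u v w w' w''

open TensorProduct WithConv

namespace Groth.Agent.ComodLib

section Identity

variable {k : Type u} [CommRing k] {A : Type v} [CommRing A] [HopfAlgebra k A]

/-- The map `p ⊗ q ↦ (1 ⊗ p) Δ(S q)`. -/
noncomputable def antipodeTwist : A ⊗[k] A →ₗ[k] A ⊗[k] A :=
  LinearMap.mul' k (A ⊗[k] A) ∘ₗ TensorProduct.map (TensorProduct.mk k A A 1)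
    (Coalgebra.comul (R := k) ∘ₗ HopfAlgebra.antipode k)

theorem antipodeTwist_tmul (p q : A) :
    antipodeTwist (k := k) (p ⊗ₜ[k] q) =
      ((1 : A) ⊗ₜ[k] p) * Coalgebra.comul (R := k) (HopfAlgebra.antipode k q) := rfl

/-- `Σ (1 ⊗ a₁) Δ(S a₂) = S a ⊗ 1`. -/
theorem antipodeTwist_comul (a : A) :
    antipodeTwist (Coalgebra.comul (R := k) a) = HopfAlgebra.antipode k a ⊗ₜ[k] (1 : A) := by
  let iR : A →ₐ[k] A ⊗[k] A := Algebra.TensorProduct.includeRight
  let iL : A →ₐ[k] A ⊗[k] A := Algebra.TensorProduct.includeLeft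
  have hδ : toConv iL * toConv iR = toConv (Bialgebra.comulAlgHom k A) := by
    refine WithConv.ofConv_injective (AlgHom.ext fun c => ?_)
    rw [AlgHom.convMul_apply]
    show _ = Coalgebra.comul (R := k) c
    induction Coalgebra.comul (R := k) c using TensorProduct.induction_on with
    | zero => simp
    | tmul p q => simp [iL, iR]
    | add p q hp hq => rw [map_add, hp, hq]
  have h : toConv iR * (toConv (Bialgebra.comulAlgHom k A))⁻¹ = (toConv iL)⁻¹ := by
    rw [← hδ, mul_inv_rev (G := WithConv (A →ₐ[k] A ⊗[k] A)),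
      mul_inv_cancel_left (G := WithConv (A →ₐ[k] A ⊗[k] A))]
  have h' := DFunLike.congr_fun (congrArg WithConv.ofConv h) a
  rw [AlgHom.convMul_apply] at h'
  change _ = iL (HopfAlgebra.antipode k a) at h'
  refine Eq.trans ?_ (h'.trans rfl)
  induction Coalgebra.comul (R := k) a using TensorProduct.induction_on with
  | zero => simp
  | tmul p q => rfl
  | add p q hp hq => simp only [map_add, hp, hq]

end Identity

section Reynolds

variable {k : Type u} [CommRing k] {A : Type v} [CommRing A] [HopfAlgebra k A]
variable {B : Type w} [CommRing B] [Algebra k B] [HopfRep.Comod k A B]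
variable {M : Type w'} [AddCommGroup M] [Module k M] [Module B M] [IsScalarTower k B M]
  [HopfRep.Comod k A M]

/-- The value of the Reynolds map before composing with the coaction. -/
noncomputable def reynoldsAux (α : A →ₗ[k] B) : M ⊗[k] A →ₗ[k] M :=
  TensorProduct.lift
      ((Algebra.lsmul k k M : B →ₐ[k] Module.End k M).toLinearMap ∘ₗ α ∘ₗ
        (HopfAlgebraStruct.antipode (R := k) (A := A))).flip

theorem reynoldsAux_tmul (α : A →ₗ[k] B) (x : M) (a : A) :
    reynoldsAux α (x ⊗ₜ[k] a) = α (HopfAlgebra.antipode k a) • x := by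
  simp [reynoldsAux]

theorem reynolds_eq (α : A →ₗ[k] B) (m : M) :
    TameAct.reynolds k A B M α m = reynoldsAux α (HopfRep.Comod.coact (k := k) (A := A) m) := rfl

theorem reynolds_mem_fixedPts [TameAct.IsHopfMod k A B M] {α : A →ₗ[k] B} (hα : Hoch.IsComodHom A α) (m : M) :
    TameAct.reynolds k A B M α m ∈ HopfRep.fixedPts k A M := by
  let F : A →ₗ[k] M ⊗[k] A →ₗ[k] M ⊗[k] A :=
    TameAct.hmSMul k A B M ∘ₗ HopfRep.Comod.coact (k := k) (A := A) ∘ₗ α ∘ₗ HopfAlgebra.antipode k
  let Ψ : (M ⊗[k] A) ⊗[k] A →ₗ[k] M ⊗[k] A := TensorProduct.lift F.flip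
  have key1 : ∀ z : M ⊗[k] A, HopfRep.Comod.coact (k := k) (A := A) (reynoldsAux α z) =
      Ψ ((HopfRep.Comod.coact (k := k) (A := A)).rTensor A z) := fun z => by
    induction z using TensorProduct.induction_on with
    | zero => simp
    | tmul x a => simp [Ψ, F, reynoldsAux_tmul, TameAct.IsHopfMod.coact_smul (k := k) (A := A)]
    | add p q hp hq => simp only [map_add, hp, hq]
  have key2 : ∀ z : M ⊗[k] A,
      Ψ ((TensorProduct.assoc k M A A).symm ((Coalgebra.comul (R := k)).lTensor M z)) =
        reynoldsAux α z ⊗ₜ[k] (1 : A) := fun z => by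
    induction z using TensorProduct.induction_on with
    | zero => simp
    | add p q hp hq => simp only [map_add, add_tmul, hp, hq]
    | tmul x a =>
      let Tx : A ⊗[k] A →ₗ[k] M ⊗[k] A :=
        (((Algebra.lsmul k k M : B →ₐ[k] Module.End k M).toLinearMap ∘ₗ α).flip x).rTensor A
      have h1 : ∀ y : A ⊗[k] A, Ψ ((TensorProduct.assoc k M A A).symm (x ⊗ₜ[k] y)) = Tx (antipodeTwist y) := fun y => by
        induction y using TensorProduct.induction_on with
        | zero => simp
        | add p q hp hq => simp only [tmul_add, map_add, hp, hq]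
        | tmul p q =>
          have hq : HopfRep.Comod.coact (k := k) (A := A) (α (HopfAlgebra.antipode k q)) =
              α.rTensor A (Coalgebra.comul (R := k) (HopfAlgebra.antipode k q)) := LinearMap.congr_fun hα _
          simp only [TensorProduct.assoc_symm_tmul, Ψ, F, TensorProduct.lift.tmul, LinearMap.flip_apply,
            LinearMap.comp_apply, hq, antipodeTwist_tmul]
          induction Coalgebra.comul (R := k) (HopfAlgebra.antipode k q) using TensorProduct.induction_on with
          | zero => simp
          | tmul c e => simp [Tx, mul_comm]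
          | add c e hc he => simp only [map_add, mul_add, LinearMap.add_apply, hc, he]
      rw [LinearMap.lTensor_tmul, h1, antipodeTwist_comul]
      simp [Tx, reynoldsAux_tmul]
  have hc := congrArg (TensorProduct.assoc k M A A).symm
    (LinearMap.congr_fun (HopfRep.Comod.coassoc (k := k) (A := A) (V := M)) m)
  simp only [LinearMap.comp_apply, LinearEquiv.coe_coe, LinearEquiv.symm_apply_apply] at hc
  show HopfRep.Comod.coact (k := k) (A := A) (TameAct.reynolds k A B M α m) = _
  rw [reynolds_eq, key1, hc, key2]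

theorem reynolds_of_fixed {α : A →ₗ[k] B} (h1 : α 1 = 1) {m : M} (hm : m ∈ HopfRep.fixedPts k A M) :
    TameAct.reynolds k A B M α m = m := by
  rw [TameAct.reynolds_apply_of_coact_eq k A B M α m m 1 hm, HopfAlgebra.antipode_one, h1, one_smul]

variable {N : Type w''} [AddCommGroup N] [Module k N] [Module B N] [IsScalarTower k B N] [HopfRep.Comod k A N]

theorem map_reynolds (α : A →ₗ[k] B) (f : M →ₗ[B] N) (hf : Hoch.IsComodHom A (f.restrictScalars k)) (m : M) :
    f (TameAct.reynolds k A B M α m) = TameAct.reynolds k A B N α (f m) := by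
  have h := LinearMap.congr_fun hf m
  simp only [LinearMap.comp_apply, LinearMap.coe_restrictScalars] at h
  rw [reynolds_eq, reynolds_eq, h]
  induction HopfRep.Comod.coact (k := k) (A := A) m using TensorProduct.induction_on with
  | zero => simp
  | tmul x a => simp [reynoldsAux_tmul]
  | add p q hp hq => simp only [map_add, hp, hq]

theorem exists_fixedPt_lift_of_tame [TameAct.IsHopfMod k A B M] {α : A →ₗ[k] B} (hα : Hoch.IsComodHom A α)
    (h1 : α 1 = 1) (f : M →ₗ[B] N) (hf : Hoch.IsComodHom A (f.restrictScalars k)) (hsurj : Function.Surjective f)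
    {n : N} (hn : n ∈ HopfRep.fixedPts k A N) : ∃ m ∈ HopfRep.fixedPts k A M, f m = n := by
  obtain ⟨m, rfl⟩ := hsurj n
  exact ⟨_, reynolds_mem_fixedPts hα m, by rw [map_reynolds α f hf, reynolds_of_fixed h1 hn]⟩

theorem reynolds_mem_of_isSubcomod (α : A →ₗ[k] B) {U : Submodule k M}
    (hU : HopfRep.IsSubcomod (k := k) (A := A) U) (hUB : ∀ (b : B), ∀ x ∈ U, b • x ∈ U) {m : M} (hm : m ∈ U) :
    TameAct.reynolds k A B M α m ∈ U := by
  obtain ⟨z, hz⟩ := hU m hm
  rw [reynolds_eq, ← hz]
  clear hz
  induction z using TensorProduct.induction_on with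
  | zero => simp
  | tmul x a => simpa [reynoldsAux_tmul] using hUB _ x x.2
  | add p q hp hq => simpa only [map_add] using U.add_mem hp hq

end Reynolds

section Algebra

variable {k : Type u} [CommRing k] {A : Type v} [CommRing A] [HopfAlgebra k A]
variable {B : Type w} [CommRing B] [Algebra k B] [HopfRep.Comod k A B] [GLin.IsCoactAlg k A B]

theorem isHopfMod_self : TameAct.IsHopfMod k A B B := by
  refine ⟨fun b m => ?_⟩
  rw [smul_eq_mul, GLin.IsCoactAlg.coact_mul]
  generalize HopfRep.Comod.coact (k := k) (A := A) b = x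
  generalize HopfRep.Comod.coact (k := k) (A := A) m = y
  induction x using TensorProduct.induction_on with
  | zero => simp
  | add p q hp hq => simp only [add_mul, map_add, LinearMap.add_apply, hp, hq]
  | tmul b' a =>
    induction y using TensorProduct.induction_on with
    | zero => simp
    | add p q hp hq => simp only [mul_add, map_add, hp, hq]
    | tmul m' a' => simp

theorem reynolds_mul_invariant (α : A →ₗ[k] B) (x : B) (i : GLin.invariants k A B) :
    TameAct.reynolds k A B B α (x * i) = TameAct.reynolds k A B B α x * i := by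
  rw [reynolds_eq, reynolds_eq, GLin.IsCoactAlg.coact_mul, i.2]
  induction HopfRep.Comod.coact (k := k) (A := A) x using TensorProduct.induction_on with
  | zero => simp
  | tmul y a => simp [reynoldsAux_tmul, mul_assoc]
  | add p q hp hq => simp only [add_mul, map_add, hp, hq]

/-- The Reynolds operator, as a linear map over the invariants onto the invariants. -/
noncomputable def reynoldsInv {α : A →ₗ[k] B} (hα : Hoch.IsComodHom A α) :
    B →ₗ[GLin.invariants k A B] GLin.invariants k A B where
  toFun x := ⟨TameAct.reynolds k A B B α x,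
    haveI := isHopfMod_self (k := k) (A := A) (B := B)
    reynolds_mem_fixedPts hα x⟩
  map_add' x y := Subtype.ext (map_add _ x y)
  map_smul' i x := Subtype.ext (by
    show TameAct.reynolds k A B B α ((i : B) * x) = (i : B) * TameAct.reynolds k A B B α x
    rw [mul_comm, reynolds_mul_invariant, mul_comm])

theorem reynoldsInv_algebraMap {α : A →ₗ[k] B} (hα : Hoch.IsComodHom A α) (h1 : α 1 = 1) (i : GLin.invariants k A B) :
    reynoldsInv hα (algebraMap (GLin.invariants k A B) B i) = i :=
  Subtype.ext (reynolds_of_fixed h1 i.2)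

theorem reynoldsInv_mem_of_mem_map {α : A →ₗ[k] B} (hα : Hoch.IsComodHom A α)
    (c : Ideal (GLin.invariants k A B)) {x : B} (hx : x ∈ c.map (algebraMap (GLin.invariants k A B) B)) :
    reynoldsInv hα x ∈ c := by
  have hx' : x ∈ c • (⊤ : Submodule (GLin.invariants k A B) B) := by
    rw [Ideal.smul_top_eq_map]
    exact hx
  refine Submodule.smul_induction_on hx' (fun r hr n _ => ?_) fun p q hp hq => ?_
  · rw [map_smul, smul_eq_mul]
    exact c.mul_mem_right _ hr
  · rw [map_add]
    exact c.add_mem hp hq

theorem comap_map_invariants {α : A →ₗ[k] B} (hα : Hoch.IsComodHom A α) (h1 : α 1 = 1)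
    (c : Ideal (GLin.invariants k A B)) :
    (c.map (algebraMap (GLin.invariants k A B) B)).comap (algebraMap (GLin.invariants k A B) B) = c :=
  le_antisymm (fun i hi => reynoldsInv_algebraMap hα h1 i ▸ reynoldsInv_mem_of_mem_map hα c hi) Ideal.le_comap_map

theorem image_zeroLocus_invariants {α : A →ₗ[k] B} (hα : Hoch.IsComodHom A α) (h1 : α 1 = 1)
    (b : Ideal B) (hb : HopfRep.IsSubcomod (k := k) (A := A) (b.restrictScalars k)) :
    PrimeSpectrum.comap (algebraMap (GLin.invariants k A B) B) '' PrimeSpectrum.zeroLocus (b : Set B) =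
      PrimeSpectrum.zeroLocus
        ((b.comap (algebraMap (GLin.invariants k A B) B) : Ideal (GLin.invariants k A B)) :
          Set (GLin.invariants k A B)) := by
  refine subset_antisymm ?_ fun p hp => ?_
  · rintro _ ⟨q, hq, rfl⟩
    exact fun i hi => (show b ≤ q.asIdeal from hq) hi
  · set ι := algebraMap (GLin.invariants k A B) B
    let φ := (Ideal.Quotient.mk b).comp ι
    have hle : (p.asIdeal.map φ).comap φ ≤ p.asIdeal := fun i hi => by
      rw [Ideal.mem_comap, ← Ideal.map_map, RingHom.comp_apply, ← Ideal.mem_comap,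
        Ideal.comap_map_of_surjective _ Ideal.Quotient.mk_surjective, ← RingHom.ker_eq_comap_bot, Ideal.mk_ker] at hi
      obtain ⟨y, hy, z, hz, hyz⟩ := Submodule.mem_sup.mp hi
      have hR : reynoldsInv hα (ι i) = reynoldsInv hα y + reynoldsInv hα z := by rw [← hyz, map_add]
      rw [reynoldsInv_algebraMap hα h1] at hR
      rw [hR]
      refine p.asIdeal.add_mem (reynoldsInv_mem_of_mem_map hα _ hy) ((show b.comap ι ≤ p.asIdeal from hp) ?_)
      exact reynolds_mem_of_isSubcomod α hb (fun c x hx => b.mul_mem_left c hx) hz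
    obtain ⟨q, hqp, hq⟩ := (Ideal.comap_map_eq_self_iff_of_isPrime (f := φ) p.asIdeal).mp
      (le_antisymm hle Ideal.le_comap_map)
    refine ⟨⟨q.comap (Ideal.Quotient.mk b), inferInstance⟩, fun x hx => ?_, PrimeSpectrum.ext ?_⟩
    · show Ideal.Quotient.mk b x ∈ q
      rw [Ideal.Quotient.eq_zero_iff_mem.mpr hx]
      exact q.zero_mem
    · exact hq

/-- The map `(x ⊗ p) ⊗ a ↦ x α(S(p) a)`. -/
noncomputable def retractionAux (α : A →ₗ[k] B) : (B ⊗[k] A) ⊗[k] A →ₗ[k] B :=
  LinearMap.mul' k B ∘ₗ (α ∘ₗ LinearMap.mul' k A ∘ₗ (HopfAlgebra.antipode k).rTensor A).lTensor B ∘ₗ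
    (TensorProduct.assoc k B A A).toLinearMap

theorem retractionAux_tmul (α : A →ₗ[k] B) (x : B) (p a : A) :
    retractionAux α ((x ⊗ₜ[k] p) ⊗ₜ[k] a) = x * α (HopfAlgebra.antipode k p * a) := by
  simp [retractionAux]

/-- The retraction of the coaction attached to a total integral. -/
noncomputable def retraction (α : A →ₗ[k] B) : Hoch.Ind k A B →ₗ[k] B :=
  retractionAux α ∘ₗ (HopfRep.Comod.coact (k := k) (A := A)).rTensor A ∘ₗ (Hoch.Ind.equiv k A B).symm.toLinearMap

omit [GLin.IsCoactAlg k A B] in
theorem retraction_equiv (α : A →ₗ[k] B) (z : B ⊗[k] A) :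
    retraction α (Hoch.Ind.equiv k A B z) =
      retractionAux α ((HopfRep.Comod.coact (k := k) (A := A)).rTensor A z) := by
  simp [retraction]

theorem retraction_toInd {α : A →ₗ[k] B} (h1 : α 1 = 1) : retraction α ∘ₗ Hoch.toInd k A B = LinearMap.id := by
  refine LinearMap.ext fun b => ?_
  have hc := congrArg (TensorProduct.assoc k B A A).symm
    (LinearMap.congr_fun (HopfRep.Comod.coassoc (k := k) (A := A) (V := B)) b)
  simp only [LinearMap.comp_apply, LinearEquiv.coe_coe, LinearEquiv.symm_apply_apply] at hc
  show retraction α (Hoch.Ind.equiv k A B (HopfRep.Comod.coact (k := k) (A := A) b)) = b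
  rw [retraction_equiv, hc]
  have h2 := congrArg (TensorProduct.rid k B)
    (LinearMap.congr_fun (HopfRep.Comod.counit_comp (k := k) (A := A) (V := B)) b)
  simp only [LinearMap.comp_apply, LinearMap.flip_apply, TensorProduct.mk_apply, TensorProduct.rid_tmul, one_smul] at h2
  refine Eq.trans ?_ h2
  induction HopfRep.Comod.coact (k := k) (A := A) b using TensorProduct.induction_on with
  | zero => simp
  | add p q hp hq => simp only [map_add, hp, hq]
  | tmul x a =>
    simp [retractionAux, Algebra.algebraMap_eq_smul_one, map_smul, h1, Algebra.mul_smul_comm]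

theorem isComodHom_retraction {α : A →ₗ[k] B} (hα : Hoch.IsComodHom A α) : Hoch.IsComodHom A (retraction α) := by
  refine LinearMap.ext fun z => ?_
  obtain ⟨z, rfl⟩ := (Hoch.Ind.equiv k A B).surjective z
  simp only [LinearMap.comp_apply, retraction_equiv]
  induction z using TensorProduct.induction_on with
  | zero => simp
  | add p q hp hq => simp only [map_add, hp, hq]
  | tmul b a =>
    rw [LinearMap.rTensor_tmul, Hoch.Ind.coact_equiv_tmul]
    let G : A →ₗ[k] B ⊗[k] A :=
      α.rTensor A ∘ₗ LinearMap.mulRight k (Coalgebra.comul (R := k) a) ∘ₗ Coalgebra.comul (R := k) ∘ₗ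
        HopfAlgebra.antipode k
    let Ψ : (B ⊗[k] A) ⊗[k] A →ₗ[k] B ⊗[k] A := LinearMap.mul' k (B ⊗[k] A) ∘ₗ G.lTensor (B ⊗[k] A)
    have key1 : ∀ y : B ⊗[k] A, HopfRep.Comod.coact (k := k) (A := A) (retractionAux α (y ⊗ₜ[k] a)) =
        Ψ ((HopfRep.Comod.coact (k := k) (A := A)).rTensor A y) := fun y => by
      induction y using TensorProduct.induction_on with
      | zero => simp
      | add p q hp hq => simp only [add_tmul, map_add, hp, hq]
      | tmul x p =>
        have hp : HopfRep.Comod.coact (k := k) (A := A) (α (HopfAlgebra.antipode k p * a)) =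
            α.rTensor A (Coalgebra.comul (R := k) (HopfAlgebra.antipode k p * a)) := LinearMap.congr_fun hα _
        simp [retractionAux_tmul, GLin.IsCoactAlg.coact_mul, hp, Ψ, G, Bialgebra.comul_mul]
    have key2 : ∀ y : B ⊗[k] A,
        Ψ ((TensorProduct.assoc k B A A).symm ((Coalgebra.comul (R := k)).lTensor B y)) =
          (retractionAux α ∘ₗ TensorProduct.mk k (B ⊗[k] A) A y).rTensor A (Coalgebra.comul (R := k) a) := fun y => by
      induction y using TensorProduct.induction_on with
      | zero => simp
      | add p q hp hq =>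
        simp only [map_add, LinearMap.comp_add, LinearMap.rTensor_add, LinearMap.add_apply, hp, hq]
      | tmul x q₀ =>
        let Tx : A ⊗[k] A →ₗ[k] B ⊗[k] A := (LinearMap.mulLeft k x ∘ₗ α).rTensor A
        have hTx : ∀ (p : A) (e : A ⊗[k] A), (x ⊗ₜ[k] p) * α.rTensor A e = Tx (((1 : A) ⊗ₜ[k] p) * e) := fun p e => by
          induction e using TensorProduct.induction_on with
          | zero => simp
          | tmul c d => simp [Tx]
          | add c d hc hd => simp only [mul_add, map_add, hc, hd]
        have h1 : ∀ y : A ⊗[k] A, Ψ ((TensorProduct.assoc k B A A).symm (x ⊗ₜ[k] y)) =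
            Tx (antipodeTwist y * Coalgebra.comul (R := k) a) := fun y => by
          induction y using TensorProduct.induction_on with
          | zero => simp
          | add p q hp hq => simp only [tmul_add, map_add, add_mul, hp, hq]
          | tmul p q => simp [Ψ, G, antipodeTwist_tmul, hTx, mul_assoc]
        rw [LinearMap.lTensor_tmul, h1, antipodeTwist_comul]
        induction Coalgebra.comul (R := k) a using TensorProduct.induction_on with
        | zero => simp
        | tmul c d => simp [Tx, retractionAux_tmul]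
        | add c d hc hd => simp only [mul_add, map_add, hc, hd]
    have hc := congrArg (TensorProduct.assoc k B A A).symm
      (LinearMap.congr_fun (HopfRep.Comod.coassoc (k := k) (A := A) (V := B)) b)
    simp only [LinearMap.comp_apply, LinearEquiv.coe_coe, LinearEquiv.symm_apply_apply] at hc
    rw [key1, hc, key2]
    induction Coalgebra.comul (R := k) a using TensorProduct.induction_on with
    | zero => simp only [map_zero, tmul_zero]; exact (map_zero _).symm
    | tmul c d =>
      rw [LinearMap.rTensor_tmul, TensorProduct.assoc_symm_tmul]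
      show _ = retraction α (Hoch.Ind.equiv k A B (b ⊗ₜ[k] c)) ⊗ₜ[k] d
      rw [retraction_equiv]
      rfl
    | add c d hc' hd =>
      simp only [tmul_add, map_add]
      rw [hc', hd]
      exact (map_add _ _ _).symm

end Algebra

end Groth.Agent.ComodLib
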