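import Groth.Agent.ComodLib.Integral
import Mathlib.RingTheory.HopfAlgebra.Convolution
import Mathlib.RingTheory.Trace.Basic
import Mathlib.RingTheory.TensorProduct.Free

/-!
# The trace form of a finite commutative Hopf algebra is an integral
-/

universe u v

open TensorProduct WithConv

namespace Groth.Agent.ComodLib

variable (k : Type u) [CommRing k] (A : Type v) [CommRing A] [HopfAlgebra k A]

/-- The shear map `b ⊗ a ↦ Σ b a₂ ⊗ a₁`. -/
noncomputable def shear : A ⊗[k] A →ₐ[A] A ⊗[k] A :=
  Algebra.TensorProduct.lift (Algebra.ofId A (A ⊗[k] A))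
    (((Algebra.TensorProduct.comm k A A).toAlgHom).comp (Bialgebra.comulAlgHom k A)) fun _ _ => .all _ _

/-- The inverse shear map `b ⊗ a ↦ Σ b S(a₂) ⊗ a₁`. -/
noncomputable def shearInv : A ⊗[k] A →ₐ[A] A ⊗[k] A :=
  Algebra.TensorProduct.lift (Algebra.ofId A (A ⊗[k] A))
    ((Algebra.TensorProduct.map (HopfAlgebra.antipodeAlgHom k A) (AlgHom.id k A)).comp
      (((Algebra.TensorProduct.comm k A A).toAlgHom).comp (Bialgebra.comulAlgHom k A))) fun _ _ => .all _ _

variable {k A}

theorem shear_one_tmul (a : A) :
    shear k A ((1 : A) ⊗ₜ[k] a) = TensorProduct.comm k A A (Coalgebra.comul (R := k) a) := by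
  simp only [shear, Algebra.TensorProduct.lift_tmul, map_one, one_mul]
  rfl

theorem shearInv_one_tmul (a : A) :
    shearInv k A ((1 : A) ⊗ₜ[k] a) =
      (HopfAlgebra.antipode k).rTensor A (TensorProduct.comm k A A (Coalgebra.comul (R := k) a)) := by
  simp only [shearInv, Algebra.TensorProduct.lift_tmul, map_one, one_mul, AlgHom.comp_apply,
    Bialgebra.comulAlgHom_apply]
  induction Coalgebra.comul (R := k) a using TensorProduct.induction_on with
  | zero => simp
  | tmul p q => simp
  | add p q hp hq => simp only [map_add, hp, hq]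

/-- `Σ f(a₃) g(a₂) ⊗ a₁`, as a map on `A ⊗ (A ⊗ A)`. -/
noncomputable def shearTriple (f g : A →ₗ[k] A) : A ⊗[k] (A ⊗[k] A) →ₗ[k] A ⊗[k] A :=
  (TensorProduct.comm k A A).toLinearMap ∘ₗ
    (LinearMap.mul' k A ∘ₗ TensorProduct.map g f).lTensor A

theorem shearTriple_comul (f g : A →ₗ[k] A)
    (h : ∀ a : A, LinearMap.mul' k A (TensorProduct.map g f (Coalgebra.comul (R := k) a)) =
      algebraMap k A (Coalgebra.counit (R := k) a)) (a : A) :
    shearTriple f g ((Coalgebra.comul (R := k)).lTensor A (Coalgebra.comul (R := k) a)) = (1 : A) ⊗ₜ[k] a := by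
  have h1 := congrArg (TensorProduct.rid k A) (Coalgebra.lTensor_counit_comul (R := k) a)
  rw [TensorProduct.rid_tmul, one_smul] at h1
  refine Eq.trans ?_ (congrArg ((1 : A) ⊗ₜ[k] ·) h1)
  induction Coalgebra.comul (R := k) a using TensorProduct.induction_on with
  | zero => simp
  | tmul p q => simp [shearTriple, h, Algebra.algebraMap_eq_smul_one, TensorProduct.smul_tmul]
  | add p q hp hq => simp only [map_add, tmul_add, hp, hq]

theorem shear_shearInv : (shear k A).comp (shearInv k A) = AlgHom.id A (A ⊗[k] A) := by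
  refine Algebra.TensorProduct.ext' fun b a => ?_
  rw [show b ⊗ₜ[k] a = b • ((1 : A) ⊗ₜ[k] a) by rw [TensorProduct.smul_tmul', smul_eq_mul, mul_one],
    map_smul, map_smul]
  congr 1
  rw [AlgHom.id_apply, AlgHom.comp_apply, shearInv_one_tmul]
  have key : ∀ z : A ⊗[k] A, shear k A ((HopfAlgebra.antipode k).rTensor A (TensorProduct.comm k A A z)) =
      shearTriple (HopfAlgebra.antipode k) LinearMap.id
        (TensorProduct.assoc k A A A ((Coalgebra.comul (R := k)).rTensor A z)) := fun z => by
    induction z using TensorProduct.induction_on with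
    | zero => simp
    | add p q hp hq => simp only [map_add, hp, hq]
    | tmul p q =>
      rw [TensorProduct.comm_tmul, LinearMap.rTensor_tmul,
        show HopfAlgebra.antipode k q ⊗ₜ[k] p = HopfAlgebra.antipode k q • ((1 : A) ⊗ₜ[k] p) by
          rw [TensorProduct.smul_tmul', smul_eq_mul, mul_one], map_smul, shear_one_tmul, LinearMap.rTensor_tmul]
      induction Coalgebra.comul (R := k) p using TensorProduct.induction_on with
      | zero => simp
      | add x y hx hy => simp only [map_add, smul_add, add_tmul, hx, hy]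
      | tmul x y => simp [shearTriple, TensorProduct.smul_tmul', mul_comm]
  rw [key, Coalgebra.coassoc_apply]
  exact shearTriple_comul _ _ (fun c => by
    rw [← HopfAlgebra.mul_antipode_lTensor_comul_apply (R := k) c]
    rfl) a

theorem shearInv_shear : (shearInv k A).comp (shear k A) = AlgHom.id A (A ⊗[k] A) := by
  refine Algebra.TensorProduct.ext' fun b a => ?_
  rw [show b ⊗ₜ[k] a = b • ((1 : A) ⊗ₜ[k] a) by rw [TensorProduct.smul_tmul', smul_eq_mul, mul_one],
    map_smul, map_smul]
  congr 1
  rw [AlgHom.id_apply, AlgHom.comp_apply, shear_one_tmul]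
  have key : ∀ z : A ⊗[k] A, shearInv k A (TensorProduct.comm k A A z) =
      shearTriple LinearMap.id (HopfAlgebra.antipode k)
        (TensorProduct.assoc k A A A ((Coalgebra.comul (R := k)).rTensor A z)) := fun z => by
    induction z using TensorProduct.induction_on with
    | zero => simp
    | add p q hp hq => simp only [map_add, hp, hq]
    | tmul p q =>
      rw [TensorProduct.comm_tmul,
        show q ⊗ₜ[k] p = q • ((1 : A) ⊗ₜ[k] p) by rw [TensorProduct.smul_tmul', smul_eq_mul, mul_one],
        map_smul, shearInv_one_tmul, LinearMap.rTensor_tmul]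
      induction Coalgebra.comul (R := k) p using TensorProduct.induction_on with
      | zero => simp
      | add x y hx hy => simp only [map_add, smul_add, add_tmul, hx, hy]
      | tmul x y => simp [shearTriple, TensorProduct.smul_tmul', mul_comm]
  rw [key, Coalgebra.coassoc_apply]
  exact shearTriple_comul _ _ (fun c => by
    rw [← HopfAlgebra.mul_antipode_rTensor_comul_apply (R := k) c]
    rfl) a

variable (k A)

/-- The trace form is an integral. -/
theorem isIntegral_trace [Module.Free k A] [Module.Finite k A] : IsIntegral k (Algebra.trace k A) := by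
  intro a
  apply (TensorProduct.lid k A).injective
  rw [TensorProduct.lid_tmul, ← Algebra.algebraMap_eq_smul_one]
  have key : ∀ z : A ⊗[k] A, TensorProduct.lid k A ((Algebra.trace k A).rTensor A z) =
      Algebra.trace A (A ⊗[k] A) (TensorProduct.comm k A A z) := fun z => by
    induction z using TensorProduct.induction_on with
    | zero => simp
    | add p q hp hq => simp only [map_add, hp, hq]
    | tmul p q =>
      rw [TensorProduct.comm_tmul, show q ⊗ₜ[k] p = q • ((1 : A) ⊗ₜ[k] p) by
        rw [TensorProduct.smul_tmul', smul_eq_mul, mul_one], map_smul, Algebra.trace_apply]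
      have hbc : Algebra.lmul A (A ⊗[k] A) ((1 : A) ⊗ₜ[k] p) = (Algebra.lmul k A p).baseChange A := by
        refine TensorProduct.AlgebraTensorModule.ext fun x y => ?_
        simp
      rw [hbc, LinearMap.trace_baseChange, LinearMap.rTensor_tmul, TensorProduct.lid_tmul, Algebra.trace_apply,
        smul_eq_mul, Algebra.smul_def, mul_comm]
  rw [key, ← shear_one_tmul]
  let e : (A ⊗[k] A) ≃ₐ[A] (A ⊗[k] A) := AlgEquiv.ofAlgHom (shear k A) (shearInv k A) shear_shearInv shearInv_shear
  show Algebra.trace A (A ⊗[k] A) (e ((1 : A) ⊗ₜ[k] a)) = _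
  rw [Algebra.trace_eq_of_algEquiv]
  have hbc : Algebra.lmul A (A ⊗[k] A) ((1 : A) ⊗ₜ[k] a) = (Algebra.lmul k A a).baseChange A := by
    refine TensorProduct.AlgebraTensorModule.ext fun x y => ?_
    simp
  rw [Algebra.trace_apply, hbc, LinearMap.trace_baseChange, ← Algebra.trace_apply]

end Groth.Agent.ComodLib
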